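import Cfsg.Agent.Lib.Spor.GTwoTwoLocal.Half
import Cfsg.Prelude.Def_Transfer

/-!
The involution centralizer read off from two normal copies of SL₂(3).
-/

set_option autoImplicit false
set_option maxRecDepth 100000
set_option linter.style.haveILetI false

namespace Cfsg.Agent.GTwoTwoLocal

theorem central_iff : ∀ i : Fin 24, (∀ j : Fin 24, m24 i.1 j.1 = m24 j.1 i.1) ↔ i.1 = 0 ∨ i.1 = 12 := by
  decide +kernel

/-- packed witnesses for the generation by elements of order three -/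
def threeW (i : ℕ) : ℕ :=
  [0, 5256, 3528, 1728, 2304, 2880, 3456, 2376, 3576, 5184, 5280, 8136, 3579, 8184, 8064, 8160, 12744, 8280, 11616,
    11640, 11520, 2952, 12672, 12768].getD i 0

theorem three_gen : ∀ i : Fin 24, ∀ j k l : ℕ, j = threeW i.1 % 24 → k = threeW i.1 / 24 % 24 →
    l = threeW i.1 / 576 % 24 → m24 (m24 j j) j = 0 ∧ m24 (m24 k k) k = 0 ∧ m24 (m24 l l) l = 0 ∧
      m24 (m24 j k) l = i.1 := by
  intro i j k l hj hk hl
  subst hj hk hl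
  revert i
  decide +kernel

theorem nrm_eq_cases : ∀ a b c d : Fin 24, nrm a.1 b.1 0 = nrm c.1 d.1 0 →
    (a.1 = c.1 ∧ b.1 = d.1) ∨ (a.1 = sh c.1 ∧ b.1 = sh d.1) := by
  have key : ∀ p q : Fin 24, nrm p.1 q.1 0 =
      if q.1 < 12 then 24 * p.1 + 2 * q.1 else 24 * ((p.1 + 12) % 24) + 2 * (q.1 - 12) := by decide +kernel
  intro a b c d h
  rw [key, key] at h
  have ha := a.2; have hb := b.2; have hc := c.2; have hd := d.2
  show _ ∨ (a.1 = (c.1 + 12) % 24 ∧ b.1 = (d.1 + 12) % 24)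
  split_ifs at h <;> omega

namespace Half

variable {G : Type*} [Group G] (B : Half G)

/-- membership in the product of the two factors -/
def El (g : G) : Prop := ∃ p q, p < 24 ∧ q < 24 ∧ B.el p q = g

/-- the two factors are normal of index two in the centralizer of the central involution -/
structure Good : Prop where
  central : ∀ g, B.El g → g * B.z = B.z * g
  outer : ∃ x : G, x * B.z = B.z * x ∧ ¬ B.El x
  prod : ∀ x y : G, x * B.z = B.z * x → y * B.z = B.z * y → ¬ B.El x → ¬ B.El y → B.El (x * y)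
  conj1 : ∀ x : G, x * B.z = B.z * x → ∀ i < 24, ∃ j < 24, B.f1 j = x * B.f1 i * x⁻¹
  conj2 : ∀ x : G, x * B.z = B.z * x → ∀ i < 24, ∃ j < 24, B.f2 j = x * B.f2 i * x⁻¹

theorem El_pre {k i l j : ℕ} (hk : k < 2) (hi : i < 24) (hl : l < 2) (hj : j < 24) (g : G) :
    (B.pre hk hi hl hj).El g ↔ B.El g := by
  constructor
  · rintro ⟨p, q, hp, hq, rfl⟩
    exact ⟨_, _, sig_lt hi hp, sig_lt hj hq, (B.pre_el hk hi hl hj p q).symm⟩
  · rintro ⟨p, q, hp, hq, rfl⟩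
    obtain ⟨p', q', hp', hq', e⟩ := B.pre_surj hk hi hl hj hp hq
    exact ⟨p', q', hp', hq', e⟩

theorem Good.pre {k i l j : ℕ} (h : B.Good) (hk : k < 2) (hi : i < 24) (hl : l < 2) (hj : j < 24) :
    (B.pre hk hi hl hj).Good where
  central g hg := by rw [pre_z]; exact h.central g ((B.El_pre hk hi hl hj g).1 hg)
  outer := by
    obtain ⟨x, hx, hx'⟩ := h.outer
    exact ⟨x, by rw [pre_z]; exact hx, fun e => hx' ((B.El_pre hk hi hl hj x).1 e)⟩
  prod x y hx hy h1 h2 := by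
    rw [pre_z] at hx hy
    rw [El_pre] at h1 h2 ⊢
    exact h.prod x y hx hy h1 h2
  conj1 x hx a ha := by
    rw [pre_z] at hx
    obtain ⟨b, hb, e⟩ := h.conj1 x hx _ (sig_lt (k := k) hi ha)
    obtain ⟨c, hc⟩ := (sig_facts ⟨k, hk⟩ ⟨i, hi⟩).2.1 ⟨b, hb⟩
    exact ⟨c.1, c.2, by show B.f1 (sig k i c.1) = _; rw [hc]; exact e⟩
  conj2 x hx a ha := by
    rw [pre_z] at hx
    obtain ⟨b, hb, e⟩ := h.conj2 x hx _ (sig_lt (k := l) hj ha)
    obtain ⟨c, hc⟩ := (sig_facts ⟨l, hl⟩ ⟨j, hj⟩).2.1 ⟨b, hb⟩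
    exact ⟨c.1, c.2, by show B.f2 (sig l j c.1) = _; rw [hc]; exact e⟩

theorem El_mul {a b : G} (ha : B.El a) (hb : B.El b) : B.El (a * b) := by
  obtain ⟨p, q, hp, hq, rfl⟩ := ha
  obtain ⟨p', q', hp', hq', rfl⟩ := hb
  exact ⟨_, _, m24_lt ⟨p, hp⟩ ⟨p', hp'⟩, m24_lt ⟨q, hq⟩ ⟨q', hq'⟩, B.el_mul hp hq hp' hq'⟩

theorem El_inv {a : G} (ha : B.El a) : B.El a⁻¹ := by
  obtain ⟨p, q, hp, hq, rfl⟩ := ha
  exact ⟨_, _, i24_lt ⟨p, hp⟩, i24_lt ⟨q, hq⟩, B.el_inv hp hq⟩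

/-- an element of the centralizer times an element outside -/
theorem Good.not_El_mul (h : B.Good) {a x : G} (ha : B.El a) (hx : ¬ B.El x) : ¬ B.El (a * x) := fun e =>
  hx (by simpa using B.El_mul (B.El_inv ha) e)

/-- commutators of elements of the centralizer lie in the product of the factors -/
theorem Good.comm_El (h : B.Good) {x y : G} (hx : x * B.z = B.z * x) (hy : y * B.z = B.z * y) :
    B.El (x * y * x⁻¹ * y⁻¹) := by
  have hxi : x⁻¹ * B.z = B.z * x⁻¹ := ((show Commute x B.z from hx).inv_left).eq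
  have hyi : y⁻¹ * B.z = B.z * y⁻¹ := ((show Commute y B.z from hy).inv_left).eq
  have hni : ∀ w : G, ¬ B.El w → ¬ B.El w⁻¹ := fun w hw e => hw (by simpa using B.El_inv e)
  have hxy : (x * y) * B.z = B.z * (x * y) := by rw [mul_assoc, hy, ← mul_assoc, hx, mul_assoc]
  have hxyi : (x⁻¹ * y⁻¹) * B.z = B.z * (x⁻¹ * y⁻¹) := by rw [mul_assoc, hyi, ← mul_assoc, hxi, mul_assoc]
  rw [show x * y * x⁻¹ * y⁻¹ = x * y * (x⁻¹ * y⁻¹) by group]
  by_cases a : B.El x <;> by_cases b : B.El y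
  · exact B.El_mul (B.El_mul a b) (B.El_mul (B.El_inv a) (B.El_inv b))
  · exact h.prod _ _ hxy hxyi (h.not_El_mul B a b) (h.not_El_mul B (B.El_inv a) (hni y b))
  · refine h.prod _ _ hxy hxyi (fun e => a ?_) fun e => hni x a ?_
    · simpa using B.El_mul e (B.El_inv b)
    · simpa using B.El_mul e b
  · exact B.El_mul (h.prod _ _ hx hy a b) (h.prod _ _ hxi hyi (hni x a) (hni y b))

end Half

/-- element `i` of SL₂(3), with the index reduced -/
def toS (i : ℕ) : Matrix.SpecialLinearGroup (Fin 2) (ZMod 3) := matS ⟨i % 24, Nat.mod_lt _ (by norm_num)⟩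

theorem toS_mul {i j : ℕ} (hi : i < 24) (hj : j < 24) : toS (m24 i j) = toS i * toS j := by
  simp only [toS, Nat.mod_eq_of_lt hi, Nat.mod_eq_of_lt hj, Nat.mod_eq_of_lt (m24_lt ⟨i, hi⟩ ⟨j, hj⟩), matS_mul]

theorem toS_inj {i j : ℕ} (hi : i < 24) (hj : j < 24) (h : toS i = toS j) : i = j := by
  have := matS_inj _ _ h
  simpa [Fin.ext_iff, Nat.mod_eq_of_lt hi, Nat.mod_eq_of_lt hj] using this

theorem toS_zero : toS 0 = 1 := by decide +kernel

theorem toS_surj (A : Matrix.SpecialLinearGroup (Fin 2) (ZMod 3)) : ∃ i < 24, toS i = A := by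
  obtain ⟨i, hi⟩ := matS_surj A
  exact ⟨i.1, i.2, by simp only [toS, Nat.mod_eq_of_lt i.2, Fin.eta]; exact hi⟩

theorem exists_good {G : Type*} [Group G] (H H₁ H₂ : Subgroup G) (h1 : H₁ ≤ H) (h2 : H₂ ≤ H)
    (hn1 : (H₁.subgroupOf H).Normal) (hn2 : (H₂.subgroupOf H).Normal)
    (e1 : ↥H₁ ≃* Matrix.SpecialLinearGroup (Fin 2) (ZMod 3))
    (e2 : ↥H₂ ≃* Matrix.SpecialLinearGroup (Fin 2) (ZMod 3)) (hidx : (H₁ ⊔ H₂).relIndex H = 2)
    (hint1 : H₁ ⊓ H₂ = H₁ ⊓ Subgroup.centralizer (H₁ : Set G))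
    (hint2 : H₁ ⊓ H₂ = H₂ ⊓ Subgroup.centralizer (H₂ : Set G))
    (hHC : H = Subgroup.centralizer ((H₁ ⊓ H₂ : Subgroup G) : Set G)) :
    ∃ B : Half G, B.Good ∧ B.z ∈ H₁ ⊓ H₂ ∧ ∀ g : G, g ∈ H ↔ g * B.z = B.z * g := by
  let f1 : ℕ → G := fun i => (e1.symm (toS i) : G)
  let f2 : ℕ → G := fun i => (e2.symm (toS i) : G)
  have m1 : ∀ i j, i < 24 → j < 24 → f1 (m24 i j) = f1 i * f1 j := fun i j hi hj => by
    simp only [f1, toS_mul hi hj, map_mul, Subgroup.coe_mul]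
  have m2 : ∀ i j, i < 24 → j < 24 → f2 (m24 i j) = f2 i * f2 j := fun i j hi hj => by
    simp only [f2, toS_mul hi hj, map_mul, Subgroup.coe_mul]
  have i1 : ∀ i j, i < 24 → j < 24 → f1 i = f1 j → i = j := fun i j hi hj e =>
    toS_inj hi hj (e1.symm.injective (Subtype.ext e))
  have i2 : ∀ i j, i < 24 → j < 24 → f2 i = f2 j → i = j := fun i j hi hj e =>
    toS_inj hi hj (e2.symm.injective (Subtype.ext e))
  have mem1 : ∀ i, f1 i ∈ H₁ := fun i => (e1.symm (toS i)).2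
  have mem2 : ∀ i, f2 i ∈ H₂ := fun i => (e2.symm (toS i)).2
  have on1 : ∀ h ∈ H₁, ∃ i < 24, f1 i = h := fun h hh => by
    obtain ⟨i, hi, e⟩ := toS_surj (e1 ⟨h, hh⟩)
    exact ⟨i, hi, by simp only [f1, e, MulEquiv.symm_apply_apply]⟩
  have on2 : ∀ h ∈ H₂, ∃ i < 24, f2 i = h := fun h hh => by
    obtain ⟨i, hi, e⟩ := toS_surj (e2 ⟨h, hh⟩)
    exact ⟨i, hi, by simp only [f2, e, MulEquiv.symm_apply_apply]⟩
  have hmeet : ∀ (f : ℕ → G) (L : Subgroup G), (∀ i j, i < 24 → j < 24 → f (m24 i j) = f i * f j) →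
      (∀ i j, i < 24 → j < 24 → f i = f j → i = j) → (∀ i, f i ∈ L) → (∀ h ∈ L, ∃ i < 24, f i = h) →
      H₁ ⊓ H₂ = L ⊓ Subgroup.centralizer (L : Set G) →
      f 12 ∈ H₁ ⊓ H₂ ∧ (∀ x ∈ H₁ ⊓ H₂, ∃ i, (i = 0 ∨ i = 12) ∧ f i = x) ∧ f 0 = 1 := by
    intro f L m inj mem on hint
    refine ⟨?_, fun x hx => ?_, ?_⟩
    · rw [hint]
      refine ⟨mem 12, Subgroup.mem_centralizer_iff.2 fun y hy => ?_⟩
      obtain ⟨j, hj, rfl⟩ := on y hy
      rw [← m j 12 hj (by norm_num), ← m 12 j (by norm_num) hj,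
        ((central_iff ⟨12, by norm_num⟩).2 (Or.inr rfl)) ⟨j, hj⟩]
    · rw [hint] at hx
      obtain ⟨i, hi, rfl⟩ := on x hx.1
      refine ⟨i, (central_iff ⟨i, hi⟩).1 fun j => ?_, rfl⟩
      exact inj _ _ (m24_lt ⟨i, hi⟩ j) (m24_lt j ⟨i, hi⟩)
        (by rw [m _ _ hi j.2, m _ _ j.2 hi]; exact (Subgroup.mem_centralizer_iff.1 hx.2 _ (mem j.1)).symm)
    · have h := m 0 0 (by norm_num) (by norm_num)
      rw [show m24 0 0 = 0 by decide +kernel] at h
      exact left_eq_mul.1 h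
  obtain ⟨z1, k1, f10⟩ := hmeet f1 H₁ m1 i1 mem1 on1 hint1
  obtain ⟨z2, k2, f20⟩ := hmeet f2 H₂ m2 i2 mem2 on2 hint2
  have hzz : f1 12 = f2 12 := by
    obtain ⟨i, hi, e⟩ := k1 _ z2
    rcases hi with rfl | rfl
    · exact absurd (i2 12 0 (by norm_num) (by norm_num) (by rw [f20, ← e, f10])) (by norm_num)
    · exact e
  have hH : ∀ g : G, g ∈ H ↔ g * f1 12 = f1 12 * g := by
    intro g
    rw [hHC, Subgroup.mem_centralizer_iff]
    refine ⟨fun h => (h _ z1).symm, fun h x hx => ?_⟩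
    obtain ⟨i, hi, rfl⟩ := k1 x hx
    rcases hi with rfl | rfl
    · rw [f10, one_mul, mul_one]
    · exact h.symm
  have hzH : ∀ g ∈ H, g * f1 12 * g⁻¹ = f1 12 := fun g hg => by rw [(hH g).1 hg]; group
  have hz2 : f1 12 * f1 12 = 1 := by
    rw [← m1 12 12 (by norm_num) (by norm_num), show m24 12 12 = 0 by decide +kernel, f10]
  have hcomm : ∀ i j, i < 24 → j < 24 → f1 i * f2 j = f2 j * f1 i := by
    intro i j hi hj
    have base : ∀ i, i < 24 → m24 (m24 i i) i = 0 → ∀ j, j < 24 → Commute (f1 i) (f2 j) := by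
      intro i hi h3 j hj
      set a := f1 i with ha
      set b := f2 j with hb
      have hbH : b ∈ H := h2 (mem2 j)
      have h1' : b * a * b⁻¹ ∈ H₁ := hn1.conj_mem (⟨a, h1 (mem1 i)⟩ : H) (mem1 i) ⟨b, hbH⟩
      have h2' : a * b⁻¹ * a⁻¹ ∈ H₂ := hn2.conj_mem (⟨b⁻¹, inv_mem hbH⟩ : H) (inv_mem (mem2 j)) ⟨a, h1 (mem1 i)⟩
      have hmem : b * a * b⁻¹ * a⁻¹ ∈ H₁ ⊓ H₂ := by
        refine ⟨H₁.mul_mem h1' (H₁.inv_mem (mem1 i)), ?_⟩
        rw [show b * a * b⁻¹ * a⁻¹ = b * (a * b⁻¹ * a⁻¹) by group]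
        exact mul_mem (mem2 j) h2'
      obtain ⟨k, hk, e⟩ := k1 _ hmem
      have ha3 : a * a * a = 1 := by
        rw [ha, ← m1 i i hi hi, ← m1 _ i (m24_lt ⟨i, hi⟩ ⟨i, hi⟩) hi, h3, f10]
      rcases hk with rfl | rfl
      · show a * b = b * a
        rw [f10] at e
        calc a * b = (b * a * b⁻¹ * a⁻¹) * (a * b) := by rw [← e, one_mul]
          _ = b * a := by group
      · exfalso
        have hc : a * f1 12 = f1 12 * a := (hH a).1 (h1 (mem1 i))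
        have h4 : b * a * b⁻¹ = f1 12 * a := by rw [e]; group
        have h5 : (b * a * b⁻¹) * (b * a * b⁻¹) * (b * a * b⁻¹) = 1 := by
          rw [show (b * a * b⁻¹) * (b * a * b⁻¹) * (b * a * b⁻¹) = b * (a * a * a) * b⁻¹ by group, ha3]; group
        rw [h4, show f1 12 * a * (f1 12 * a) * (f1 12 * a) = f1 12 * (a * f1 12) * (a * f1 12) * a by group, hc,
          show f1 12 * (f1 12 * a) * (f1 12 * a) * a = (f1 12 * f1 12) * (a * f1 12) * (a * a) by group, hz2, hc,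
          show 1 * (f1 12 * a) * (a * a) = f1 12 * (a * a * a) by group, ha3, mul_one, ← f10] at h5
        exact absurd (i1 12 0 (by norm_num) (by norm_num) h5) (by norm_num)
    obtain ⟨ha, hb, hl, h⟩ := three_gen ⟨i, hi⟩ _ _ _ rfl rfl rfl
    simp only at h ha hb hl
    set a := threeW i % 24 with haE
    set b := threeW i / 24 % 24 with hbE
    set l := threeW i / 576 % 24 with hlE
    have la : a < 24 := Nat.mod_lt _ (by norm_num)
    have lb : b < 24 := Nat.mod_lt _ (by norm_num)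
    have ll : l < 24 := Nat.mod_lt _ (by norm_num)
    rw [← h, m1 _ _ (m24_lt ⟨a, la⟩ ⟨b, lb⟩) ll, m1 _ _ la lb]
    exact (((base _ la ha j hj).mul_left (base _ lb hb j hj)).mul_left (base _ ll hl j hj)).eq
  have meet : ∀ i j, i < 24 → j < 24 → f1 i = f2 j → (i = 0 ∨ i = 12) ∧ j = i := by
    intro i j hi hj e
    obtain ⟨k, hk, e'⟩ := k1 (f1 i) ⟨mem1 i, e ▸ mem2 j⟩
    have := i1 k i (by omega) hi e'
    subst this
    refine ⟨hk, i2 _ _ hj (by omega) ?_⟩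
    rw [← e]
    rcases hk with rfl | rfl
    · rw [f10, f20]
    · exact hzz
  let B : Half G :=
    ⟨f1, f2, m1, m2, hcomm, hzz, fun i hi e => i1 i 0 hi (by norm_num) (e.trans f10.symm),
      fun i hi e => i2 i 0 hi (by norm_num) (e.trans f20.symm), meet⟩
  have hEl : ∀ g, B.El g ↔ g ∈ H₁ ⊔ H₂ := by
    intro g
    refine ⟨?_, fun hg => ?_⟩
    · rintro ⟨p, q, -, -, rfl⟩
      exact Subgroup.mul_mem_sup (mem1 p) (mem2 q)
    · let L : Subgroup G :=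
        { carrier := {g | B.El g}
          one_mem' := ⟨0, 0, by norm_num, by norm_num, by rw [Half.el, B.f1_zero, B.f2_zero, one_mul]⟩
          mul_mem' := B.El_mul
          inv_mem' := B.El_inv }
      refine (sup_le (fun h hh => ?_) (fun h hh => ?_) : H₁ ⊔ H₂ ≤ L) hg
      · obtain ⟨i, hi, rfl⟩ := on1 h hh
        exact ⟨i, 0, hi, by norm_num, by rw [Half.el, B.f2_zero, mul_one]⟩
      · obtain ⟨i, hi, rfl⟩ := on2 h hh
        exact ⟨0, i, by norm_num, hi, by rw [Half.el, B.f1_zero, one_mul]⟩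
  have hidx' : ((H₁ ⊔ H₂).subgroupOf H).index = 2 := hidx
  refine ⟨B, ⟨?_, ?_, ?_, ?_, ?_⟩, z1, hH⟩
  · exact fun g hg => (hH g).1 (sup_le h1 h2 ((hEl g).1 hg))
  · by_contra hc
    push Not at hc
    have : (H₁ ⊔ H₂).subgroupOf H = ⊤ := Subgroup.subgroupOf_eq_top.2 fun x hx => (hEl x).1 (hc x ((hH x).1 hx))
    rw [this, Subgroup.index_top] at hidx'
    omega
  · intro x y hx hy hxn hyn
    rw [hEl] at hxn hyn ⊢
    have := (Subgroup.mul_mem_iff_of_index_two hidx' (a := ⟨x, (hH x).2 hx⟩) (b := ⟨y, (hH y).2 hy⟩))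
    simp only [Subgroup.mem_subgroupOf, Subgroup.coe_mul] at this
    exact this.2 (iff_of_false hxn hyn)
  · intro x hx i _
    obtain ⟨j, hj, e⟩ := on1 _ (hn1.conj_mem (⟨f1 i, h1 (mem1 i)⟩ : H) (mem1 i) ⟨x, (hH x).2 hx⟩)
    exact ⟨j, hj, e⟩
  · intro x hx i _
    obtain ⟨j, hj, e⟩ := on2 _ (hn2.conj_mem (⟨f2 i, h2 (mem2 i)⟩ : H) (mem2 i) ⟨x, (hH x).2 hx⟩)
    exact ⟨j, hj, e⟩

end Cfsg.Agent.GTwoTwoLocal
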