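import Cfsg.Agent.Lib.Spor.GTwoTwoLocal.PBound

/-!
Evaluating the certificate words in a group satisfying the relations of the amalgam.
-/

set_option autoImplicit false
set_option maxRecDepth 100000
set_option linter.style.haveILetI false

namespace Cfsg.Agent.GTwoTwoLocal

open Cfsg.Agent.Spor.PC

/-- the relations of the amalgam -/
structure Rels {G : Type*} [Group G] (ψ : ℕ → G) (g : G) : Prop where
  hom : CodeHom ψ
  g3 : g ^ 3 = 1
  glue : ∀ x, inT x = true → g * ψ x * g⁻¹ = ψ (rOf img0 x)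
  seven : (ψ 9 * g) ^ 7 = 1
  three : (ψ 226 * g) ^ 3 = 1

/-- codes of the first nine letters -/
def lgC : List ℕ := [144, 216, 96, 120, 12, 18, 8, 10, 1]

/-- the letters -/
def glt {G : Type*} [Group G] (ψ : ℕ → G) (g : G) (k : ℕ) : G :=
  if k < 9 then ψ (lgC.getD k 0) else if k = 9 then g else if k = 10 then g⁻¹ else 1

/-- value of a word -/
def wev {G : Type*} [Group G] (f : ℕ → G) (l : List ℕ) : G := (l.map f).prod

/-- code of a word in the first nine letters -/
def wcC : List ℕ → ℕ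
  | [] => 0
  | k :: w => mulC (lgC.getD k 0) (wcC w)

/-- inverse of a letter -/
def ivT : List ℕ := [1, 0, 3, 2, 5, 4, 7, 6, 8, 10, 9, 11, 12, 13, 14, 15]

/-- the inverse word -/
def winv (w : List ℕ) : List ℕ := w.reverse.map fun k => ivT.getD k 0

/-- the word of the new element -/
def yW (wy : List ℕ) : List ℕ := [9, 9, 8, 9] ++ wy ++ [10, 8, 10, 10]

/-- relator words of the amalgam -/
def baseW : List (List ℕ) :=
  [[1, 0], [0, 1], [3, 2], [2, 3], [5, 4], [4, 5], [7, 6], [6, 7], [8, 8], [10, 9], [9, 10],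
    [0, 0, 0], [2, 2, 2], [4, 4, 4], [6, 6, 6], [0, 3, 0, 2, 1, 2], [4, 7, 4, 6, 5, 6], [8, 8], [8, 0, 8, 0],
    [8, 2, 8, 2], [8, 4, 8, 4], [8, 6, 8, 6], [0, 4, 1, 5], [0, 6, 1, 7], [2, 4, 3, 5], [2, 6, 3, 7],
    [0, 3, 0, 0, 3, 0, 5, 6, 5, 5, 6, 5],
    [9, 9, 9], [9, 0, 2, 10, 8, 4, 7, 0, 3], [9, 4, 6, 10, 8, 4, 7, 1, 2, 0], [9, 2, 1, 6, 5, 8, 10, 8, 7, 4, 1, 2, 0],
    [9, 0, 4, 8, 10, 6, 4, 2, 0],
    [6, 8, 9, 6, 8, 9, 6, 8, 9, 6, 8, 9, 6, 8, 9, 6, 8, 9, 6, 8, 9], [1, 7, 9, 1, 7, 9, 1, 7, 9]]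

/-- relator words for the new element -/
def relY (wy : List ℕ) : List (List ℕ) :=
  [yW wy ++ [0] ++ winv (yW wy) ++ [1], yW wy ++ [4] ++ winv (yW wy) ++ [5]]

theorem lgC_lt : ∀ k : Fin 9, lgC.getD k.1 0 < 576 ∧ lgC.getD (ivT.getD k.1 0) 0 = invC (lgC.getD k.1 0) ∧
    ivT.getD k.1 0 < 9 := by decide +kernel

theorem glue_words : ∀ p ∈ [([0, 2], [8, 4, 7, 0, 3]), ([4, 6], [8, 4, 7, 1, 2, 0]),
      ([2, 1, 6, 5, 8], [8, 7, 4, 1, 2, 0]), ([0, 4, 8], [6, 4, 2, 0])],
    inT (wcC p.1) = true ∧ rOf img0 (wcC p.1) < 576 ∧ mulC (rOf img0 (wcC p.1)) (wcC p.2) = 0 := by decide +kernel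

namespace Rels

variable {G : Type*} [Group G] {ψ : ℕ → G} {g : G} (R : Rels ψ g)
include R

theorem wev_code : ∀ w : List ℕ, (∀ k ∈ w, k < 9) → wcC w < 576 ∧ wev (glt ψ g) w = ψ (wcC w)
  | [], _ => ⟨by show (0 : ℕ) < 576; norm_num, by show (1 : G) = ψ 0; rw [R.hom.one]⟩
  | k :: w, h => by
    obtain ⟨h1, h2⟩ := wev_code w fun j hj => h j (List.mem_cons_of_mem _ hj)
    have hk := h k (List.mem_cons_self ..)
    refine ⟨mulC_lt (lgC_lt ⟨k, hk⟩).1 h1, ?_⟩
    show (List.map (glt ψ g) (k :: w)).prod = ψ (mulC _ _)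
    rw [List.map_cons, List.prod_cons, R.hom.mul _ _ (lgC_lt ⟨k, hk⟩).1 h1, ← h2, glt, if_pos hk]
    rfl

theorem glt_inv : ∀ k, k < 16 → glt ψ g (ivT.getD k 0) = (glt ψ g k)⁻¹ := by
  intro k hk
  by_cases h : k < 9
  · obtain ⟨h1, h2, h3⟩ := lgC_lt ⟨k, h⟩
    rw [glt, if_pos h3, glt, if_pos h, h2, R.hom.inv h1]
  · interval_cases k <;> simp [glt, ivT]

theorem wev_winv : ∀ w : List ℕ, (∀ k ∈ w, k < 16) → wev (glt ψ g) (winv w) = (wev (glt ψ g) w)⁻¹
  | [], _ => by simp [wev, winv]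
  | k :: w, h => by
    have h2 := wev_winv w fun j hj => h j (List.mem_cons_of_mem _ hj)
    simp only [wev, winv, List.reverse_cons, List.map_append, List.prod_append, List.map_cons, List.map_nil,
      List.prod_cons, List.prod_nil, mul_one, mul_inv_rev] at h2 ⊢
    rw [h2, R.glt_inv k (h k (List.mem_cons_self ..))]

theorem base_rel : ∀ l ∈ baseW, wev (glt ψ g) l = 1 := by
  intro l hl
  have code : ∀ l, (∀ k ∈ l, k < 9) → wcC l = 0 → wev (glt ψ g) l = 1 := fun l h e => by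
    rw [(R.wev_code l h).2, e, R.hom.one]
  have glue : ∀ p ∈ [([0, 2], [8, 4, 7, 0, 3]), ([4, 6], [8, 4, 7, 1, 2, 0]), ([2, 1, 6, 5, 8], [8, 7, 4, 1, 2, 0]),
      ([0, 4, 8], [6, 4, 2, 0])], (∀ k ∈ p.1, k < 9) → (∀ k ∈ p.2, k < 9) →
      wev (glt ψ g) ([9] ++ p.1 ++ [10] ++ p.2) = 1 := fun p hp h1 h2 => by
    obtain ⟨a1, a3, a2⟩ := glue_words p hp
    have e1 := R.wev_code p.1 h1
    have e2 := R.wev_code p.2 h2
    have hg := R.glue _ a1
    simp only [wev, List.map_append, List.prod_append, List.map_cons, List.map_nil, List.prod_cons, List.prod_nil,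
      mul_one] at e1 e2 ⊢
    rw [e1.2, e2.2, show glt ψ g 9 = g from rfl, show glt ψ g 10 = g⁻¹ from rfl, hg,
      ← R.hom.mul _ _ a3 e2.1, a2, R.hom.one]
  simp only [baseW, List.mem_cons, List.not_mem_nil, or_false] at hl
  rcases hl with rfl | rfl | rfl | rfl | rfl | rfl | rfl | rfl | rfl | rfl | rfl | rfl | rfl | rfl | rfl | rfl | rfl |
    rfl | rfl | rfl | rfl | rfl | rfl | rfl | rfl | rfl | rfl | rfl | rfl | rfl | rfl | rfl | rfl | rfl
  iterate 9 exact code _ (by decide) (by decide +kernel)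
  iterate 2 simp [wev, glt]
  iterate 16 exact code _ (by decide) (by decide +kernel)
  · show wev (glt ψ g) [9, 9, 9] = 1
    rw [← R.g3]; simp [wev, glt, pow_succ, mul_assoc]
  · exact glue ([0, 2], [8, 4, 7, 0, 3]) (by simp) (by decide) (by decide)
  · exact glue ([4, 6], [8, 4, 7, 1, 2, 0]) (by simp) (by decide) (by decide)
  · exact glue ([2, 1, 6, 5, 8], [8, 7, 4, 1, 2, 0]) (by simp) (by decide) (by decide)
  · exact glue ([0, 4, 8], [6, 4, 2, 0]) (by simp) (by decide) (by decide)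
  · have e := R.wev_code [6, 8] (by decide)
    rw [show wcC [6, 8] = 9 by decide +kernel] at e
    rw [← R.seven, ← e.2]
    simp [wev, glt, pow_succ, mul_assoc]
  · have e := R.wev_code [1, 7] (by decide)
    rw [show wcC [1, 7] = 226 by decide +kernel] at e
    rw [← R.three, ← e.2]
    simp [wev, glt, pow_succ, mul_assoc]

theorem yW_eq (wy : List ℕ) (h : ∀ k ∈ wy, k < 9) :
    wev (glt ψ g) (yW wy) = g * g * ψ 1 * g * ψ (wcC wy) * (g * g * ψ 1 * g)⁻¹ := by
  have e := (R.wev_code wy h).2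
  have h1 : (ψ 1)⁻¹ = ψ 1 := by
    rw [← R.hom.inv (by norm_num), show invC 1 = 1 by decide +kernel]
  simp only [wev, yW, List.map_append, List.prod_append, List.map_cons, List.map_nil, List.prod_cons, List.prod_nil,
    mul_one] at e ⊢
  rw [e]
  simp only [glt, lgC]
  norm_num
  rw [h1]
  simp only [mul_assoc]

theorem relY_rel (wy : List ℕ) (h : ∀ k ∈ wy, k < 9) (ha : Commute (wev (glt ψ g) (yW wy)) (ψ 144))
    (hc : Commute (wev (glt ψ g) (yW wy)) (ψ 12)) : ∀ l ∈ relY wy, wev (glt ψ g) l = 1 := by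
  intro l hl
  have hlt : ∀ k ∈ yW wy, k < 16 := by
    intro k hk
    simp only [yW, List.mem_append, List.mem_cons, List.not_mem_nil, or_false] at hk
    rcases hk with (hk | hk) | hk
    · omega
    · exact (h k hk).trans (by norm_num)
    · omega
  simp only [relY, List.mem_cons, List.not_mem_nil, or_false] at hl
  have key : ∀ i j c, glt ψ g i = ψ c → glt ψ g j = (ψ c)⁻¹ → Commute (wev (glt ψ g) (yW wy)) (ψ c) →
      wev (glt ψ g) (yW wy ++ [i] ++ winv (yW wy) ++ [j]) = 1 := by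
    intro i j c hi hj hcm
    have e := R.wev_winv _ hlt
    simp only [wev, List.map_append, List.prod_append, List.map_cons, List.map_nil, List.prod_cons, List.prod_nil,
      mul_one] at e hcm ⊢
    rw [e, hi, hj, hcm.eq]
    group
  rcases hl with rfl | rfl
  · exact key 0 1 144 rfl (by rw [glt, if_pos (by norm_num), ← R.hom.inv (by norm_num)]; congr 1) ha
  · exact key 4 5 12 rfl (by rw [glt, if_pos (by norm_num), ← R.hom.inv (by norm_num)]; congr 1) hc

/-- the generators -/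
def gens (_R : Rels ψ g) : Set G := {x | ∃ k < 11, glt ψ g k = x}

/-- a certificate bounds the group generated -/
theorem cert_bound {D : Data} {m : ℕ} (hck : Checked D m) (hiw : (List.range 16).map (ivL D.iw) = ivT)
    (hnr : D.nr = 36) (hne : D.ne = 11) (wy : List ℕ) (subs : List (List ℕ))
    (hnw : D.nw = 36 + subs.length)
    (hw : ((List.range D.nw).map fun k => wDecode (fld D.words 512 k)) = baseW ++ relY wy ++ subs)
    (hmv : ((List.range D.ne).map fun k => wDecode (fld D.words 512 (D.nw + k))) = (List.range 11).map fun k => [k])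
    (hwy : ∀ k ∈ wy, k < 9) (ha : Commute (wev (glt ψ g) (yW wy)) (ψ 144))
    (hc : Commute (wev (glt ψ g) (yW wy)) (ψ 12))
    (P : Subgroup G) [Finite P] (hsub : ∀ l ∈ subs, wev (glt ψ g) l ∈ P) :
    Finite (Subgroup.closure R.gens) ∧ Nat.card (Subgroup.closure R.gens) ≤ D.nn * Nat.card P := by
  refine card_le hck (glt ψ g) P (fun k hk => ?_) (by simp [glt]) ?_ _ R.gens rfl ?_
  · have e : ivL D.iw k = ivT.getD k 0 := by
      rw [← hiw]; simp [hk]
    rw [e]; exact R.glt_inv k hk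
  · intro k hk
    have hval : wDecode (fld D.words 512 k) = (baseW ++ relY wy ++ subs).getD k [] := by
      rw [← hw]; simp [hk]
    show (k < D.nr → wev (glt ψ g) (wDecode (fld D.words 512 k)) = 1) ∧ wev (glt ψ g) (wDecode (fld D.words 512 k)) ∈ P
    rw [hval]
    have hlen : (baseW ++ relY wy).length = 36 := rfl
    have h1 : k < D.nr → wev (glt ψ g) ((baseW ++ relY wy ++ subs).getD k []) = 1 := fun hk' => by
      have hk36 : k < (baseW ++ relY wy).length := by omega
      rw [List.getD_eq_getElem?_getD, List.getElem?_append_left hk36, List.getElem?_eq_getElem hk36, Option.getD_some]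
      rcases List.mem_append.1 (List.getElem_mem hk36) with h | h
      · exact R.base_rel _ h
      · exact R.relY_rel wy hwy ha hc _ h
    refine ⟨h1, ?_⟩
    by_cases hk' : k < D.nr
    · rw [h1 hk']; exact one_mem P
    · have hk36 : (baseW ++ relY wy).length ≤ k := by omega
      have hk2 : k - (baseW ++ relY wy).length < subs.length := by omega
      rw [List.getD_eq_getElem?_getD, List.getElem?_append_right hk36, List.getElem?_eq_getElem hk2, Option.getD_some]
      exact hsub _ (List.getElem_mem hk2)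
  · rintro x ⟨k, hk, rfl⟩
    have mem : ∀ j, j < 11 → glt ψ g j ∈ moves D (glt ψ g) := fun j hj => by
      refine ⟨j, hne.symm ▸ hj, ?_⟩
      have := congrArg (fun l : List (List ℕ) => l.getD j []) hmv
      simp [hne, hj] at this
      simp [this]
    refine ⟨mem k hk, ?_⟩
    rw [← R.glt_inv k (by omega)]
    refine mem _ ?_
    interval_cases k <;> simp [ivT]

end Rels

theorem Amal.rels {G : Type*} [Group G] (A : Amal G) : Rels A.psi A.g :=
  ⟨A.codeHom, A.g3, A.glue, A.seven, A.three⟩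

end Cfsg.Agent.GTwoTwoLocal
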