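import Cfsg.Agent.Lib.Spor.JFourPres.Check
import Mathlib.LinearAlgebra.Matrix.SpecialLinearGroup
import Mathlib.Data.ZMod.Basic

/-!
Codes for the involution centralizer of G₂(3): two copies of SL₂(3) with a common centre, and an outer involution.
The code of the element with factors `p`, `q` and exponent `s` is `24 p + 2 q + s` with `q < 12`.
-/

set_option autoImplicit false
set_option maxRecDepth 100000

namespace Cfsg.Agent.GTwoTwoLocal

open Cfsg.Agent.Spor.PC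

/-- product in SL₂(3) -/
def m24 (i j : ℕ) : ℕ := fld 0x63d156964e510eb00e890c4c2b42778b8f77928d480ca28a6b1c101ab256834d67026f595092064a130e3bc69514ca382c3664aa871e2f25daa019340c882628758d2e769a0e059e92a1731d0018a45784ec67a18d2d5cb21d52525673208010465b56f39520c735f14ad4641c0508c44aded2a4d916bdd09102c50aa7a5e23341a0b393342cafa0071486e69da02431e5ab5723a88e9945058ec8955813c5c4bbd543240d5a928398a418820bdab49ca307b9ac00e890c4c2b427763d156964e510eb28a6b1c101ab2568b8f77928d480ca2064a130e3bc695834d67026f5950971e2f25daa0193414ca382c3664aa869a0e059e92a1730c882628758d2e77a18d2d5cb21d521d0018a45784ec6b56f39520c735f1525673208010465aded2a4d916bdd04ad4641c0508c44341a0b393342caf9102c50aa7a5e23431e5ab5723a88ea0071486e69da023c5c4bbd543240d9945058ec895581bdab49ca307b9ac5a928398a418820 5 (Nat.add (Nat.mul 24 i) j)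

/-- inverse in SL₂(3) -/
def i24 (i : ℕ) : ℕ := fld 0x5ba433d6114582cb88cf9a485a29a0 5 i

/-- conjugation by the diagonal matrix of determinant minus one -/
def d24 (i : ℕ) : ℕ := fld 0x9d256bd61110c2c3a0ca5a48573da0 5 i

/-- the first factor of a code -/
def cP (x : ℕ) : ℕ := Nat.div x 24
/-- the second factor of a code -/
def cQ (x : ℕ) : ℕ := Nat.mod (Nat.div x 2) 12
/-- the outer exponent of a code -/
def cS (x : ℕ) : ℕ := Nat.mod x 2

/-- normalised code -/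
def nrm (p q s : ℕ) : ℕ :=
  bif Nat.blt q 12 then Nat.add (Nat.add (Nat.mul 24 p) (Nat.mul 2 q)) s
  else Nat.add (Nat.add (Nat.mul 24 (Nat.mod (Nat.add p 12) 24)) (Nat.mul 2 (Nat.sub q 12))) s

/-- product of codes -/
def mulC (x y : ℕ) : ℕ :=
  bif Nat.beq (cS x) 0 then nrm (m24 (cP x) (cP y)) (m24 (cQ x) (cQ y)) (cS y)
  else nrm (m24 (cP x) (d24 (cP y))) (m24 (cQ x) (d24 (cQ y))) (Nat.sub 1 (cS y))

/-- inverse of a code -/
def invC (x : ℕ) : ℕ :=
  bif Nat.beq (cS x) 0 then nrm (i24 (cP x)) (i24 (cQ x)) 0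
  else nrm (d24 (i24 (cP x))) (d24 (i24 (cQ x))) 1

/-- conjugate of a code -/
def cjC (g x : ℕ) : ℕ := mulC (mulC g x) (invC g)

/-- entries of the matrices of SL₂(3) -/
def ent (i : ℕ) : ℕ × ℕ × ℕ × ℕ := [(1, 0, 0, 1), (0, 1, 2, 0), (0, 1, 2, 1), (0, 1, 2, 2), (1, 0, 1, 1), (1, 0, 2, 1), (1, 1, 0, 1), (1, 1, 1, 2), (1, 1, 2, 0), (1, 2, 0, 1), (1, 2, 1, 0), (1, 2, 2, 2), (2, 0, 0, 2), (0, 2, 1, 0), (0, 2, 1, 2), (0, 2, 1, 1), (2, 0, 2, 2), (2, 0, 1, 2), (2, 2, 0, 2), (2, 2, 2, 1), (2, 2, 1, 0), (2, 1, 0, 2), (2, 1, 2, 0), (2, 1, 1, 1)].getD i (1, 0, 0, 1)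

/-- matrix number `i` -/
def matZ2 (i : ℕ) : Matrix (Fin 2) (Fin 2) (ZMod 3) :=
  !![((ent i).1 : ZMod 3), ((ent i).2.1 : ZMod 3); ((ent i).2.2.1 : ZMod 3), ((ent i).2.2.2 : ZMod 3)]

theorem det_matZ2 : ∀ i : Fin 24, (matZ2 i.1).det = 1 := by decide +kernel

/-- element number `i` of SL₂(3) -/
def matS (i : Fin 24) : Matrix.SpecialLinearGroup (Fin 2) (ZMod 3) := ⟨matZ2 i.1, det_matZ2 i⟩

theorem m24_lt : ∀ i j : Fin 24, m24 i.1 j.1 < 24 := by decide +kernel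

theorem i24_lt : ∀ i : Fin 24, i24 i.1 < 24 := by decide +kernel

theorem d24_lt : ∀ i : Fin 24, d24 i.1 < 24 := by decide +kernel

theorem matS_mul : ∀ i j : Fin 24, matS i * matS j = matS ⟨m24 i.1 j.1, m24_lt i j⟩ := by decide +kernel

theorem matS_inj : ∀ i j : Fin 24, matS i = matS j → i = j := by decide +kernel

theorem matS_surj : ∀ A : Matrix.SpecialLinearGroup (Fin 2) (ZMod 3), ∃ i, matS i = A := by decide +kernel

theorem m24_left_id : ∀ i : Fin 24, m24 0 i.1 = i.1 ∧ m24 i.1 0 = i.1 ∧ m24 (i24 i.1) i.1 = 0 ∧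
    m24 i.1 (i24 i.1) = 0 ∧ m24 12 i.1 = (i.1 + 12) % 24 ∧ m24 i.1 12 = (i.1 + 12) % 24 := by decide +kernel

theorem d24_hom : ∀ i j : Fin 24, d24 (m24 i.1 j.1) = m24 (d24 i.1) (d24 j.1) ∧ d24 (d24 i.1) = i.1 := by
  decide +kernel

theorem d24_twelve : d24 0 = 0 ∧ d24 12 = 12 := by decide +kernel

end Cfsg.Agent.GTwoTwoLocal
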