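import Cfsg.Agent.Lib.Spor.GTwoTwoLocal.Iso
import Cfsg.Agent.S1225

/-!
The amalgam generates the whole group: otherwise it would generate a strongly embedded subgroup.
-/

set_option autoImplicit false
set_option maxRecDepth 100000
set_option linter.style.haveILetI false

namespace Cfsg.Agent.GTwoTwoLocal

open Cfsg.Agent.Spor.PC

/-- a chain of conjugations starting at the central involution -/
def fusList : List (ℕ × ℕ × ℕ) :=
  [(286, 288, 576), (574, 286, 576), (182, 286, 1), (470, 286, 3), (278, 286, 4), (458, 286, 5), (266, 286, 6),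
    (190, 286, 7), (566, 286, 8), (170, 286, 9), (554, 286, 10), (478, 286, 11), (326, 286, 49), (38, 286, 51),
    (26, 286, 53), (334, 286, 55), (314, 286, 57), (46, 286, 59), (133, 182, 576), (443, 470, 576), (155, 26, 576),
    (421, 314, 576), (157, 133, 576), (115, 133, 1), (419, 133, 2), (393, 133, 3), (417, 133, 4), (385, 133, 5),
    (409, 133, 6), (395, 133, 7), (427, 133, 8), (387, 133, 9), (123, 133, 10), (397, 133, 11), (121, 133, 12),
    (109, 133, 13), (131, 133, 14), (403, 133, 15), (129, 133, 16), (99, 133, 17), (139, 133, 18), (97, 133, 19),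
    (411, 133, 20), (107, 133, 21), (105, 133, 23), (445, 133, 24), (523, 133, 25), (225, 133, 27), (153, 133, 28),
    (217, 133, 29), (145, 133, 30), (227, 133, 31), (163, 133, 32), (219, 133, 33), (435, 133, 34), (229, 133, 35),
    (433, 133, 36), (517, 133, 37), (235, 133, 39), (441, 133, 40), (507, 133, 41), (451, 133, 42), (505, 133, 43),
    (147, 133, 44), (515, 133, 45), (513, 133, 47), (43, 133, 49), (321, 133, 51), (313, 133, 53), (323, 133, 55),
    (315, 133, 57), (325, 133, 59), (37, 133, 61), (331, 133, 63), (27, 133, 65), (25, 133, 67), (35, 133, 69),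
    (33, 133, 71), (19, 133, 97), (297, 133, 99), (289, 133, 101), (299, 133, 103), (291, 133, 105), (301, 133, 107),
    (13, 133, 109), (307, 133, 111), (3, 133, 113), (1, 133, 115), (11, 133, 117), (9, 133, 119)]

/-- each entry is conjugate to an earlier one -/
def fusOK : List (ℕ × ℕ × ℕ) → List ℕ → Bool
  | [], _ => true
  | (x, p, h) :: l, seen =>
    seen.contains p && Nat.ble (p + 1) 576 && (bif Nat.ble (h + 1) 576 then Nat.beq (cjC h p) x
      else inT p && Nat.beq (rOf img0 p) x) && fusOK l (x :: seen)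

theorem fus_checks : fusOK fusList [288] = true ∧
    ∀ c : Fin 576, mulC c.1 c.1 = 0 → c.1 ≠ 0 → c.1 = 288 ∨ ∃ e ∈ fusList, e.1 = c.1 := by decide +kernel

theorem cent_facts : ∀ c : Fin 576, mulC c.1 288 = mulC 288 c.1 := by decide +kernel

/-- a group of order dividing `729 * 91` and divisible by `91` has commuting elements of orders seven and thirteen -/
theorem sylow_thirteen {G : Type*} [Group G] [Finite G] (D : Subgroup G) (h : Nat.card D ∣ 729 * 91)
    (h91 : 91 ∣ Nat.card D) : ∃ x y : G, x ∈ D ∧ y ∈ D ∧ orderOf x = 7 ∧ orderOf y = 13 ∧ x * y = y * x := by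
  haveI : Fact (Nat.Prime 13) := ⟨by norm_num⟩
  haveI : Fact (Nat.Prime 7) := ⟨by norm_num⟩
  obtain ⟨P⟩ : Nonempty (Sylow 13 D) := inferInstance
  have hP13 : Nat.card (P : Subgroup D) = 13 := by
    obtain ⟨j, hj⟩ := IsPGroup.iff_card.1 P.2
    have h1 : (P : Subgroup D).index % 13 ≠ 0 := fun e => P.not_dvd_index (Nat.dvd_of_mod_eq_zero e)
    have h2 := (P : Subgroup D).card_mul_index
    rcases j with _ | _ | j
    · exfalso
      rw [hj, pow_zero, one_mul] at h2
      exact h1 (Nat.dvd_iff_mod_eq_zero.1 (h2 ▸ (dvd_trans (by norm_num) h91)))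
    · rw [hj]; norm_num
    · exfalso
      have h3 : 13 ^ 2 ∣ 729 * 91 :=
        ((pow_dvd_pow 13 (by omega : 2 ≤ j + 2)).trans (hj ▸ (P : Subgroup D).card_subgroup_dvd_card)).trans h
      norm_num at h3
  set N := Subgroup.normalizer ((P : Subgroup D) : Set D) with hN
  have h7N : 7 ∣ Nat.card N := by
    have e := Sylow.card_eq_index_normalizer P
    have h2 : Nat.card N * Nat.card (Sylow 13 D) = Nat.card D := by rw [e]; exact N.card_mul_index
    have hn : Nat.card (Sylow 13 D) % 13 = 1 := by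
      have := card_sylow_modEq_one 13 D
      simpa [Nat.ModEq] using this
    have hd : Nat.card (Sylow 13 D) ∣ 729 * 7 := by
      have hc : (Nat.card (Sylow 13 D)).Coprime 13 := by
        rw [Nat.coprime_comm, Nat.Prime.coprime_iff_not_dvd (by norm_num)]
        omega
      have h3 : Nat.card (Sylow 13 D) ∣ 729 * 7 * 13 := by
        refine dvd_trans ?_ (h.trans (by norm_num))
        rw [← h2]; exact dvd_mul_left _ _
      exact hc.dvd_of_dvd_mul_right h3
    have hn7 : ¬ 7 ∣ Nat.card (Sylow 13 D) := by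
      intro h7
      have hmem : Nat.card (Sylow 13 D) ∈ Nat.divisors (729 * 7) := Nat.mem_divisors.2 ⟨hd, by norm_num⟩
      revert hn h7
      revert hmem
      generalize Nat.card (Sylow 13 D) = k
      revert k
      decide +kernel
    have h4 : 7 ∣ Nat.card N * Nat.card (Sylow 13 D) := h2 ▸ dvd_trans (by norm_num) h91
    exact ((Nat.Prime.dvd_mul (by norm_num)).1 h4).resolve_right hn7
  obtain ⟨y, hy⟩ := exists_prime_orderOf_dvd_card' (G := (P : Subgroup D)) 13 (by rw [hP13])
  obtain ⟨x, hx⟩ := exists_prime_orderOf_dvd_card' (G := N) 7 h7N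
  have hxy : ((x : D) : G) * ((y : D) : G) = ((y : D) : G) * ((x : D) : G) := by
    obtain ⟨r, hr⟩ : ∃ r : ℕ, (x : D) * (y : D) * (x : D)⁻¹ = (y : D) ^ r := by
      have h1 : (x : D) * (y : D) * (x : D)⁻¹ ∈ (P : Subgroup D) := (Subgroup.mem_normalizer_iff.1 x.2 _).1 y.2
      have h2 : Subgroup.zpowers y = ⊤ := Subgroup.eq_top_of_card_eq _ (by rw [Nat.card_zpowers, hy, hP13])
      have h3 : (⟨_, h1⟩ : (P : Subgroup D)) ∈ Subgroup.zpowers y := h2 ▸ Subgroup.mem_top _
      rw [← mem_powers_iff_mem_zpowers] at h3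
      obtain ⟨r, hr⟩ := h3
      exact ⟨r, by simpa using (congrArg Subtype.val hr).symm⟩
    have hit : ∀ n : ℕ, (x : D) ^ n * (y : D) * ((x : D) ^ n)⁻¹ = (y : D) ^ r ^ n := by
      intro n
      induction n with
      | zero => simp
      | succ n ih =>
        rw [pow_succ', mul_inv_rev, show (x : D) * (x : D) ^ n * (y : D) * (((x : D) ^ n)⁻¹ * (x : D)⁻¹) =
          (x : D) * ((x : D) ^ n * (y : D) * ((x : D) ^ n)⁻¹) * (x : D)⁻¹ by group, ih, ← conj_pow, hr, ← pow_mul,
          pow_succ']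
    have hx7 : (x : D) ^ 7 = 1 := by
      rw [← SubmonoidClass.coe_pow, ← hx, pow_orderOf_eq_one, OneMemClass.coe_one]
    have hy13 : orderOf (y : D) = 13 := by rw [Subgroup.orderOf_coe, hy]
    have h7 := hit 7
    rw [hx7, one_mul, inv_one, mul_one] at h7
    nth_rw 1 [← pow_one (y : D)] at h7
    rw [pow_eq_pow_iff_modEq, hy13] at h7
    have hr1 : r % 13 = 1 := by
      have h8 : r ^ 7 % 13 = 1 := by simpa [Nat.ModEq] using h7.symm
      rw [Nat.pow_mod] at h8
      have hlt : r % 13 < 13 := Nat.mod_lt _ (by norm_num)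
      interval_cases h9 : r % 13 <;> simp_all
    have hcy : (x : D) * (y : D) = (y : D) * (x : D) := by
      rw [← mul_inv_eq_iff_eq_mul, hr]
      nth_rw 2 [← pow_one (y : D)]
      rw [pow_eq_pow_iff_modEq, hy13]
      simpa [Nat.ModEq] using hr1
    simpa using congrArg Subtype.val hcy
  exact ⟨_, _, (x : D).2, (y : D).2, by rw [Subgroup.orderOf_coe, Subgroup.orderOf_coe, hx],
    by rw [Subgroup.orderOf_coe, Subgroup.orderOf_coe, hy], hxy⟩

namespace Amal

variable {G : Type*} [Group G] (A : Amal G)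

theorem fus_sound : ∀ (l : List (ℕ × ℕ × ℕ)) (seen : List ℕ), fusOK l seen = true →
    (∀ s ∈ seen, ∃ k ∈ A.K, k * A.psi 288 * k⁻¹ = A.psi s) →
    ∀ e ∈ l, ∃ k ∈ A.K, k * A.psi 288 * k⁻¹ = A.psi e.1
  | [], _, _, _ => fun e he => absurd he (List.not_mem_nil)
  | (x, p, h) :: l, seen, hok, hs => by
    simp only [fusOK, Bool.and_eq_true] at hok
    obtain ⟨⟨⟨hp, hp'⟩, hstep⟩, hrest⟩ := hok
    have hp576 : p < 576 := Nat.le_of_ble_eq_true hp'
    obtain ⟨k, hk, e⟩ := hs p (List.contains_iff_mem.1 hp)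
    have hx : ∃ k' ∈ A.K, k' * A.psi 288 * k'⁻¹ = A.psi x := by
      cases hh : Nat.ble (h + 1) 576
      · rw [hh] at hstep
        simp only [cond_false, Bool.and_eq_true] at hstep
        refine ⟨A.g * k, mul_mem (A.glt_mem_K 9 (by norm_num)) hk, ?_⟩
        rw [← Nat.eq_of_beq_eq_true hstep.2, ← A.glue p hstep.1, ← e]
        group
      · rw [hh] at hstep
        simp only [cond_true] at hstep
        have hh' : h < 576 := Nat.le_of_ble_eq_true hh
        refine ⟨A.psi h * k, mul_mem (A.psi_mem_K hh') hk, ?_⟩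
        rw [← Nat.eq_of_beq_eq_true hstep, A.psi_cj hh' hp576, ← e]
        group
    intro e' he'
    rcases List.mem_cons.1 he' with rfl | he'
    · exact hx
    · refine fus_sound l (x :: seen) hrest ?_ e' he'
      intro s hs'
      rcases List.mem_cons.1 hs' with rfl | hs'
      · exact hx
      · exact hs s hs'

theorem cent_z {h : G} (e : h * A.psi 288 = A.psi 288 * h) : ∃ x, x < 576 ∧ A.psi x = h := by
  refine A.cent h ?_
  have e12 : A.f1 12 = A.psi 288 := by
    rw [Base.psi, show cP 288 = 12 from rfl, show cQ 288 = 0 from rfl, show cS 288 = 0 from rfl, A.f2_zero,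
      if_pos rfl, mul_one, mul_one]
  rw [e12]; exact e

theorem mem_Cz {h : G} : h ∈ Subgroup.centralizer ({A.psi 288} : Set G) ↔ ∃ x, x < 576 ∧ A.psi x = h := by
  rw [Subgroup.mem_centralizer_singleton_iff]
  refine ⟨A.cent_z, ?_⟩
  rintro ⟨x, hx, rfl⟩
  rw [← A.psi_mul hx (by norm_num), ← A.psi_mul (by norm_num) hx]
  exact congrArg A.psi (cent_facts ⟨x, hx⟩)

theorem card_Cz : Nat.card (Subgroup.centralizer ({A.psi 288} : Set G)) = 576 := by
  rw [← Nat.card_fin 576]
  refine (Nat.card_eq_of_bijective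
    (fun c : Fin 576 => (⟨A.psi c.1, A.mem_Cz.2 ⟨c.1, c.2, rfl⟩⟩ : Subgroup.centralizer ({A.psi 288} : Set G)))
    ⟨fun c d e => Fin.ext (A.inj _ _ c.2 d.2 (congrArg Subtype.val e)), fun h => ?_⟩).symm
  obtain ⟨x, hx, e⟩ := A.mem_Cz.1 h.2
  exact ⟨⟨x, hx⟩, Subtype.ext e⟩

theorem Cz_le : Subgroup.centralizer ({A.psi 288} : Set G) ≤ A.K := fun h hh => by
  obtain ⟨x, hx, rfl⟩ := A.mem_Cz.1 hh
  exact A.psi_mem_K hx

theorem z_order : orderOf (A.psi 288) = 2 := by
  haveI : Fact (Nat.Prime 2) := ⟨Nat.prime_two⟩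
  refine orderOf_eq_prime ?_ fun e => ?_
  · rw [pow_two, ← A.psi_mul (by norm_num) (by norm_num), show mulC 288 288 = 0 by decide +kernel, A.psi_zero]
  · exact absurd (A.inj _ _ (by norm_num) (by norm_num) (e.trans A.psi_zero.symm)) (by norm_num)

/-- involutions of the generated group form one class -/
theorem invol [Finite G] (hK : Nat.card A.K = 4245696) : ∀ t ∈ A.K, orderOf t = 2 →
    ∃ g ∈ A.K, g * A.psi 288 * g⁻¹ = t := by
  intro t ht h2
  haveI : Fact (Nat.Prime 2) := ⟨Nat.prime_two⟩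
  set C := Subgroup.centralizer ({A.psi 288} : Set G) with hC
  have fac : ∀ n, 4245696 = 2 ^ 6 * n → ¬ 2 ∣ n → Nat.factorization 4245696 2 = 6 := fun n e hn => by
    rw [e, Nat.factorization_mul (by norm_num) (by omega), Finsupp.add_apply,
      Nat.Prime.factorization_pow Nat.prime_two, Finsupp.single_eq_same, Nat.factorization_eq_zero_of_not_dvd hn,
      add_zero]
  obtain ⟨S⟩ : Nonempty (Sylow 2 C) := inferInstance
  have hS : Nat.card (S : Subgroup C) = 64 := by
    rw [S.card_eq_multiplicity, hC, A.card_Cz, show (576 : ℕ) = 2 ^ 6 * 9 by norm_num,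
      Nat.factorization_mul (by norm_num) (by norm_num), Finsupp.add_apply,
      Nat.Prime.factorization_pow Nat.prime_two, Finsupp.single_eq_same,
      Nat.factorization_eq_zero_of_not_dvd (by norm_num), add_zero]
    norm_num
  let P : Subgroup A.K := (S : Subgroup C).map (Subgroup.inclusion A.Cz_le)
  have hP : Nat.card P = 2 ^ (Nat.card A.K).factorization 2 := by
    rw [hK, fac 66339 (by norm_num) (by norm_num),
      ← Nat.card_congr ((S : Subgroup C).equivMapOfInjective _ (Subgroup.inclusion_injective A.Cz_le)).toEquiv, hS]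
    norm_num
  let P' : Sylow 2 A.K := Sylow.ofCard P hP
  set t' : A.K := ⟨t, ht⟩ with ht'
  obtain ⟨T, hT⟩ := (IsPGroup.of_card (n := 1) (by rw [Nat.card_zpowers, ← Subgroup.orderOf_coe, h2]; norm_num) :
    IsPGroup 2 (Subgroup.zpowers t')).exists_le_sylow
  obtain ⟨k, hk⟩ := MulAction.exists_smul_eq A.K T P'
  have h1 : k * t' * k⁻¹ ∈ (P' : Subgroup A.K) := by
    rw [← hk]
    exact ⟨t', hT (Subgroup.mem_zpowers _), by simp [MulAut.smul_def]⟩
  rw [show (P' : Subgroup A.K) = P from Sylow.coe_ofCard P hP] at h1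
  obtain ⟨s, -, hs⟩ := h1
  obtain ⟨c, hc, ec⟩ := A.mem_Cz.1 s.2
  have hval : (k : G) * t * (k : G)⁻¹ = A.psi c := by
    rw [ec]
    exact (congrArg Subtype.val hs).symm
  have hord : orderOf (A.psi c) = 2 := by
    rw [← hval, ← MulAut.conj_apply]
    exact (orderOf_injective (MulAut.conj (k : G)).toMonoidHom (MulEquiv.injective _) _).trans h2
  have hcc : mulC c c = 0 := A.inj _ _ (mulC_lt hc hc) (by norm_num) (by
    rw [A.psi_mul hc hc, A.psi_zero, ← pow_two, ← hord, pow_orderOf_eq_one])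
  have hc0 : c ≠ 0 := fun e => by rw [e, A.psi_zero, orderOf_one] at hord; norm_num at hord
  have hfus : ∃ g ∈ A.K, g * A.psi 288 * g⁻¹ = A.psi c := by
    rcases fus_checks.2 ⟨c, hc⟩ hcc hc0 with e | ⟨e, he, e1⟩
    · exact ⟨1, one_mem _, by rw [show c = 288 from e]; group⟩
    · rw [show c = e.1 from e1.symm]
      refine A.fus_sound fusList [288] fus_checks.1 (fun s hs => ?_) e he
      rw [List.mem_singleton.1 hs]
      exact ⟨1, one_mem _, by group⟩
  obtain ⟨g, hg, eg⟩ := hfus
  refine ⟨(k : G)⁻¹ * g, mul_mem (inv_mem k.2) hg, ?_⟩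
  calc (k : G)⁻¹ * g * A.psi 288 * ((k : G)⁻¹ * g)⁻¹ = (k : G)⁻¹ * (g * A.psi 288 * g⁻¹) * k := by group
    _ = t := by rw [eg, ← hval]; group

/-- the group is the model -/
theorem iso_model [Finite G] {y : G} (hn : New A y) : Nonempty (G ≃* Model.GH) := by
  classical
  haveI : Fact (Nat.Prime 2) := ⟨Nat.prime_two⟩
  obtain ⟨φ, hinj, hrange⟩ := A.exists_iso hn
  set M := A.K with hM
  have hMcard : Nat.card M = 4245696 := by
    rw [← hrange, ← Model.card_GH]
    exact Nat.card_congr (MonoidHom.ofInjective hinj).toEquiv.symm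
  have invol := A.invol hMcard
  set p := A.psi 288 with hp
  have hp2 : orderOf p = 2 := A.z_order
  have hpM : p ∈ M := A.psi_mem_K (by norm_num)
  have centle : ∀ t ∈ M, orderOf t = 2 → ∀ v : G, v * t = t * v → v ∈ M := by
    intro t ht h2 v hv
    obtain ⟨g, hg, rfl⟩ := invol t ht h2
    have h1 : g⁻¹ * v * g * p = p * (g⁻¹ * v * g) := by
      calc g⁻¹ * v * g * p = g⁻¹ * (v * (g * p * g⁻¹)) * g := by group
        _ = p * (g⁻¹ * v * g) := by rw [hv]; group
    have := mul_mem (mul_mem hg (A.Cz_le (Subgroup.mem_centralizer_singleton_iff.2 h1))) (inv_mem hg)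
    simpa [mul_assoc] using this
  suffices htop : M = ⊤ by
    have hs : Function.Surjective φ := MonoidHom.range_eq_top.1 (hrange.trans htop)
    exact ⟨(MulEquiv.ofBijective φ ⟨hinj, hs⟩).symm⟩
  by_contra htop
  have hdesc : ∀ g : G, ∀ t ∈ M, orderOf t = 2 → g * t * g⁻¹ ∈ M → g ∈ M := by
    intro g t ht h2 hgt
    obtain ⟨g1, hg1, e1⟩ := invol t ht h2
    obtain ⟨g2, hg2, e2⟩ := invol (g * t * g⁻¹) hgt (by
      rw [← MulAut.conj_apply]
      exact (orderOf_injective (MulAut.conj g).toMonoidHom (MulEquiv.injective _) t).trans h2)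
    have key : g⁻¹ * g2 * g1⁻¹ * t = t * (g⁻¹ * g2 * g1⁻¹) := by
      calc g⁻¹ * g2 * g1⁻¹ * t = g⁻¹ * g2 * p * g1⁻¹ := by rw [← e1]; group
        _ = g⁻¹ * (g2 * p * g2⁻¹) * g2 * g1⁻¹ := by group
        _ = t * (g⁻¹ * g2 * g1⁻¹) := by rw [e2]; group
    have hM' := centle t ht h2 _ key
    have := inv_mem (mul_mem (mul_mem hM' hg1) (inv_mem hg2))
    simpa [mul_assoc] using this
  have hse : Cfsg.IsStronglyEmbedded M := by
    refine ⟨htop, ?_, fun g hg => ?_⟩
    · rw [hMcard]; decide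
    · rw [← Nat.not_even_iff_odd, even_iff_two_dvd]
      intro he
      obtain ⟨t, ht⟩ := exists_prime_orderOf_dvd_card' 2 he
      have ht2 : orderOf (t : G) = 2 := by rw [Subgroup.orderOf_coe, ht]
      obtain ⟨w, hw, ew⟩ := t.2.2
      have hw2 : orderOf w = 2 := by
        rw [← ew] at ht2
        rwa [orderOf_injective (MulAut.conj g).toMonoidHom (MulEquiv.injective _)] at ht2
      refine hg (hdesc g w hw hw2 ?_)
      have h3 : g * w * g⁻¹ = (t : G) := ew
      rw [h3]
      exact t.2.1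
  obtain ⟨g0, hg0⟩ : ∃ g0, g0 ∉ M := by
    by_contra hc
    push Not at hc
    exact htop (Subgroup.eq_top_iff' M |>.2 hc)
  set u := g0 * p * g0⁻¹ with hu
  have hu2 : orderOf u = 2 := by
    rw [hu, ← MulAut.conj_apply]
    exact (orderOf_injective (MulAut.conj g0).toMonoidHom (MulEquiv.injective _) _).trans hp2
  have huM : u ∉ M := fun hin => hg0 (hdesc g0 _ hpM hp2 hin)
  set Dd := M ⊓ M.map (MulAut.conj u).toMonoidHom with hDd
  have trans' : ∀ t ∈ M, orderOf t = 2 → ∃ d ∈ Dd, d * p * d⁻¹ = t := fun t ht h2 =>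
    (Cfsg.Agent.S1225.result M hse u hu2 huM p t hp2 hpM h2 ht).1
  let I := {t : G // t ∈ M ∧ orderOf t = 2}
  have count : ∀ L : Subgroup G, L ≤ M → (∀ t ∈ M, orderOf t = 2 → ∃ d ∈ L, d * p * d⁻¹ = t) →
      Nat.card L = Nat.card I * Nat.card ↥((Subgroup.centralizer ({p} : Set G)).subgroupOf L) := by
    intro L hL htr
    set C := (Subgroup.centralizer ({p} : Set G)).subgroupOf L with hC
    have hinv : ∀ d : L, (d : G) * p * (d : G)⁻¹ ∈ M ∧ orderOf ((d : G) * p * (d : G)⁻¹) = 2 := fun d =>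
      ⟨mul_mem (mul_mem (hL d.2) hpM) (inv_mem (hL d.2)), by
        rw [← MulAut.conj_apply]
        exact (orderOf_injective (MulAut.conj (d : G)).toMonoidHom (MulEquiv.injective _) _).trans hp2⟩
    let F : L ⧸ C → I := Quotient.lift (fun d => (⟨_, hinv d⟩ : I)) (by
      intro d d' hdd
      have hc := QuotientGroup.leftRel_apply.1 hdd
      rw [hC, Subgroup.mem_subgroupOf, Subgroup.coe_mul, Subgroup.coe_inv,
        Subgroup.mem_centralizer_singleton_iff] at hc
      refine Subtype.ext ?_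
      show (d : G) * p * (d : G)⁻¹ = (d' : G) * p * (d' : G)⁻¹
      calc (d : G) * p * (d : G)⁻¹ = (d : G) * (p * ((d : G)⁻¹ * d')) * (d' : G)⁻¹ := by group
        _ = (d' : G) * p * (d' : G)⁻¹ := by rw [← hc]; group)
    have hF : Function.Bijective F := by
      refine ⟨?_, fun t => ?_⟩
      · intro x y
        induction x using QuotientGroup.induction_on with | _ d =>
        induction y using QuotientGroup.induction_on with | _ d' =>
        intro e
        have e' : (d : G) * p * (d : G)⁻¹ = (d' : G) * p * (d' : G)⁻¹ := congrArg Subtype.val e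
        refine QuotientGroup.eq.2 ?_
        rw [hC, Subgroup.mem_subgroupOf, Subgroup.coe_mul, Subgroup.coe_inv,
          Subgroup.mem_centralizer_singleton_iff]
        calc (d : G)⁻¹ * d' * p = (d : G)⁻¹ * ((d' : G) * p * (d' : G)⁻¹) * d' := by group
          _ = p * ((d : G)⁻¹ * d') := by rw [← e']; group
      · obtain ⟨d, hd, e⟩ := htr t.1 t.2.1 t.2.2
        exact ⟨QuotientGroup.mk ⟨d, hd⟩, Subtype.ext e⟩
    rw [C.card_eq_card_quotient_mul_card_subgroup, Nat.card_congr (Equiv.ofBijective F hF)]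
  have hM' := count M le_rfl fun t ht h2 => invol t ht h2
  have hD' := count Dd inf_le_left trans'
  set cc := Nat.card ↥((Subgroup.centralizer ({p} : Set G)).subgroupOf M) with hcc
  have hnd : ∀ r : ℕ, r.Prime → ¬ r ∣ 24 → ¬ r ∣ cc := by
    intro r hr h24 hd
    haveI := Fact.mk hr
    obtain ⟨w, hw⟩ := exists_prime_orderOf_dvd_card' r hd
    have hw' : orderOf ((w : M) : G) = r := by rw [Subgroup.orderOf_coe, Subgroup.orderOf_coe, hw]
    obtain ⟨x, hx, ex⟩ := A.mem_Cz.1 (Subgroup.mem_subgroupOf.1 w.2)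
    have hpw : ((w : M) : G) ^ 24 = 1 := by
      rw [← ex, ← (A.pow_psi hx 24).2, pow_exponent ⟨x, hx⟩, A.psi_zero]
    exact h24 (hw' ▸ orderOf_dvd_of_pow_eq_one hpw)
  have h91 : 91 ∣ Nat.card I := by
    have h7 : 7 ∣ Nat.card I := by
      have : 7 ∣ Nat.card I * cc := by rw [← hM', hMcard]; norm_num
      exact ((Nat.Prime.dvd_mul (by norm_num)).1 this).resolve_right (hnd 7 (by norm_num) (by norm_num))
    have h13 : 13 ∣ Nat.card I := by
      have : 13 ∣ Nat.card I * cc := by rw [← hM', hMcard]; norm_num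
      exact ((Nat.Prime.dvd_mul (by norm_num)).1 this).resolve_right (hnd 13 (by norm_num) (by norm_num))
    exact Nat.Coprime.mul_dvd_of_dvd_of_dvd (by norm_num : Nat.Coprime 7 13) h7 h13
  have hodd : Odd (Nat.card Dd) := hse.2.2 u huM
  have hdiv : Nat.card Dd ∣ 729 * 91 := by
    have h1 : Nat.card Dd ∣ 729 * 91 * 2 ^ 6 := by
      rw [show 729 * 91 * 2 ^ 6 = 4245696 by norm_num, ← hMcard]
      exact Subgroup.card_dvd_of_le inf_le_left
    exact ((Nat.coprime_two_right.2 hodd).pow_right 6).dvd_of_dvd_mul_right h1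
  obtain ⟨x, y, hx, hy, ox, oy, hxy⟩ :=
    sylow_thirteen Dd hdiv (hD' ▸ h91.trans (dvd_mul_right _ _))
  obtain ⟨x', rfl⟩ : x ∈ φ.range := hrange.symm ▸ hx.1
  obtain ⟨y', rfl⟩ : y ∈ φ.range := hrange.symm ▸ hy.1
  rw [orderOf_injective φ hinj] at ox oy
  have h13 : x' ^ 13 = 1 :=
    Lie.G2Three.commute_thirteen (F := ZMod 3) (by simp) oy (hinj (by rw [map_mul, map_mul, hxy]))
  have := orderOf_dvd_of_pow_eq_one h13
  rw [ox] at this
  norm_num at this

end Amal

end Cfsg.Agent.GTwoTwoLocal
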