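import Cfsg.Agent.Lib.Spor.GTwoTwoLocal.Codes
import Mathlib.GroupTheory.OrderOfElement
import Mathlib.GroupTheory.Index

/-!
A group element for each code: two commuting copies of SL₂(3) with a common centre and an element inducing
the diagonal outer automorphism on both.
-/

set_option autoImplicit false
set_option maxRecDepth 100000

namespace Cfsg.Agent.GTwoTwoLocal

/-- two copies of SL₂(3) and an outer element -/
structure Base (G : Type*) [Group G] where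
  /-- the first factor -/
  f1 : ℕ → G
  /-- the second factor -/
  f2 : ℕ → G
  /-- the outer element -/
  t : G
  m1 : ∀ i j, i < 24 → j < 24 → f1 (m24 i j) = f1 i * f1 j
  m2 : ∀ i j, i < 24 → j < 24 → f2 (m24 i j) = f2 i * f2 j
  comm : ∀ i j, i < 24 → j < 24 → f1 i * f2 j = f2 j * f1 i
  zz : f1 12 = f2 12
  t1 : ∀ i, i < 24 → t * f1 i * t⁻¹ = f1 (d24 i)
  t2 : ∀ i, i < 24 → t * f2 i * t⁻¹ = f2 (d24 i)

theorem cP_lt {x : ℕ} (h : x < 576) : cP x < 24 := by show x / 24 < 24; omega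

theorem cQ_lt (x : ℕ) : cQ x < 12 := by show x / 2 % 12 < 12; omega

theorem cS_lt (x : ℕ) : cS x < 2 := by show x % 2 < 2; omega

theorem code_eq (x : ℕ) : 24 * cP x + 2 * cQ x + cS x = x := by
  show 24 * (x / 24) + 2 * (x / 2 % 12) + x % 2 = x
  omega

theorem nrm_lt {p q s : ℕ} (hp : p < 24) (hq : q < 24) (hs : s < 2) : nrm p q s < 576 := by
  unfold nrm
  by_cases h : q < 12
  · rw [show Nat.blt q 12 = true from Nat.ble_eq_true_of_le (Nat.succ_le_of_lt h)]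
    show 24 * p + 2 * q + s < 576
    omega
  · rw [show Nat.blt q 12 = false from Bool.eq_false_iff.2 fun e => h (Nat.le_of_ble_eq_true e)]
    show 24 * ((p + 12) % 24) + 2 * (q - 12) + s < 576
    omega

namespace Base

variable {G : Type*} [Group G] (B : Base G)

/-- the element with a given code -/
def psi (x : ℕ) : G := B.f1 (cP x) * B.f2 (cQ x) * (if cS x = 0 then 1 else B.t)

theorem f1_zero : B.f1 0 = 1 := by
  have h := B.m1 0 0 (by norm_num) (by norm_num)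
  rw [show m24 0 0 = 0 by decide +kernel] at h
  exact left_eq_mul.1 h

theorem f2_zero : B.f2 0 = 1 := by
  have h := B.m2 0 0 (by norm_num) (by norm_num)
  rw [show m24 0 0 = 0 by decide +kernel] at h
  exact left_eq_mul.1 h

theorem f1_add_twelve {p : ℕ} (hp : p < 24) : B.f1 ((p + 12) % 24) = B.f1 p * B.f1 12 := by
  rw [← B.m1 p 12 hp (by norm_num), (m24_left_id ⟨p, hp⟩).2.2.2.2.2]

theorem f2_add_twelve {q : ℕ} (hq : q < 24) : B.f2 ((q + 12) % 24) = B.f2 q * B.f2 12 := by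
  rw [← B.m2 q 12 hq (by norm_num), (m24_left_id ⟨q, hq⟩).2.2.2.2.2]

theorem psi_nrm {p q s : ℕ} (hp : p < 24) (hq : q < 24) (hs : s < 2) :
    B.psi (nrm p q s) = B.f1 p * B.f2 q * (if s = 0 then 1 else B.t) := by
  unfold nrm
  by_cases h : q < 12
  · rw [show Nat.blt q 12 = true from Nat.ble_eq_true_of_le (Nat.succ_le_of_lt h)]
    show B.psi (24 * p + 2 * q + s) = _
    have e1 : cP (24 * p + 2 * q + s) = p := by show (24 * p + 2 * q + s) / 24 = p; omega
    have e2 : cQ (24 * p + 2 * q + s) = q := by show (24 * p + 2 * q + s) / 2 % 12 = q; omega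
    have e3 : cS (24 * p + 2 * q + s) = s := by show (24 * p + 2 * q + s) % 2 = s; omega
    rw [psi, e1, e2, e3]
  · rw [show Nat.blt q 12 = false from Bool.eq_false_iff.2 fun e => h (Nat.le_of_ble_eq_true e)]
    show B.psi (24 * ((p + 12) % 24) + 2 * (q - 12) + s) = _
    have e1 : cP (24 * ((p + 12) % 24) + 2 * (q - 12) + s) = (p + 12) % 24 := by
      show (24 * ((p + 12) % 24) + 2 * (q - 12) + s) / 24 = _; omega
    have e2 : cQ (24 * ((p + 12) % 24) + 2 * (q - 12) + s) = q - 12 := by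
      show (24 * ((p + 12) % 24) + 2 * (q - 12) + s) / 2 % 12 = _; omega
    have e3 : cS (24 * ((p + 12) % 24) + 2 * (q - 12) + s) = s := by
      show (24 * ((p + 12) % 24) + 2 * (q - 12) + s) % 2 = s; omega
    rw [psi, e1, e2, e3, B.f1_add_twelve hp, mul_assoc (B.f1 p)]
    have e4 : B.f2 q = B.f1 12 * B.f2 (q - 12) := by
      rw [B.zz, ← B.m2 12 (q - 12) (by norm_num) (by omega), (m24_left_id ⟨q - 12, by omega⟩).2.2.2.2.1]
      congr 1
      simp only
      omega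
    rw [← e4]

theorem psi_zero : B.psi 0 = 1 := by
  simp [psi, show cP 0 = 0 from rfl, show cQ 0 = 0 from rfl, show cS 0 = 0 from rfl, B.f1_zero, B.f2_zero]

theorem psi_one : B.psi 1 = B.t := by
  rw [psi, show cP 1 = 0 by decide +kernel, show cQ 1 = 0 by decide +kernel, show cS 1 = 1 by decide +kernel,
    B.f1_zero, B.f2_zero, one_mul, one_mul, if_neg (by norm_num)]

theorem psi_even {x : ℕ} (h : cS x = 0) : B.psi x = B.f1 (cP x) * B.f2 (cQ x) := by
  rw [psi, if_pos h, mul_one]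

theorem psi_odd {x : ℕ} (h : cS x ≠ 0) : B.psi x = B.f1 (cP x) * B.f2 (cQ x) * B.t := by
  rw [psi, if_neg h]

theorem psi_mul_even {x y : ℕ} (hx : x < 576) (hy : y < 576) (h : cS x = 0) :
    B.psi (mulC x y) = B.psi x * B.psi y := by
  have hp := cP_lt hx
  have hp' := cP_lt hy
  have hq : cQ x < 24 := (cQ_lt x).trans (by norm_num)
  have hq' : cQ y < 24 := (cQ_lt y).trans (by norm_num)
  unfold mulC
  rw [show Nat.beq (cS x) 0 = true from by rw [h]; rfl, cond_true,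
    B.psi_nrm (m24_lt ⟨_, hp⟩ ⟨_, hp'⟩) (m24_lt ⟨_, hq⟩ ⟨_, hq'⟩) (cS_lt y), B.m1 _ _ hp hp', B.m2 _ _ hq hq',
    B.psi_even h, psi]
  have hc := B.comm (cP y) (cQ x) hp' hq
  simp only [mul_assoc]
  congr 1
  rw [← mul_assoc (B.f1 (cP y)), hc]
  simp only [mul_assoc]

theorem psi_mul_gen {x y : ℕ} (hx : x < 576) (hy : y < 576) (h : cS x ≠ 0) :
    B.psi x * B.psi y = B.psi (mulC x y) * (if cS y = 0 then 1 else B.t * B.t) := by
  have hp := cP_lt hx
  have hp' := cP_lt hy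
  have hq : cQ x < 24 := (cQ_lt x).trans (by norm_num)
  have hq' : cQ y < 24 := (cQ_lt y).trans (by norm_num)
  have hd := d24_lt ⟨_, hp'⟩
  have hd' := d24_lt ⟨_, hq'⟩
  unfold mulC
  rw [show Nat.beq (cS x) 0 = false from Bool.eq_false_iff.2 fun e => h (Nat.eq_of_beq_eq_true e), cond_false,
    B.psi_nrm (m24_lt ⟨_, hp⟩ ⟨_, hd⟩) (m24_lt ⟨_, hq⟩ ⟨_, hd'⟩) (by show 1 - cS y < 2; omega),
    B.m1 _ _ hp hd, B.m2 _ _ hq hd', B.psi_odd h, ← B.t1 _ hp', ← B.t2 _ hq']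
  have hc : B.f1 (d24 (cP y)) * B.f2 (cQ x) = B.f2 (cQ x) * B.f1 (d24 (cP y)) := B.comm _ _ hd hq
  rw [← B.t1 _ hp'] at hc
  have hS := cS_lt y
  by_cases hy0 : cS y = 0
  · rw [B.psi_even hy0, if_pos hy0, if_neg (show Nat.sub 1 (cS y) ≠ 0 by rw [hy0]; decide)]
    calc B.f1 (cP x) * B.f2 (cQ x) * B.t * (B.f1 (cP y) * B.f2 (cQ y))
        = B.f1 (cP x) * (B.f2 (cQ x) * (B.t * B.f1 (cP y) * B.t⁻¹)) * (B.t * B.f2 (cQ y) * B.t⁻¹) * B.t := by group
      _ = B.f1 (cP x) * ((B.t * B.f1 (cP y) * B.t⁻¹) * B.f2 (cQ x)) * (B.t * B.f2 (cQ y) * B.t⁻¹) * B.t := by rw [← hc]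
      _ = _ := by simp only [mul_assoc, mul_one]
  · have h1 : cS y = 1 := by omega
    rw [B.psi_odd hy0, if_neg hy0, if_pos (show Nat.sub 1 (cS y) = 0 by rw [h1])]
    calc B.f1 (cP x) * B.f2 (cQ x) * B.t * (B.f1 (cP y) * B.f2 (cQ y) * B.t)
        = B.f1 (cP x) * (B.f2 (cQ x) * (B.t * B.f1 (cP y) * B.t⁻¹)) * (B.t * B.f2 (cQ y) * B.t⁻¹) * (B.t * B.t) := by
          group
      _ = B.f1 (cP x) * ((B.t * B.f1 (cP y) * B.t⁻¹) * B.f2 (cQ x)) * (B.t * B.f2 (cQ y) * B.t⁻¹) * (B.t * B.t) := by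
          rw [← hc]
      _ = _ := by simp only [mul_assoc, mul_one]

end Base

theorem invC_lt : ∀ x : Fin 576, invC x.1 < 576 := by decide +kernel

theorem invC_spec : ∀ x : Fin 576, mulC x.1 (invC x.1) = 0 ∧ mulC (invC x.1) x.1 = 0 := by decide +kernel

theorem mulC_lt {x y : ℕ} (hx : x < 576) (hy : y < 576) : mulC x y < 576 := by
  have hp := cP_lt hx
  have hp' := cP_lt hy
  have hq : cQ x < 24 := (cQ_lt x).trans (by norm_num)
  have hq' : cQ y < 24 := (cQ_lt y).trans (by norm_num)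
  unfold mulC
  cases Nat.beq (cS x) 0
  · rw [cond_false]
    exact nrm_lt (m24_lt ⟨_, hp⟩ ⟨_, d24_lt ⟨_, hp'⟩⟩) (m24_lt ⟨_, hq⟩ ⟨_, d24_lt ⟨_, hq'⟩⟩)
      (by show 1 - cS y < 2; omega)
  · rw [cond_true]
    exact nrm_lt (m24_lt ⟨_, hp⟩ ⟨_, hp'⟩) (m24_lt ⟨_, hq⟩ ⟨_, hq'⟩) (cS_lt y)

theorem cjC_lt {g x : ℕ} (hg : g < 576) (hx : x < 576) : cjC g x < 576 :=
  mulC_lt (mulC_lt hg hx) (invC_lt ⟨g, hg⟩)

/-- the centralizer of an involution, with all its elements coded -/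
structure Frame (G : Type*) [Group G] extends Base G where
  tt : toBase.t * toBase.t = 1
  inj : ∀ x y, x < 576 → y < 576 → toBase.psi x = toBase.psi y → x = y
  cent : ∀ h : G, h * toBase.f1 12 = toBase.f1 12 * h → ∃ x, x < 576 ∧ toBase.psi x = h

namespace Frame

variable {G : Type*} [Group G] (F : Frame G)

theorem psi_mul {x y : ℕ} (hx : x < 576) (hy : y < 576) : F.psi (mulC x y) = F.psi x * F.psi y := by
  by_cases h : cS x = 0
  · exact F.psi_mul_even hx hy h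
  · rw [F.psi_mul_gen hx hy h, F.tt, ite_self, mul_one]

theorem psi_inv {x : ℕ} (hx : x < 576) : F.psi (invC x) = (F.psi x)⁻¹ := by
  refine eq_inv_of_mul_eq_one_left ?_
  rw [← F.psi_mul (invC_lt ⟨x, hx⟩) hx, (invC_spec ⟨x, hx⟩).2, F.psi_zero]

theorem psi_cj {g x : ℕ} (hg : g < 576) (hx : x < 576) : F.psi (cjC g x) = F.psi g * F.psi x * (F.psi g)⁻¹ := by
  rw [cjC, F.psi_mul (mulC_lt hg hx) (invC_lt ⟨g, hg⟩), F.psi_mul hg hx, F.psi_inv hg]

theorem psi_288 : F.psi 288 = F.f1 12 := by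
  rw [F.psi_even (by decide +kernel), show cP 288 = 12 by decide +kernel, show cQ 288 = 0 by decide +kernel,
    F.f2_zero, mul_one]

theorem psi_ne_one {x : ℕ} (hx : x < 576) (h0 : x ≠ 0) : F.psi x ≠ 1 := fun e =>
  h0 (F.inj x 0 hx (by norm_num) (e.trans F.psi_zero.symm))

end Frame

/-- the code of the flip -/
def flipC (x : ℕ) : ℕ := nrm (Nat.mod (Nat.add (cP x) (Nat.mul 12 (cS x))) 24) (cQ x) (cS x)

/-- the code of the swap -/
def swapC (x : ℕ) : ℕ := nrm (Nat.mod (Nat.add (cQ x) (Nat.mul 12 (cS x))) 24) (cP x) (cS x)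

theorem flipC_spec : ∀ x : Fin 576, flipC x.1 < 576 ∧ flipC (flipC x.1) = x.1 := by decide +kernel

theorem swapC_spec : ∀ x : Fin 576, swapC x.1 < 576 ∧ swapC (swapC x.1) = x.1 := by decide +kernel

end Cfsg.Agent.GTwoTwoLocal
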