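import Cfsg.Agent.Lib.Spor.GTwoTwoLocal.Setup

/-!
The action of the cycling element on the centralizer of the four-group is unique up to normalisation, and with
suitable choices two further relations hold.
-/

set_option autoImplicit false
set_option maxRecDepth 100000

namespace Cfsg.Agent.GTwoTwoLocal

/-- generators of the centralizer of the four-group -/
def bs : List ℕ := [288, 286, 38, 22, 79]

/-- codes of the centralizer of the four-group with a word in the generators for each -/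
def tTab : List (ℕ × List ℕ) :=
  [(0, []), (22, [3]), (26, [2, 3]), (38, [2]), (79, [4]), (93, [3, 4]), (131, [4, 2, 3]), (133, [0, 4, 2]),
    (155, [2, 4]), (157, [2, 3, 4]), (170, [0, 1, 2]), (182, [1, 2, 3]), (247, [0, 1, 3, 4]), (261, [1, 4]),
    (264, [0, 1, 3]), (286, [1]), (288, [0]), (310, [0, 3]), (314, [3, 2]), (326, [0, 2]), (367, [0, 4]),
    (381, [0, 3, 4]), (419, [3, 4, 2]), (421, [4, 2]), (443, [0, 2, 4]), (445, [3, 2, 4]), (458, [1, 2]),
    (470, [1, 3, 2]), (535, [1, 3, 4]), (549, [0, 1, 4]), (552, [1, 3]), (574, [0, 1])]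

/-- the word of an element -/
def wordOf (x : ℕ) : List ℕ :=
  tTab.foldr (fun p acc => bif Nat.beq p.1 x then p.2 else acc) []

/-- membership in the centralizer of the four-group -/
def inT (x : ℕ) : Bool := tTab.any fun p => Nat.beq p.1 x

/-- product of codes along a word -/
def prodW (img : List ℕ) : List ℕ → ℕ
  | [] => 0
  | k :: w => mulC (img.getD k 0) (prodW img w)

/-- the map determined by the images of the generators -/
def rOf (img : List ℕ) (x : ℕ) : ℕ := prodW img (wordOf x)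

/-- is it an automorphism of order dividing three -/
def candOK (img : List ℕ) : Bool :=
  (tTab.all fun p => (List.range 5).all fun k =>
    Nat.beq (rOf img (mulC p.1 (bs.getD k 0))) (mulC (rOf img p.1) (img.getD k 0))) &&
  (tTab.all fun p => Nat.beq (rOf img (rOf img (rOf img p.1))) p.1 && (Nat.beq p.1 0 || !Nat.beq (rOf img p.1) 0))

/-- the images in the normalised situation -/
def img0 : List ℕ := [286, 574, 326, 367, 93]

theorem tTab_facts : (tTab.all fun p => Nat.blt p.1 576 && Nat.beq (prodW bs p.2) p.1 &&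
    Nat.beq (mulC p.1 286) (mulC 286 p.1)) = true := by decide +kernel

theorem inT_iff : ∀ c : Fin 576, inT c.1 = true ↔ mulC c.1 286 = mulC 286 c.1 := by decide +kernel

theorem cand_class : ∀ i j : Fin 32,
    candOK [286, 574, 38, (tTab.getD i.1 (0, [])).1, (tTab.getD j.1 (0, [])).1] = true →
    ((tTab.getD i.1 (0, [])).1, (tTab.getD j.1 (0, [])).1) ∈ [(79, 247), (261, 535), (367, 93), (549, 381)] := by
  decide +kernel

/-- one step of the contradictory word -/
def badStep (img : List ℕ) (y : ℕ) : ℕ :=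
  cjC 5 (rOf img (cjC 5 (cjC 5 (rOf img (cjC 5 y)))))

theorem bad_facts : ∀ img ∈ [[286, 574, 38, 261, 535], [286, 574, 38, 549, 381]],
    (∀ y ∈ [288, 286, 38, 2], inT (cjC 5 y) = true ∧ inT (cjC 5 (cjC 5 (rOf img (cjC 5 y)))) = true) ∧
    badStep img 288 = 288 ∧ badStep img 286 = 286 ∧ badStep img 38 = 38 ∧ badStep img 2 = 168 ∧
    (∀ e ∈ eCodes, cjC e 2 ≠ 168) := by decide +kernel

theorem good_facts : ∀ p ∈ [([286, 574, 38, 79, 247], true), ([286, 574, 38, 367, 93], false)],
    (tTab.all fun q =>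
      inT (bif p.2 then flipC q.1 else q.1) &&
      Nat.beq (cjC 22 (rOf p.1 (bif p.2 then flipC q.1 else q.1)))
        (bif p.2 then flipC (rOf img0 q.1) else rOf img0 q.1)) = true ∧
    inT 22 = true ∧ mulC (mulC 22 (rOf p.1 22)) (rOf p.1 (rOf p.1 22)) = 0 := by decide +kernel

theorem img0_facts : (tTab.all fun q => inT (rOf img0 q.1) &&
      Nat.beq (mulC q.1 288) (mulC 288 q.1)) = true := by decide +kernel

/-- the action of `s g` on the group of order eight -/
def permE (s x : ℕ) : ℕ := cjC s (rOf img0 x)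

theorem perm_facts : (∀ s ∈ [9, 226], ∀ x ∈ eCodes, permE s x ∈ eCodes) ∧
    (∀ x ∈ eCodes, permE 9 (permE 9 (permE 9 (permE 9 (permE 9 (permE 9 (permE 9 x)))))) = x ∧
      (permE 9 x = x → x = 0) ∧ permE 226 (permE 226 (permE 226 x)) = x ∧ (permE 226 x = x → x = 0 ∨ x = 326) ∧
      inT x = true ∧ mulC x x = 0) ∧
    mulC (mulC (mulC 326 (permE 226 288)) (permE 226 (permE 226 288))) 288 = 0 := by decide +kernel

/-- the frame with the normalised cycling element and the two further relations -/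
structure Amal (G : Type*) [Group G] extends Frame G where
  /-- the element of order three -/
  g : G
  g3 : g ^ 3 = 1
  glue : ∀ x, inT x = true → g * toFrame.psi x * g⁻¹ = toFrame.psi (rOf img0 x)
  seven : (toFrame.psi 9 * g) ^ 7 = 1
  three : (toFrame.psi 226 * g) ^ 3 = 1

theorem inT_lt {x : ℕ} (h : inT x = true) : x < 576 := by
  obtain ⟨p, hp, e⟩ := List.any_eq_true.1 h
  have := List.all_eq_true.1 tTab_facts p hp
  simp only [Bool.and_eq_true] at this
  rw [← Nat.eq_of_beq_eq_true e]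
  exact Nat.le_of_ble_eq_true this.1.1

theorem inT_word {x : ℕ} (h : inT x = true) : prodW bs (wordOf x) = x := by
  have key : (tTab.all fun p => Nat.beq (prodW bs (wordOf p.1)) p.1) = true := by decide +kernel
  obtain ⟨p, hp, e⟩ := List.any_eq_true.1 h
  have := List.all_eq_true.1 key p hp
  rw [← Nat.eq_of_beq_eq_true e]
  exact Nat.eq_of_beq_eq_true this

theorem inT_mul : ∀ k : Fin 5, (tTab.all fun p => inT (mulC p.1 (bs.getD k.1 0))) = true ∧ inT (bs.getD k.1 0) = true := by
  decide +kernel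

theorem flip_psi {G : Type*} [Group G] (F : Frame G) :
    ∃ F' : Frame G, ∀ x, x < 576 → F'.psi x = F.psi (flipC x) := by
  have hz : ∀ a, a < 24 → F.f1 12 * F.f1 a = F.f1 a * F.f1 12 := fun a ha => by
    rw [← F.m1 12 a (by norm_num) ha, ← F.m1 a 12 ha (by norm_num)]
    exact congrArg F.f1 ((central_iff ⟨12, by norm_num⟩).2 (Or.inr rfl) ⟨a, ha⟩)
  have htz : F.t * F.f1 12 = F.f1 12 * F.t := by
    have h := F.t1 12 (by norm_num)
    rw [d24_twelve.2] at h
    exact mul_inv_eq_iff_eq_mul.1 h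
  have hz2 : F.f1 12 * F.f1 12 = 1 := by
    rw [← F.m1 12 12 (by norm_num) (by norm_num), show m24 12 12 = 0 by decide +kernel, F.f1_zero]
  let B : Base G := ⟨F.f1, F.f2, F.t * F.f1 12, F.m1, F.m2, F.comm, F.zz, fun a ha => by
      rw [show F.t * F.f1 12 * F.f1 a * (F.t * F.f1 12)⁻¹ = F.t * (F.f1 12 * F.f1 a) * (F.f1 12)⁻¹ * F.t⁻¹ by group,
        hz a ha, show F.t * (F.f1 a * F.f1 12) * (F.f1 12)⁻¹ * F.t⁻¹ = F.t * F.f1 a * F.t⁻¹ by group]
      exact F.t1 a ha, fun a ha => by
      have hc := F.comm 12 a (by norm_num) ha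
      rw [show F.t * F.f1 12 * F.f2 a * (F.t * F.f1 12)⁻¹ = F.t * (F.f1 12 * F.f2 a) * (F.f1 12)⁻¹ * F.t⁻¹ by group,
        hc, show F.t * (F.f2 a * F.f1 12) * (F.f1 12)⁻¹ * F.t⁻¹ = F.t * F.f2 a * F.t⁻¹ by group]
      exact F.t2 a ha⟩
  have hpsi : ∀ x, x < 576 → B.psi x = F.psi (flipC x) := fun x hx => by
    have hp := cP_lt hx
    have hq : cQ x < 24 := (cQ_lt x).trans (by norm_num)
    have hs := cS_lt x
    show _ = F.psi (nrm ((cP x + 12 * cS x) % 24) (cQ x) (cS x))
    rw [F.psi_nrm (Nat.mod_lt _ (by norm_num)) hq hs, Base.psi]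
    show F.f1 (cP x) * F.f2 (cQ x) * (if cS x = 0 then 1 else F.t * F.f1 12) = _
    by_cases h : cS x = 0
    · rw [h, if_pos rfl, if_pos rfl, show (cP x + 12 * 0) % 24 = cP x by omega]
    · rw [show cS x = 1 by omega, if_neg (by norm_num), if_neg (by norm_num),
        show (cP x + 12 * 1) % 24 = (cP x + 12) % 24 by rfl, F.f1_add_twelve hp]
      have hc := F.comm 12 (cQ x) (by norm_num) hq
      calc F.f1 (cP x) * F.f2 (cQ x) * (F.t * F.f1 12) = F.f1 (cP x) * (F.f2 (cQ x) * F.f1 12) * F.t := by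
            rw [htz]; group
        _ = _ := by rw [← hc]; group
  refine ⟨{ toBase := B, tt := ?_, inj := fun x y hx hy e => ?_, cent := fun h hh => ?_ }, hpsi⟩
  · show F.t * F.f1 12 * (F.t * F.f1 12) = 1
    rw [htz, show F.f1 12 * F.t * (F.f1 12 * F.t) = F.f1 12 * (F.t * F.f1 12) * F.t by group, htz,
      show F.f1 12 * (F.f1 12 * F.t) * F.t = F.f1 12 * F.f1 12 * (F.t * F.t) by group, hz2, F.tt, one_mul]
  · rw [hpsi x hx, hpsi y hy] at e
    have := F.inj _ _ (flipC_spec ⟨x, hx⟩).1 (flipC_spec ⟨y, hy⟩).1 e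
    exact ((flipC_spec ⟨x, hx⟩).2).symm.trans ((congrArg flipC this).trans (flipC_spec ⟨y, hy⟩).2)
  · obtain ⟨x, hx, rfl⟩ := F.cent h hh
    exact ⟨flipC x, (flipC_spec ⟨x, hx⟩).1, by rw [hpsi _ (flipC_spec ⟨x, hx⟩).1, (flipC_spec ⟨x, hx⟩).2]⟩

/-- normalising the cycling element gives the two further relations -/
theorem normalise_of_glue {G : Type*} [Group G] (F : Frame G) (g : G) (g3 : g ^ 3 = 1)
    (glue : ∀ x, inT x = true → g * F.psi x * g⁻¹ = F.psi (rOf img0 x)) :
    ∃ g' : G, g' ^ 3 = 1 ∧ (∀ x, inT x = true → g' * F.psi x * g'⁻¹ = F.psi (rOf img0 x)) ∧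
      (F.psi 9 * g') ^ 7 = 1 ∧ (F.psi 226 * g') ^ 3 = 1 := by
  obtain ⟨hmem, hE, hN⟩ := perm_facts
  have conjE : ∀ (g : G), (∀ x, inT x = true → g * F.psi x * g⁻¹ = F.psi (rOf img0 x)) →
      ∀ s ∈ [9, 226], ∀ x ∈ eCodes, (F.psi s * g) * F.psi x * (F.psi s * g)⁻¹ = F.psi (permE s x) := by
    intro g glue s hs x hx
    have hxT := (hE x hx).2.2.2.2.1
    have hs' : s < 576 := by simp only [List.mem_cons, List.not_mem_nil, or_false] at hs; omega
    have hr : rOf img0 x < 576 := by
      have key : (eCodes.all fun x => Nat.blt (rOf img0 x) 576) = true := by decide +kernel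
      exact Nat.le_of_ble_eq_true (List.all_eq_true.1 key x hx)
    rw [permE, F.psi_cj hs' hr, ← glue x hxT]
    group
  have lt576 : ∀ x ∈ eCodes, x < 576 := fun x hx => inT_lt (hE x hx).2.2.2.2.1
  have fixed : ∀ (g : G), (∀ x, inT x = true → g * F.psi x * g⁻¹ = F.psi (rOf img0 x)) → ∀ s ∈ [9, 226], ∀ n : ℕ,
      (∀ x ∈ eCodes, (permE s)^[n] x = x) → ∃ c ∈ eCodes, (F.psi s * g) ^ n = F.psi c ∧ permE s c = c := by
    intro g glue s hs n hn
    set w := F.psi s * g with hw
    have pw : ∀ (k : ℕ), ∀ x ∈ eCodes, (permE s)^[k] x ∈ eCodes ∧ w ^ k * F.psi x * (w ^ k)⁻¹ = F.psi ((permE s)^[k] x) := by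
      intro k
      induction k with
      | zero => intro x hx; exact ⟨hx, by simp⟩
      | succ k ih =>
        intro x hx
        obtain ⟨h1, h2⟩ := ih x hx
        rw [Function.iterate_succ_apply']
        refine ⟨hmem s hs _ h1, ?_⟩
        rw [← conjE g glue s hs _ h1, ← h2, pow_succ', ← hw]
        group
    have hc : ∀ x ∈ eCodes, Commute (w ^ n) (F.psi x) := fun x hx => by
      have := (pw n x hx).2
      rw [hn x hx] at this
      exact mul_inv_eq_iff_eq_mul.1 this
    obtain ⟨c, hc', ec⟩ := F.cent (w ^ n) (by rw [← F.psi_288]; exact (hc 288 (by decide)).eq)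
    have hmul : ∀ b ∈ eCodes, mulC c b = mulC b c := fun b hb =>
      F.inj _ _ (mulC_lt hc' (lt576 b hb)) (mulC_lt (lt576 b hb) hc')
        (by rw [F.psi_mul hc' (lt576 b hb), F.psi_mul (lt576 b hb) hc', ec]; exact (hc b hb).eq)
    obtain ⟨hcE, -⟩ := cent_eight ⟨c, hc'⟩ (hmul 286 (by decide)) (hmul 38 (by decide))
    refine ⟨c, hcE, ec.symm, F.inj _ _ (lt576 _ (hmem s hs c hcE)) hc' ?_⟩
    rw [← conjE g glue s hs c hcE, ec, ← hw]
    rw [← pow_succ', pow_succ, mul_inv_cancel_right]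
  have seven : ∀ (g : G), (∀ x, inT x = true → g * F.psi x * g⁻¹ = F.psi (rOf img0 x)) → (F.psi 9 * g) ^ 7 = 1 := by
    intro g glue
    obtain ⟨c, hc, e, hf⟩ := fixed g glue 9 (by simp) 7 fun x hx => (hE x hx).1
    rw [e, (hE c hc).2.1 hf, F.psi_zero]
  obtain ⟨c, hc, e, hf⟩ := fixed g glue 226 (by simp) 3 fun x hx => (hE x hx).2.2.1
  rcases (hE c hc).2.2.2.1 hf with rfl | rfl
  · exact ⟨g, g3, glue, seven g glue, by rw [e, F.psi_zero]⟩
  set g' := g * F.psi 288 with hg'
  have glue' : ∀ x, inT x = true → g' * F.psi x * g'⁻¹ = F.psi (rOf img0 x) := fun x hx => by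
    have hcm : F.psi 288 * F.psi x = F.psi x * F.psi 288 := by
      rw [← F.psi_mul (by norm_num) (inT_lt hx), ← F.psi_mul (inT_lt hx) (by norm_num)]
      exact congrArg F.psi (comm_288 ⟨x, inT_lt hx⟩).symm
    rw [← glue x hx, hg', show g * F.psi 288 * F.psi x * (g * F.psi 288)⁻¹ =
      g * (F.psi 288 * F.psi x) * (F.psi 288)⁻¹ * g⁻¹ by group, hcm]
    group
  have h288 : (288 : ℕ) ∈ eCodes := by decide
  have e288 : inT 288 = true := by decide +kernel
  have r1T : inT (rOf img0 288) = true := by decide +kernel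
  have r1lt := inT_lt r1T
  have r2lt : rOf img0 (rOf img0 288) < 576 := by decide +kernel
  have g1 : g * F.psi 288 * g⁻¹ = F.psi (rOf img0 288) := glue 288 e288
  have g2 : g * F.psi (rOf img0 288) * g⁻¹ = F.psi (rOf img0 (rOf img0 288)) := glue _ r1T
  refine ⟨g', ?_, glue', seven g' glue', ?_⟩
  · have e' : g' ^ 3 = (g * F.psi 288 * g⁻¹) * (g * (g * F.psi 288 * g⁻¹) * g⁻¹) * g ^ 3 * F.psi 288 := by
      rw [hg']; simp only [pow_succ, pow_zero, one_mul]; group
    have hcomm : mulC (mulC (rOf img0 288) (rOf img0 (rOf img0 288))) 288 = 0 := by decide +kernel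
    rw [e', g1, g2, g3, mul_one, ← F.psi_mul r1lt r2lt, ← F.psi_mul (mulC_lt r1lt r2lt) (by norm_num), hcomm,
      F.psi_zero]
  · set w := F.psi 226 * g with hw
    have p1 := conjE g glue 226 (by simp) 288 h288
    have m1 := hmem 226 (by simp) 288 h288
    have p2 := conjE g glue 226 (by simp) _ m1
    have m2 := hmem 226 (by simp) _ m1
    have e' : (F.psi 226 * g') ^ 3 =
        (w * F.psi 288 * w⁻¹) * (w * (w * F.psi 288 * w⁻¹) * w⁻¹) * w ^ 3 * F.psi 288 := by
      rw [hg', hw]; simp only [pow_succ, pow_zero, one_mul]; group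
    have hc : mulC (mulC (mulC (permE 226 288) (permE 226 (permE 226 288))) 326) 288 = 0 := by decide +kernel
    rw [e', hw, p1, p2, ← hw, e, ← F.psi_mul (lt576 _ m1) (lt576 _ m2),
      ← F.psi_mul (mulC_lt (lt576 _ m1) (lt576 _ m2)) (by norm_num),
      ← F.psi_mul (mulC_lt (mulC_lt (lt576 _ m1) (lt576 _ m2)) (by norm_num)) (by norm_num), hc, F.psi_zero]

namespace Setup

variable {G : Type*} [Group G] (S : Setup G)

theorem glue_cand : ∃ u v, (u, v) ∈ [(79, 247), (261, 535), (367, 93), (549, 381)] ∧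
    ∀ x, inT x = true → S.g * S.psi x * S.g⁻¹ = S.psi (rOf [286, 574, 38, u, v] x) := by
  set g := S.g with hg
  obtain ⟨f574, -⟩ := code_facts
  have g574 : g * S.psi 574 * g⁻¹ = S.psi 288 := by
    rw [← f574, S.psi_mul (by norm_num) (by norm_num)]
    calc g * (S.psi 288 * S.psi 286) * g⁻¹ = (g * S.psi 288 * g⁻¹) * (g * S.psi 286 * g⁻¹) := by group
      _ = S.psi (mulC 286 574) := by rw [S.gz, S.ge, S.psi_mul (by norm_num) (by norm_num)]
      _ = S.psi 288 := by rw [show mulC 286 574 = 288 by decide +kernel]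
      _ = _ := rfl
  have himg : ∀ x, inT x = true → ∃ c, inT c = true ∧ S.psi c = g * S.psi x * g⁻¹ := by
    intro x hx
    have hlt := inT_lt hx
    have hc : Commute (S.psi x) (S.psi 286) := by
      show S.psi x * S.psi 286 = S.psi 286 * S.psi x
      rw [← S.psi_mul hlt (by norm_num), ← S.psi_mul (by norm_num) hlt, (inT_iff ⟨x, hlt⟩).1 hx]
    have hcz : Commute (S.psi x) (S.psi 288) := by
      show S.psi x * S.psi 288 = S.psi 288 * S.psi x
      rw [← S.psi_mul hlt (by norm_num), ← S.psi_mul (by norm_num) hlt]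
      exact congrArg S.psi (comm_288 ⟨x, hlt⟩)
    have h574 : Commute (S.psi x) (S.psi 574) := by
      rw [← f574, S.psi_mul (by norm_num) (by norm_num)]
      exact hcz.mul_right hc
    have cm : ∀ a, Commute (S.psi x) a → Commute (g * S.psi x * g⁻¹) (g * a * g⁻¹) := fun a h => by
      show g * S.psi x * g⁻¹ * (g * a * g⁻¹) = g * a * g⁻¹ * (g * S.psi x * g⁻¹)
      calc g * S.psi x * g⁻¹ * (g * a * g⁻¹) = g * (S.psi x * a) * g⁻¹ := by group
        _ = g * (a * S.psi x) * g⁻¹ := by rw [h.eq]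
        _ = _ := by group
    have c1 := cm _ hcz
    have c2 := cm _ h574
    rw [S.gz] at c1
    rw [g574] at c2
    obtain ⟨c, hc', e⟩ := S.cent (g * S.psi x * g⁻¹) (by rw [← S.psi_288]; exact c2.eq)
    refine ⟨c, (inT_iff ⟨c, hc'⟩).2 (S.inj _ _ (mulC_lt hc' (by norm_num)) (mulC_lt (by norm_num) hc') ?_), e⟩
    rw [S.psi_mul hc' (by norm_num), S.psi_mul (by norm_num) hc', e]
    exact c1.eq
  obtain ⟨u, hu, eu⟩ := himg 22 (by decide +kernel)
  obtain ⟨v, hv, ev⟩ := himg 79 (by decide +kernel)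
  set img : List ℕ := [286, 574, 38, u, v] with himgdef
  have himgk : ∀ k : Fin 5, img.getD k.1 0 < 576 ∧ S.psi (img.getD k.1 0) = g * S.psi (bs.getD k.1 0) * g⁻¹ := by
    intro k
    fin_cases k
    · exact ⟨by norm_num [img], S.gz.symm⟩
    · exact ⟨by norm_num [img], S.ge.symm⟩
    · exact ⟨by norm_num [img], S.gf.symm⟩
    · exact ⟨by simpa [img] using inT_lt hu, eu⟩
    · exact ⟨by simpa [img] using inT_lt hv, ev⟩
  have hword : ∀ w : List ℕ, (∀ k ∈ w, k < 5) → prodW bs w < 576 ∧ prodW img w < 576 ∧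
      S.psi (prodW img w) = g * S.psi (prodW bs w) * g⁻¹ := by
    intro w
    induction w with
    | nil => intro; exact ⟨by norm_num [prodW], by norm_num [prodW], by simp [prodW, S.psi_zero]⟩
    | cons k w ih =>
      intro hk
      obtain ⟨h1, h2, h3⟩ := ih fun j hj => hk j (List.mem_cons_of_mem _ hj)
      obtain ⟨hk1, hk2⟩ := himgk ⟨k, hk k (List.mem_cons_self ..)⟩
      have hb : bs.getD k 0 < 576 := inT_lt (inT_mul ⟨k, hk k (List.mem_cons_self ..)⟩).2
      refine ⟨mulC_lt hb h1, mulC_lt hk1 h2, ?_⟩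
      show S.psi (mulC _ _) = g * S.psi (mulC _ _) * g⁻¹
      rw [S.psi_mul hk1 h2, S.psi_mul hb h1, h3, hk2]
      group
  have hw5 : ∀ x : Fin 576, ((wordOf x.1).all fun k => decide (k < 5)) = true := by decide +kernel
  have hr : ∀ x, inT x = true → rOf img x < 576 ∧ S.psi (rOf img x) = g * S.psi x * g⁻¹ := by
    intro x hx
    obtain ⟨-, h2, h3⟩ := hword (wordOf x) fun k hk => by
      simpa using List.all_eq_true.1 (hw5 ⟨x, inT_lt hx⟩) k hk
    rw [inT_word hx] at h3
    exact ⟨h2, h3⟩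
  have hrT : ∀ x, inT x = true → inT (rOf img x) = true := fun x hx => by
    obtain ⟨c, hc, e⟩ := himg x hx
    rwa [S.inj _ _ (hr x hx).1 (inT_lt hc) ((hr x hx).2.trans e.symm)]
  have hT : ∀ p ∈ tTab, inT p.1 = true := fun p hp => List.any_eq_true.2 ⟨p, hp, Nat.beq_refl _⟩
  have hok : candOK img = true := by
    rw [candOK, Bool.and_eq_true]
    refine ⟨List.all_eq_true.2 fun p hp => List.all_eq_true.2 fun k hk => ?_, List.all_eq_true.2 fun p hp => ?_⟩
    · rw [List.mem_range] at hk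
      obtain ⟨hk1, hk2⟩ := himgk ⟨k, hk⟩
      have hm := List.all_eq_true.1 (inT_mul ⟨k, hk⟩).1 p hp
      have hb : bs.getD k 0 < 576 := inT_lt (inT_mul ⟨k, hk⟩).2
      obtain ⟨a1, a2⟩ := hr _ (hT p hp)
      obtain ⟨b1, b2⟩ := hr _ hm
      rw [show rOf img (mulC p.1 (bs.getD k 0)) = mulC (rOf img p.1) (img.getD k 0) from S.inj _ _ b1 (mulC_lt a1 hk1)
        (by rw [b2, S.psi_mul a1 hk1, S.psi_mul (inT_lt (hT p hp)) hb, a2, hk2]; group)]
      exact Nat.beq_refl _
    · have t1 := hrT _ (hT p hp)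
      have t2 := hrT _ t1
      obtain ⟨a1, a2⟩ := hr _ (hT p hp)
      obtain ⟨b1, b2⟩ := hr _ t1
      obtain ⟨c1, c2⟩ := hr _ t2
      have h3 : rOf img (rOf img (rOf img p.1)) = p.1 := S.inj _ _ c1 (inT_lt (hT p hp)) (by
        rw [c2, b2, a2]
        calc g * (g * (g * S.psi p.1 * g⁻¹) * g⁻¹) * g⁻¹ = g ^ 3 * S.psi p.1 * (g ^ 3)⁻¹ := by
              simp only [pow_succ, pow_zero, one_mul]; group
          _ = _ := by rw [hg, S.g3, one_mul, inv_one, mul_one])
      rw [h3, Nat.beq_refl, Bool.true_and]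
      by_cases hp0 : p.1 = 0
      · rw [hp0]; rfl
      · have hne : rOf img p.1 ≠ 0 := fun e => hp0 (S.inj _ _ (inT_lt (hT p hp)) (by norm_num) (by
          rw [e, S.psi_zero] at a2
          rw [S.psi_zero, show S.psi p.1 = g⁻¹ * (g * S.psi p.1 * g⁻¹) * g by group, ← a2]
          group))
        rw [show Nat.beq (rOf img p.1) 0 = false from Bool.eq_false_iff.2 fun e => hne (Nat.eq_of_beq_eq_true e)]
        simp
  obtain ⟨p, hp, hpu⟩ := List.any_eq_true.1 hu
  obtain ⟨q, hq, hqv⟩ := List.any_eq_true.1 hv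
  obtain ⟨i, hi, rfl⟩ := List.mem_iff_getElem.1 hp
  obtain ⟨j, hj, rfl⟩ := List.mem_iff_getElem.1 hq
  have hlen : tTab.length = 32 := rfl
  have ei : (tTab.getD i (0, [])).1 = u := by
    rw [List.getD_eq_getElem?_getD, List.getElem?_eq_getElem hi]; exact Nat.eq_of_beq_eq_true hpu
  have ej : (tTab.getD j (0, [])).1 = v := by
    rw [List.getD_eq_getElem?_getD, List.getElem?_eq_getElem hj]; exact Nat.eq_of_beq_eq_true hqv
  have hcl := cand_class ⟨i, hlen ▸ hi⟩ ⟨j, hlen ▸ hj⟩
  simp only [ei, ej] at hcl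
  exact ⟨u, v, hcl hok, fun x hx => (hr x hx).2.symm⟩

theorem not_bad {img : List ℕ} (him : img ∈ [[286, 574, 38, 261, 535], [286, 574, 38, 549, 381]])
    (hglue : ∀ x, inT x = true → S.g * S.psi x * S.g⁻¹ = S.psi (rOf img x)) : False := by
  obtain ⟨hy, b1, b2, b3, b4, hne⟩ := bad_facts img him
  set s := S.psi 5
  set w := s * S.g * (s * s) * S.g * s with hw
  have rlt : ∀ a, inT a = true → rOf img a < 576 := by
    have key : ∀ im ∈ [[286, 574, 38, 261, 535], [286, 574, 38, 549, 381]],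
        (tTab.all fun p => Nat.blt (rOf im p.1) 576) = true := by decide +kernel
    intro a ha
    obtain ⟨p, hp, e⟩ := List.any_eq_true.1 ha
    rw [← Nat.eq_of_beq_eq_true e]
    exact Nat.le_of_ble_eq_true (List.all_eq_true.1 (key img him) p hp)
  have act : ∀ y ∈ [288, 286, 38, 2], w * S.psi y * w⁻¹ = S.psi (badStep img y) := by
    intro y hy'
    obtain ⟨h1, h2⟩ := hy y hy'
    have hlt : y < 576 := by simp only [List.mem_cons, List.not_mem_nil, or_false] at hy'; omega
    unfold badStep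
    rw [S.psi_cj (by norm_num) (rlt _ h2), ← hglue _ h2, S.psi_cj (by norm_num) (cjC_lt (by norm_num) (rlt _ h1)),
      S.psi_cj (by norm_num) (rlt _ h1), ← hglue _ h1, S.psi_cj (by norm_num) hlt, hw]
    group
    rfl
  have cm : ∀ y, badStep img y = y → y ∈ [288, 286, 38, 2] → Commute w (S.psi y) := fun y e hy' => by
    have := act y hy'
    rw [e] at this
    exact mul_inv_eq_iff_eq_mul.1 this
  obtain ⟨c, hc, ec⟩ := S.cent w (by rw [← S.psi_288]; exact (cm 288 b1 (by simp)).eq)
  have hmul : ∀ b, b < 576 → Commute w (S.psi b) → mulC c b = mulC b c := fun b hb h =>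
    S.inj _ _ (mulC_lt hc hb) (mulC_lt hb hc) (by rw [S.psi_mul hc hb, S.psi_mul hb hc, ec]; exact h.eq)
  obtain ⟨hcE, -⟩ := cent_eight ⟨c, hc⟩ (hmul 286 (by norm_num) (cm 286 b2 (by simp)))
    (hmul 38 (by norm_num) (cm 38 b3 (by simp)))
  refine hne c hcE (S.inj _ _ (cjC_lt hc (by norm_num)) (by norm_num) ?_)
  rw [S.psi_cj hc (by norm_num), ec, act 2 (by simp), b4]

include S in
/-- the amalgam with normalised action -/
theorem exists_amal : Nonempty (Amal G) := by
  obtain ⟨u, v, huv, hglue⟩ := S.glue_cand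
  obtain ⟨F, g, g3, glue⟩ : ∃ F : Frame G, ∃ g : G, g ^ 3 = 1 ∧
      ∀ x, inT x = true → g * F.psi x * g⁻¹ = F.psi (rOf img0 x) := by
    have hgood : ∀ fl : Bool, ([286, 574, 38, u, v], fl) ∈ [([286, 574, 38, 79, 247], true), ([286, 574, 38, 367, 93], false)] →
        ∃ F : Frame G, ∃ g : G, g ^ 3 = 1 ∧ ∀ x, inT x = true → g * F.psi x * g⁻¹ = F.psi (rOf img0 x) := by
      intro fl hfl
      obtain ⟨hall, h22, hq3⟩ := good_facts _ hfl
      set img : List ℕ := [286, 574, 38, u, v] with himg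
      have r22 := hglue 22 h22
      have r22' : inT (rOf img 22) = true := by
        have key : ∀ p ∈ [([286, 574, 38, 79, 247], true), ([286, 574, 38, 367, 93], false)],
            inT (rOf p.1 22) = true ∧ rOf p.1 (rOf p.1 22) < 576 := by decide +kernel
        exact (key _ hfl).1
      have hr2 : rOf img (rOf img 22) < 576 := by
        have key : ∀ p ∈ [([286, 574, 38, 79, 247], true), ([286, 574, 38, 367, 93], false)],
            rOf p.1 (rOf p.1 22) < 576 := by decide +kernel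
        exact key _ hfl
      have r222 := hglue _ r22'
      set g := S.psi 22 * S.g with hg
      have hg3 : g ^ 3 = 1 := by
        have e : g ^ 3 = S.psi 22 * (S.g * S.psi 22 * S.g⁻¹) * (S.g * (S.g * S.psi 22 * S.g⁻¹) * S.g⁻¹) * S.g ^ 3 := by
          rw [hg]; simp only [pow_succ, pow_zero, one_mul]; group
        rw [e, r22, r222, S.g3, mul_one, ← S.psi_mul (by norm_num) (inT_lt r22'),
          ← S.psi_mul (mulC_lt (by norm_num) (inT_lt r22')) hr2, hq3, S.psi_zero]
      have hconj : ∀ x, inT x = true → inT (bif fl then flipC x else x) = true ∧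
          g * S.psi (bif fl then flipC x else x) * g⁻¹ =
            S.psi (bif fl then flipC (rOf img0 x) else rOf img0 x) := by
        intro x hx
        obtain ⟨p, hp, e⟩ := List.any_eq_true.1 hx
        have := List.all_eq_true.1 hall p hp
        simp only [Bool.and_eq_true] at this
        rw [Nat.eq_of_beq_eq_true e] at this
        refine ⟨this.1, ?_⟩
        rw [← Nat.eq_of_beq_eq_true this.2, S.psi_cj (by norm_num), ← hglue _ this.1, hg]
        · group
        · have key : ∀ p ∈ [([286, 574, 38, 79, 247], true), ([286, 574, 38, 367, 93], false)],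
              (tTab.all fun q => Nat.blt (rOf p.1 q.1) 576) = true := by decide +kernel
          obtain ⟨q, hq, e'⟩ := List.any_eq_true.1 this.1
          simp only [← Nat.eq_of_beq_eq_true e']
          exact Nat.le_of_ble_eq_true (List.all_eq_true.1 (key _ hfl) q hq)
      cases fl
      · exact ⟨S.toFrame, g, hg3, fun x hx => (hconj x hx).2⟩
      · obtain ⟨F', hF'⟩ := flip_psi S.toFrame
        refine ⟨F', g, hg3, fun x hx => ?_⟩
        have hr : inT (rOf img0 x) = true := by
          obtain ⟨p, hp, e⟩ := List.any_eq_true.1 hx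
          have := List.all_eq_true.1 img0_facts p hp
          simp only [Bool.and_eq_true] at this
          rw [← Nat.eq_of_beq_eq_true e]
          exact this.1
        rw [hF' x (inT_lt hx), hF' _ (inT_lt hr)]
        exact (hconj x hx).2
    simp only [List.mem_cons, List.not_mem_nil, or_false, Prod.mk.injEq] at huv
    rcases huv with ⟨rfl, rfl⟩ | ⟨rfl, rfl⟩ | ⟨rfl, rfl⟩ | ⟨rfl, rfl⟩
    · exact hgood true (by simp)
    · exact (S.not_bad (by simp) hglue).elim
    · exact hgood false (by simp)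
    · exact (S.not_bad (by simp) hglue).elim
  obtain ⟨g', g3', glue', h7, h3⟩ := normalise_of_glue F g g3 glue
  exact ⟨⟨F, g', g3', glue', h7, h3⟩⟩

end Setup

end Cfsg.Agent.GTwoTwoLocal
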