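import Cfsg.Agent.Lib.Spor.GTwoTwoLocal.Frame

/-!
Two commuting copies of SL₂(3) with a common centre inside a group, and changes of their parametrisations.
-/

set_option autoImplicit false
set_option maxRecDepth 100000

namespace Cfsg.Agent.GTwoTwoLocal

/-- shift by the central element -/
def sh (i : ℕ) : ℕ := Nat.mod (Nat.add i 12) 24

/-- automorphism number `(k, i)` of SL₂(3) -/
def sig (k i x : ℕ) : ℕ := m24 (m24 i (bif Nat.beq k 0 then x else d24 x)) (i24 i)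

theorem sig_lt {k i x : ℕ} (hi : i < 24) (hx : x < 24) : sig k i x < 24 := by
  have h : (bif Nat.beq k 0 then x else d24 x) < 24 := by
    cases Nat.beq k 0
    · exact d24_lt ⟨x, hx⟩
    · exact hx
  exact m24_lt ⟨_, m24_lt ⟨i, hi⟩ ⟨_, h⟩⟩ ⟨_, i24_lt ⟨i, hi⟩⟩

theorem sig_hom : ∀ k : Fin 2, ∀ i : Fin 24, ∀ x y : Fin 24,
    sig k.1 i.1 (m24 x.1 y.1) = m24 (sig k.1 i.1 x.1) (sig k.1 i.1 y.1) := by decide +kernel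

theorem sig_facts : ∀ k : Fin 2, ∀ i : Fin 24, sig k.1 i.1 12 = 12 ∧ (∀ y : Fin 24, ∃ x : Fin 24, sig k.1 i.1 x.1 = y.1) ∧
    (∀ x : Fin 24, sig k.1 i.1 x.1 = 0 → x.1 = 0) := by decide +kernel

theorem eq_of_quot : ∀ i j : Fin 24, m24 i.1 (i24 j.1) = 0 → i = j := by decide +kernel

/-- two commuting copies of SL₂(3) with common centre -/
structure Half (G : Type*) [Group G] where
  /-- the first factor -/
  f1 : ℕ → G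
  /-- the second factor -/
  f2 : ℕ → G
  m1 : ∀ i j, i < 24 → j < 24 → f1 (m24 i j) = f1 i * f1 j
  m2 : ∀ i j, i < 24 → j < 24 → f2 (m24 i j) = f2 i * f2 j
  comm : ∀ i j, i < 24 → j < 24 → f1 i * f2 j = f2 j * f1 i
  zz : f1 12 = f2 12
  inj1 : ∀ i, i < 24 → f1 i = 1 → i = 0
  inj2 : ∀ i, i < 24 → f2 i = 1 → i = 0
  meet : ∀ i j, i < 24 → j < 24 → f1 i = f2 j → (i = 0 ∨ i = 12) ∧ j = i

namespace Half

variable {G : Type*} [Group G] (B : Half G)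

/-- the element given by a pair -/
def el (p q : ℕ) : G := B.f1 p * B.f2 q

/-- the central involution -/
def z : G := B.f1 12

theorem f1_zero : B.f1 0 = 1 := by
  have h := B.m1 0 0 (by norm_num) (by norm_num)
  rw [show m24 0 0 = 0 by decide +kernel] at h
  exact left_eq_mul.1 h

theorem f2_zero : B.f2 0 = 1 := by
  have h := B.m2 0 0 (by norm_num) (by norm_num)
  rw [show m24 0 0 = 0 by decide +kernel] at h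
  exact left_eq_mul.1 h

theorem f1_inv {i : ℕ} (hi : i < 24) : B.f1 (i24 i) = (B.f1 i)⁻¹ :=
  eq_inv_of_mul_eq_one_left (by rw [← B.m1 _ _ (i24_lt ⟨i, hi⟩) hi, (m24_left_id ⟨i, hi⟩).2.2.1, B.f1_zero])

theorem f2_inv {i : ℕ} (hi : i < 24) : B.f2 (i24 i) = (B.f2 i)⁻¹ :=
  eq_inv_of_mul_eq_one_left (by rw [← B.m2 _ _ (i24_lt ⟨i, hi⟩) hi, (m24_left_id ⟨i, hi⟩).2.2.1, B.f2_zero])

theorem f1_inj {i j : ℕ} (hi : i < 24) (hj : j < 24) (h : B.f1 i = B.f1 j) : i = j := by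
  have h' := B.inj1 _ (m24_lt ⟨i, hi⟩ ⟨_, i24_lt ⟨j, hj⟩⟩)
    (by rw [B.m1 _ _ hi (i24_lt ⟨j, hj⟩), B.f1_inv hj, h, mul_inv_cancel])
  exact congrArg Fin.val (eq_of_quot ⟨i, hi⟩ ⟨j, hj⟩ h')

theorem f2_inj {i j : ℕ} (hi : i < 24) (hj : j < 24) (h : B.f2 i = B.f2 j) : i = j := by
  have h' := B.inj2 _ (m24_lt ⟨i, hi⟩ ⟨_, i24_lt ⟨j, hj⟩⟩)
    (by rw [B.m2 _ _ hi (i24_lt ⟨j, hj⟩), B.f2_inv hj, h, mul_inv_cancel])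
  exact congrArg Fin.val (eq_of_quot ⟨i, hi⟩ ⟨j, hj⟩ h')

theorem el_mul {p q p' q' : ℕ} (hp : p < 24) (hq : q < 24) (hp' : p' < 24) (hq' : q' < 24) :
    B.el (m24 p p') (m24 q q') = B.el p q * B.el p' q' := by
  simp only [el, B.m1 _ _ hp hp', B.m2 _ _ hq hq', mul_assoc]
  congr 1
  rw [← mul_assoc, ← mul_assoc, B.comm p' q hp' hq]

theorem el_sh {p q : ℕ} (hp : p < 24) (hq : q < 24) : B.el (sh p) (sh q) = B.el p q := by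
  have h1 : sh p = m24 p 12 := (m24_left_id ⟨p, hp⟩).2.2.2.2.2.symm
  have h2 : sh q = m24 q 12 := (m24_left_id ⟨q, hq⟩).2.2.2.2.2.symm
  rw [h1, h2, B.el_mul hp hq (by norm_num) (by norm_num)]
  have : B.el 12 12 = 1 := by
    rw [el, ← B.zz, ← B.m1 12 12 (by norm_num) (by norm_num), show m24 12 12 = 0 by decide +kernel, B.f1_zero]
  rw [this, mul_one]

theorem el_inv {p q : ℕ} (hp : p < 24) (hq : q < 24) : B.el (i24 p) (i24 q) = (B.el p q)⁻¹ := by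
  refine eq_inv_of_mul_eq_one_left ?_
  rw [← B.el_mul (i24_lt ⟨p, hp⟩) (i24_lt ⟨q, hq⟩) hp hq, (m24_left_id ⟨p, hp⟩).2.2.1,
    (m24_left_id ⟨q, hq⟩).2.2.1, el, B.f1_zero, B.f2_zero, mul_one]

theorem el_eq_one {p q : ℕ} (hp : p < 24) (hq : q < 24) (h : B.el p q = 1) :
    (p = 0 ∧ q = 0) ∨ (p = 12 ∧ q = 12) := by
  have h1 : B.f1 p = B.f2 (i24 q) := by
    rw [B.f2_inv hq]; exact eq_inv_of_mul_eq_one_left h
  obtain ⟨h2, h3⟩ := B.meet _ _ hp (i24_lt ⟨q, hq⟩) h1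
  have key : ∀ r : Fin 24, (i24 r.1 = 0 → r.1 = 0) ∧ (i24 r.1 = 12 → r.1 = 12) := by decide +kernel
  rcases h2 with rfl | rfl
  · exact Or.inl ⟨rfl, (key ⟨q, hq⟩).1 h3⟩
  · exact Or.inr ⟨rfl, (key ⟨q, hq⟩).2 h3⟩

theorem el_inj {p q p' q' : ℕ} (hp : p < 24) (hq : q < 24) (hp' : p' < 24) (hq' : q' < 24)
    (h : B.el p q = B.el p' q') : (p = p' ∧ q = q') ∨ (p = sh p' ∧ q = sh q') := by
  have h1 : B.el (m24 p (i24 p')) (m24 q (i24 q')) = 1 := by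
    rw [B.el_mul hp hq (i24_lt ⟨p', hp'⟩) (i24_lt ⟨q', hq'⟩), B.el_inv hp' hq', h, mul_inv_cancel]
  have key : ∀ a b : Fin 24, (m24 a.1 (i24 b.1) = 0 → a.1 = b.1) ∧ (m24 a.1 (i24 b.1) = 12 → a.1 = sh b.1) := by
    decide +kernel
  rcases B.el_eq_one (m24_lt ⟨p, hp⟩ ⟨_, i24_lt ⟨p', hp'⟩⟩) (m24_lt ⟨q, hq⟩ ⟨_, i24_lt ⟨q', hq'⟩⟩) h1 with
    ⟨e1, e2⟩ | ⟨e1, e2⟩
  · exact Or.inl ⟨(key ⟨p, hp⟩ ⟨p', hp'⟩).1 e1, (key ⟨q, hq⟩ ⟨q', hq'⟩).1 e2⟩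
  · exact Or.inr ⟨(key ⟨p, hp⟩ ⟨p', hp'⟩).2 e1, (key ⟨q, hq⟩ ⟨q', hq'⟩).2 e2⟩

/-- change of parametrisation by automorphisms of SL₂(3) -/
def pre {k i l j : ℕ} (hk : k < 2) (hi : i < 24) (hl : l < 2) (hj : j < 24) : Half G where
  f1 x := B.f1 (sig k i x)
  f2 x := B.f2 (sig l j x)
  m1 a b ha hb := by
    rw [← B.m1 _ _ (sig_lt hi ha) (sig_lt hi hb), ← sig_hom ⟨k, hk⟩ ⟨i, hi⟩ ⟨a, ha⟩ ⟨b, hb⟩]
  m2 a b ha hb := by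
    rw [← B.m2 _ _ (sig_lt hj ha) (sig_lt hj hb), ← sig_hom ⟨l, hl⟩ ⟨j, hj⟩ ⟨a, ha⟩ ⟨b, hb⟩]
  comm a b ha hb := B.comm _ _ (sig_lt hi ha) (sig_lt hj hb)
  zz := by rw [(sig_facts ⟨k, hk⟩ ⟨i, hi⟩).1, (sig_facts ⟨l, hl⟩ ⟨j, hj⟩).1]; exact B.zz
  inj1 a ha h := (sig_facts ⟨k, hk⟩ ⟨i, hi⟩).2.2 ⟨a, ha⟩ (B.inj1 _ (sig_lt hi ha) h)
  inj2 a ha h := (sig_facts ⟨l, hl⟩ ⟨j, hj⟩).2.2 ⟨a, ha⟩ (B.inj2 _ (sig_lt hj ha) h)
  meet a b ha hb h := by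
    obtain ⟨h1, h2⟩ := B.meet _ _ (sig_lt hi ha) (sig_lt hj hb) h
    have key : ∀ k : Fin 2, ∀ i : Fin 24, ∀ x : Fin 24, (sig k.1 i.1 x.1 = 0 → x.1 = 0) ∧
        (sig k.1 i.1 x.1 = 12 → x.1 = 12) := by decide +kernel
    rcases h1 with e | e
    · rw [e] at h2
      have e1 := (key ⟨k, hk⟩ ⟨i, hi⟩ ⟨a, ha⟩).1 e
      have e2 := (key ⟨l, hl⟩ ⟨j, hj⟩ ⟨b, hb⟩).1 h2
      simp only at e1 e2
      subst e1 e2
      exact ⟨Or.inl rfl, rfl⟩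
    · rw [e] at h2
      have e1 := (key ⟨k, hk⟩ ⟨i, hi⟩ ⟨a, ha⟩).2 e
      have e2 := (key ⟨l, hl⟩ ⟨j, hj⟩ ⟨b, hb⟩).2 h2
      simp only at e1 e2
      subst e1 e2
      exact ⟨Or.inr rfl, rfl⟩

theorem pre_el {k i l j : ℕ} (hk : k < 2) (hi : i < 24) (hl : l < 2) (hj : j < 24) (p q : ℕ) :
    (B.pre hk hi hl hj).el p q = B.el (sig k i p) (sig l j q) := rfl

theorem pre_z {k i l j : ℕ} (hk : k < 2) (hi : i < 24) (hl : l < 2) (hj : j < 24) :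
    (B.pre hk hi hl hj).z = B.z := by
  show B.f1 (sig k i 12) = B.f1 12
  rw [(sig_facts ⟨k, hk⟩ ⟨i, hi⟩).1]

theorem pre_surj {k i l j : ℕ} (hk : k < 2) (hi : i < 24) (hl : l < 2) (hj : j < 24) {p q : ℕ} (hp : p < 24)
    (hq : q < 24) : ∃ p' q', p' < 24 ∧ q' < 24 ∧ (B.pre hk hi hl hj).el p' q' = B.el p q := by
  obtain ⟨a, ha⟩ := (sig_facts ⟨k, hk⟩ ⟨i, hi⟩).2.1 ⟨p, hp⟩
  obtain ⟨b, hb⟩ := (sig_facts ⟨l, hl⟩ ⟨j, hj⟩).2.1 ⟨q, hq⟩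
  exact ⟨a.1, b.1, a.2, b.2, by rw [pre_el, ha, hb]⟩

end Half

end Cfsg.Agent.GTwoTwoLocal
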