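import Cfsg.Agent.Lib.Spor.GTwoTwoLocal.CertUse
import Cfsg.Agent.Lib.Spor.GTwoTwoLocal.CertMain
import Cfsg.Agent.Lib.Spor.GTwoTwoLocal.CertKill0
import Cfsg.Agent.Lib.Spor.GTwoTwoLocal.CertKill1
import Cfsg.Agent.Lib.Spor.GTwoTwoLocal.CertKill2
import Cfsg.Agent.Lib.Spor.GTwoTwoLocal.CertKill3
import Cfsg.Agent.Lib.Spor.GTwoTwoLocal.CertKill4
import Cfsg.Agent.Lib.Spor.GTwoTwoLocal.CertKill5
import Cfsg.Agent.Lib.Spor.GTwoTwoLocal.CertKill6
import Cfsg.Agent.Lib.Spor.GTwoTwoLocal.CertKill7
import Cfsg.Agent.Lib.Spor.GTwoTwoLocal.CertKill8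
import Cfsg.Agent.Lib.Spor.GTwoTwoLocal.CertKill9
import Cfsg.Agent.Lib.Spor.GTwoTwoLocal.CertKill10

/-!
The new element is unique, and the group generated by the amalgam is bounded.
-/

set_option autoImplicit false
set_option maxRecDepth 100000
set_option linter.style.haveILetI false

namespace Cfsg.Agent.GTwoTwoLocal

open Cfsg.Agent.Spor.PC

namespace Amal

variable {G : Type*} [Group G] (A : Amal G)

/-- the group generated by the amalgam -/
def K : Subgroup G := Subgroup.closure A.rels.gens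

theorem glt_mem_K : ∀ k, k < 11 → glt A.psi A.g k ∈ A.K := fun k hk => Subgroup.subset_closure ⟨k, hk, rfl⟩

theorem wev_mem_K (w : List ℕ) (h : ∀ k ∈ w, k < 11) : wev (glt A.psi A.g) w ∈ A.K :=
  Subgroup.list_prod_mem _ fun x hx => by
    obtain ⟨k, hk, rfl⟩ := List.mem_map.1 hx
    exact A.glt_mem_K k (h k hk)

theorem not_pow_216 (h : (A.psi 9 * A.g) ^ 216 = 1) : False := by
  have h1 : A.psi 9 * A.g = 1 := orderOf_eq_one_iff.1 (Nat.eq_one_of_dvd_coprimes (by norm_num : Nat.Coprime 216 7)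
    (orderOf_dvd_of_pow_eq_one h) (orderOf_dvd_of_pow_eq_one A.seven))
  have hg : A.g = (A.psi 9)⁻¹ := eq_inv_of_mul_eq_one_right h1
  have key : cjC (invC 9) 286 ≠ rOf img0 286 ∧ inT 286 = true ∧ rOf img0 286 < 576 ∧ invC 9 < 576 := by decide +kernel
  have h2 := A.glue 286 key.2.1
  rw [hg, ← A.psi_inv (by norm_num), ← A.psi_cj key.2.2.2 (by norm_num)] at h2
  exact key.1 (A.inj _ _ (cjC_lt key.2.2.2 (by norm_num)) key.2.2.1 h2)

theorem side_word_mem {y : G} (P1 : Subgroup G) (s : Bool) (wy : List ℕ) (hy : y ∈ P1)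
    (ha : A.psi (bif s then sideP else sideQ).a ∈ P1)
    (hL : ∀ h ∈ (bif s then sideP else sideQ).L, A.psi h ∈ P1) (he : wev (glt A.psi A.g) (yW wy) = y)
    (hwy : ∀ k ∈ wy, k < 11) :
    ∀ l ∈ (bif s then [[0], [4], [6], [8], yW wy] else [[0], [2], [4], [8], yW wy]),
      wev (glt A.psi A.g) l ∈ P1 ⊓ A.K := by
  have one : ∀ k, k < 11 → glt A.psi A.g k ∈ P1 → wev (glt A.psi A.g) [k] ∈ P1 ⊓ A.K := fun k hk h => by
    simp only [wev, List.map_cons, List.map_nil, List.prod_cons, List.prod_nil, mul_one]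
    exact ⟨h, A.glt_mem_K k hk⟩
  have last : wev (glt A.psi A.g) (yW wy) ∈ P1 ⊓ A.K := ⟨he ▸ hy, A.wev_mem_K _ fun k hk => by
    simp only [yW, List.mem_append, List.mem_cons, List.not_mem_nil, or_false] at hk
    rcases hk with (hk | hk) | hk
    · omega
    · exact hwy k hk
    · omega⟩
  cases s
  · intro l hl
    simp only [cond_false, List.mem_cons, List.not_mem_nil, or_false] at hl
    rcases hl with rfl | rfl | rfl | rfl | rfl
    · exact one 0 (by norm_num) (hL 144 (by decide))
    · exact one 2 (by norm_num) (hL 96 (by decide))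
    · exact one 4 (by norm_num) ha
    · exact one 8 (by norm_num) (hL 1 (by decide))
    · exact last
  · intro l hl
    simp only [cond_true, List.mem_cons, List.not_mem_nil, or_false] at hl
    rcases hl with rfl | rfl | rfl | rfl | rfl
    · exact one 0 (by norm_num) ha
    · exact one 4 (by norm_num) (hL 12 (by decide))
    · exact one 6 (by norm_num) (hL 8 (by decide))
    · exact one 8 (by norm_num) (hL 1 (by decide))
    · exact last

theorem cert_kill [Finite G] {y : G} (hn : New A y) (s : Bool) {D : Data} {m : ℕ} (hck : Checked D m)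
    (hiw : (List.range 16).map (ivL D.iw) = ivT) (hnr : D.nr = 36) (hne : D.ne = 11) (hnn : D.nn = 1) (wy : List ℕ)
    (hnw : D.nw = 41) (hwy : ∀ k ∈ wy, k < 9) (he : y = A.W * A.psi (wcC wy) * A.W⁻¹)
    (hw : ((List.range D.nw).map fun k => wDecode (fld D.words 512 k)) =
      baseW ++ relY wy ++ (bif s then [[0], [4], [6], [8], yW wy] else [[0], [2], [4], [8], yW wy]))
    (hmv : ((List.range D.ne).map fun k => wDecode (fld D.words 512 (D.nw + k))) = (List.range 11).map fun k => [k]) :
    False := by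
  obtain ⟨P1, hf, -, hy, ha, hL, hexp⟩ := A.exists_bound s hn
  have he' : wev (glt A.psi A.g) (yW wy) = y := by
    rw [A.rels.yW_eq wy hwy, he, W, ← A.psi_one]
  obtain ⟨-, hcard⟩ := A.rels.cert_bound hck hiw hnr hne wy _ (by cases s <;> exact hnw) hw hmv hwy
    (he'.symm ▸ hn.ca) (he'.symm ▸ hn.cc) (P1 ⊓ A.K)
    (A.side_word_mem P1 s wy hy ha hL he' fun k hk => (hwy k hk).trans (by norm_num))
  rw [hnn, one_mul] at hcard
  have hle : A.K ≤ P1 := by
    have := Subgroup.eq_of_le_of_card_ge (inf_le_right : P1 ⊓ A.K ≤ A.K) hcard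
    rw [← this]; exact inf_le_left
  refine A.not_pow_216 (hexp _ (hle ?_))
  have e := (A.rels.wev_code [6, 8] (by decide)).2
  rw [show wcC [6, 8] = 9 by decide +kernel] at e
  rw [← e]
  exact mul_mem (A.wev_mem_K [6, 8] (by decide)) (A.glt_mem_K 9 (by norm_num))

theorem new_unique [Finite G] {y : G} (hn : New A y) : y = A.W * A.psi 144 * A.W⁻¹ := by
  obtain ⟨c, hc, e⟩ := hn.code
  simp only [yCodes, List.mem_cons, List.not_mem_nil, or_false] at hc
  rcases hc with rfl | rfl | rfl | rfl | rfl | rfl | rfl | rfl | rfl | rfl | rfl | rfl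
  · exact e
  · exact (A.cert_kill hn true CertKill0.checked (by decide +kernel) rfl rfl rfl [4] rfl (by decide)
      (by rw [e, show wcC [4] = 12 by decide +kernel]) (by rw [CertKill0.words_ok]; rfl) CertKill0.moves_ok).elim
  · exact (A.cert_kill hn true CertKill1.checked (by decide +kernel) rfl rfl rfl [0, 4] rfl (by decide)
      (by rw [e, show wcC [0, 4] = 156 by decide +kernel]) (by rw [CertKill1.words_ok]; rfl) CertKill1.moves_ok).elim
  · exact (A.cert_kill hn true CertKill2.checked (by decide +kernel) rfl rfl rfl [1, 4] rfl (by decide)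
      (by rw [e, show wcC [1, 4] = 228 by decide +kernel]) (by rw [CertKill2.words_ok]; rfl) CertKill2.moves_ok).elim
  · exact (A.cert_kill hn false CertKill3.checked (by decide +kernel) rfl rfl rfl [1, 2, 0] rfl (by decide)
      (by rw [e, show wcC [1, 2, 0] = 336 by decide +kernel]) (by rw [CertKill3.words_ok]; rfl) CertKill3.moves_ok).elim
  · exact (A.cert_kill hn true CertKill4.checked (by decide +kernel) rfl rfl rfl [5, 6, 4] rfl (by decide)
      (by rw [e, show wcC [5, 6, 4] = 292 by decide +kernel]) (by rw [CertKill4.words_ok]; rfl) CertKill4.moves_ok).elim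
  · exact (A.cert_kill hn true CertKill5.checked (by decide +kernel) rfl rfl rfl [1, 2, 0, 4] rfl (by decide)
      (by rw [e, show wcC [1, 2, 0, 4] = 348 by decide +kernel]) (by rw [CertKill5.words_ok]; rfl) CertKill5.moves_ok).elim
  · exact (A.cert_kill hn true CertKill6.checked (by decide +kernel) rfl rfl rfl [0, 5, 6, 4] rfl (by decide)
      (by rw [e, show wcC [0, 5, 6, 4] = 436 by decide +kernel]) (by rw [CertKill6.words_ok]; rfl) CertKill6.moves_ok).elim
  · exact (A.cert_kill hn true CertKill7.checked (by decide +kernel) rfl rfl rfl [0, 5, 7, 4] rfl (by decide)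
      (by rw [e, show wcC [0, 5, 7, 4] = 452 by decide +kernel]) (by rw [CertKill7.words_ok]; rfl) CertKill7.moves_ok).elim
  · exact (A.cert_kill hn true CertKill8.checked (by decide +kernel) rfl rfl rfl [1, 3, 0, 4] rfl (by decide)
      (by rw [e, show wcC [1, 3, 0, 4] = 540 by decide +kernel]) (by rw [CertKill8.words_ok]; rfl) CertKill8.moves_ok).elim
  · exact (A.cert_kill hn true CertKill9.checked (by decide +kernel) rfl rfl rfl [0, 3, 4, 7] rfl (by decide)
      (by rw [e, show wcC [0, 3, 4, 7] = 52 by decide +kernel]) (by rw [CertKill9.words_ok]; rfl) CertKill9.moves_ok).elim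
  · exact (A.cert_kill hn true CertKill10.checked (by decide +kernel) rfl rfl rfl [0, 3, 6, 5] rfl (by decide)
      (by rw [e, show wcC [0, 3, 6, 5] = 68 by decide +kernel]) (by rw [CertKill10.words_ok]; rfl) CertKill10.moves_ok).elim

theorem exists_bound_K [Finite G] {y : G} (hn : New A y) :
    Nat.card A.K ≤ 364 * 11664 ∧ y ∈ A.K := by
  have e := A.new_unique hn
  obtain ⟨P1, hf, hcard, hy, ha, hL, -⟩ := A.exists_bound true hn
  have hwy : ∀ k ∈ [0], k < 9 := by decide
  have he' : wev (glt A.psi A.g) (yW [0]) = y := by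
    rw [A.rels.yW_eq [0] hwy, show wcC [0] = 144 by decide +kernel, e, W, ← A.psi_one]
  obtain ⟨-, hK⟩ := A.rels.cert_bound CertMain.checked (by decide +kernel) rfl rfl [0]
    [[0], [4], [6], [8], yW [0]] rfl (by rw [CertMain.words_ok]; rfl) CertMain.moves_ok hwy
    (he'.symm ▸ hn.ca) (he'.symm ▸ hn.cc) (P1 ⊓ A.K) (A.side_word_mem P1 true [0] hy ha hL he' (by decide))
  refine ⟨hK.trans ?_, he' ▸ A.wev_mem_K _ (by decide)⟩
  rw [show CertMain.dat.nn = 364 from rfl]
  exact Nat.mul_le_mul_left _ ((Subgroup.card_le_of_le (inf_le_left : P1 ⊓ A.K ≤ P1)).trans hcard)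

end Amal

end Cfsg.Agent.GTwoTwoLocal
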