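import Cfsg.Agent.Lib.Spor.GTwoTwoLocal.Model
import Cfsg.Agent.Lib.Spor.GTwoTwoLocal.Kills

/-!
The group generated by the amalgam is the image of the model: both are bounded through the pair group.
-/

set_option autoImplicit false
set_option maxRecDepth 100000
set_option linter.style.haveILetI false

namespace Cfsg.Agent.GTwoTwoLocal

open Cfsg.Agent.Spor.PC Cfsg.Lie Cfsg.Agent.Lie.G2Orders

/-- a group of order at most three is centralised by every element of order three normalising it -/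
theorem commute_of_small {G : Type*} [Group G] (N : Subgroup G) [Finite N] (hN : Nat.card N ≤ 3) {k : G}
    (hk : k ^ 3 = 1) (hnorm : ∀ x ∈ N, k * x * k⁻¹ ∈ N) {x : G} (hx : x ∈ N) : Commute k x := by
  classical
  show k * x = x * k
  rw [← mul_inv_eq_iff_eq_mul]
  by_contra hne
  set x1 := k * x * k⁻¹ with h1
  set x2 := k * x1 * k⁻¹ with h2
  have e3 : k * x2 * k⁻¹ = x := by
    have : k * x2 * k⁻¹ = k ^ 3 * x * (k ^ 3)⁻¹ := by
      simp only [h2, h1, pow_succ, pow_zero, one_mul, mul_inv_rev, mul_assoc]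
    rw [this, hk, one_mul, inv_one, mul_one]
  have inj : Function.Injective fun v => k * v * k⁻¹ := fun a b h => by simpa using h
  have hxne : x ≠ 1 := fun e => hne (by rw [h1, e]; group)
  have h1ne : x1 ≠ 1 := fun e => hxne (inj (show k * x * k⁻¹ = k * 1 * k⁻¹ by rw [← h1, e]; group))
  have h2ne : x2 ≠ 1 := fun e => h1ne (inj (show k * x1 * k⁻¹ = k * 1 * k⁻¹ by rw [← h2, e]; group))
  have h12 : x1 ≠ x2 := fun e => hne (inj (show k * x1 * k⁻¹ = k * x * k⁻¹ by rw [← h2, ← h1, ← e]))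
  have h02 : x ≠ x2 := fun e => hne (by
    have : k * x2 * k⁻¹ = x1 := by rw [← e]
    rw [← this, e3])
  have m1 := hnorm x hx
  have m2 := hnorm x1 m1
  have hsub : ({1, x, x1, x2} : Finset G) ⊆ (N : Set G).toFinite.toFinset := by
    intro v hv
    simp only [Finset.mem_insert, Finset.mem_singleton] at hv
    rw [Set.Finite.mem_toFinset]
    rcases hv with rfl | rfl | rfl | rfl
    exacts [one_mem N, hx, m1, m2]
  have hcard := Finset.card_le_card hsub
  rw [← Nat.card_eq_card_finite_toFinset, SetLike.coe_sort_coe] at hcard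
  have h4 : ({1, x, x1, x2} : Finset G).card = 4 := by
    rw [Finset.card_insert_of_notMem (by simp [hxne.symm, h1ne.symm, h2ne.symm]),
      Finset.card_insert_of_notMem (by simp [Ne.symm hne, h02]),
      Finset.card_insert_of_notMem (by simp [h12]), Finset.card_singleton]
  omega

/-- facts on the code of the side of the first factor -/
theorem pow_216 : invC 144 = 216 := by decide +kernel

theorem side_aux {X : Type*} [Group X] {ψ : ℕ → X} (hψ : CodeHom ψ) {y : X} (hy : Commute y (ψ 144)) :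
    (∀ h ∈ sideP.L, ∀ z ∈ Subgroup.zpowers (ψ 144), ψ h * z * (ψ h)⁻¹ ∈ Subgroup.zpowers (ψ 144)) ∧
      ∀ r ∈ sideP.reps, ∀ z ∈ Subgroup.zpowers (ψ 144), Commute z (ψ r * y * (ψ r)⁻¹) := by
  obtain ⟨-, -, -, -, -, -, -, hL, hreps, -⟩ := side_facts true
  refine ⟨?_, ?_⟩
  · rintro h hh _ ⟨m, rfl⟩
    show ψ h * ψ 144 ^ m * (ψ h)⁻¹ ∈ _
    rw [← conj_zpow]
    refine Subgroup.zpow_mem _ ?_ m
    obtain ⟨hlt, -, hcj, -⟩ := hL h hh
    rw [← hψ.cj hlt (by norm_num)]
    rcases hcj with e | e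
    · rw [show cjC h 144 = 144 from e]; exact Subgroup.mem_zpowers _
    · rw [show cjC h 144 = invC 144 from e, hψ.inv (by norm_num)]; exact inv_mem (Subgroup.mem_zpowers _)
  · rintro r hr _ ⟨m, rfl⟩
    have h1 : Commute (ψ 144) (ψ r) := by
      obtain ⟨hlt, e⟩ := hreps r hr
      show ψ 144 * ψ r = ψ r * ψ 144
      rw [← hψ.mul _ _ (by norm_num) hlt, ← hψ.mul _ _ hlt (by norm_num)]
      exact (congrArg ψ e).symm
    exact ((h1.mul_right hy.symm).mul_right h1.inv_right).zpow_left m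

/-- codes of the fusion -/
theorem fix_facts : (∀ c ∈ [144, 96, 12, 8], c < 576 ∧ powC c 3 = 0) ∧ powC (mulC 144 96) 2 = 288 ∧
    (∀ c : Fin 576, (∀ e ∈ [144, 96, 12, 8, 288], mulC c.1 e = mulC e c.1) → c.1 = 0 ∨ c.1 = 288) ∧
    inT 288 = true ∧ rOf img0 288 = 286 ∧ mulC 144 96 < 576 := by decide +kernel

namespace Amal

variable {G : Type*} [Group G] (A : Amal G)

theorem comm_one {y : G} (hn : New A y) : Commute y (A.psi 1) := by
  have h234 : Commute y (A.psi 234) := by
    have key : 234 = mulC (powC 144 2) (powC 12 2) ∨ 234 = mulC (powC 144 1) (powC 12 2) ∨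
        234 = mulC (powC 144 2) (powC 12 1) ∨ 234 = mulC (powC 144 1) (powC 12 1) := by decide +kernel
    obtain ⟨i, j, e⟩ : ∃ i j, 234 = mulC (powC 144 i) (powC 12 j) := by
      rcases key with e | e | e | e <;> exact ⟨_, _, e⟩
    obtain ⟨l1, e1⟩ := A.pow_psi (x := 144) (by norm_num) i
    obtain ⟨l2, e2⟩ := A.pow_psi (x := 12) (by norm_num) j
    rw [e, A.psi_mul l1 l2, e1, e2]
    exact ((show Commute y _ from hn.ca).pow_right i).mul_right ((show Commute y _ from hn.cc).pow_right j)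
  rw [← p_facts.2.2.2.2, A.psi_mul (by norm_num) (by norm_num)]
  exact h234.mul_right hn.ct

theorem psi_mem_K {x : ℕ} (_hx : x < 576) : A.psi x ∈ A.K := by
  have code : ∀ p, A.psi (24 * p) = A.f1 p := fun p => by
    rw [Base.psi, show cP (24 * p) = p by show 24 * p / 24 = p; omega,
      show cQ (24 * p) = 0 by show 24 * p / 2 % 12 = 0; omega, show cS (24 * p) = 0 by show 24 * p % 2 = 0; omega,
      A.f2_zero, if_pos rfl, mul_one, mul_one]
  have code2 : ∀ q, q < 12 → A.psi (2 * q) = A.f2 q := fun q hq => by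
    rw [Base.psi, show cP (2 * q) = 0 by show 2 * q / 24 = 0; omega,
      show cQ (2 * q) = q by show 2 * q / 2 % 12 = q; omega, show cS (2 * q) = 0 by show 2 * q % 2 = 0; omega,
      A.f1_zero, if_pos rfl, mul_one, one_mul]
  have g1 : ∀ n, A.f1 (gen3 n) ∈ A.K := fun n => by
    have h : gen3 n = 0 ∨ gen3 n = 6 ∨ gen3 n = 4 := by
      have := Nat.mod_lt n (show 0 < 3 by norm_num)
      unfold gen3
      interval_cases n % 3 <;> simp
    rcases h with e | e | e <;> rw [e]
    · rw [A.f1_zero]; exact one_mem _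
    · rw [← code]; exact A.glt_mem_K 0 (by norm_num)
    · rw [← code]; exact A.glt_mem_K 2 (by norm_num)
  have g2 : ∀ n, A.f2 (gen3 n) ∈ A.K := fun n => by
    have h : gen3 n = 0 ∨ gen3 n = 6 ∨ gen3 n = 4 := by
      have := Nat.mod_lt n (show 0 < 3 by norm_num)
      unfold gen3
      interval_cases n % 3 <;> simp
    rcases h with e | e | e <;> rw [e]
    · rw [A.f2_zero]; exact one_mem _
    · rw [← code2 6 (by norm_num)]; exact A.glt_mem_K 4 (by norm_num)
    · rw [← code2 4 (by norm_num)]; exact A.glt_mem_K 6 (by norm_num)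
  have gen : ∀ (f : ℕ → G), (∀ i j, i < 24 → j < 24 → f (m24 i j) = f i * f j) → (∀ n, f (gen3 n) ∈ A.K) →
      ∀ i, i < 24 → f i ∈ A.K := by
    intro f hm hg i hi
    obtain ⟨n, e⟩ := gen_words ⟨i, hi⟩
    simp only at e
    have l := fun m => gen3_lt m
    have l1 := m24_lt ⟨_, l n.1⟩ ⟨_, l (n.1 / 3)⟩
    have l2 := m24_lt ⟨_, l1⟩ ⟨_, l (n.1 / 9)⟩
    have l3 := m24_lt ⟨_, l2⟩ ⟨_, l (n.1 / 27)⟩
    rw [← e, hm _ _ l3 (l _), hm _ _ l2 (l _), hm _ _ l1 (l _), hm _ _ (l _) (l _)]
    exact mul_mem (mul_mem (mul_mem (mul_mem (hg _) (hg _)) (hg _)) (hg _)) (hg _)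
  have hp : cP x < 24 := by show x / 24 < 24; omega
  have hq : cQ x < 24 := (Nat.mod_lt _ (by norm_num : 0 < 12)).trans (by norm_num)
  refine mul_mem (mul_mem (gen A.f1 A.m1 g1 _ hp) (gen A.f2 A.m2 g2 _ hq)) ?_
  split_ifs
  · exact one_mem _
  · rw [← A.psi_one]; exact A.glt_mem_K 8 (by norm_num)

/-- the pair coding -/
noncomputable def ψP (x : ℕ) : G × Model.GH := (A.psi x, Model.ψH x)

/-- the pair element of order three -/
noncomputable def gP : G × Model.GH := (A.g, Model.gH)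

theorem relsP : Rels A.ψP A.gP where
  hom := ⟨Prod.ext A.psi_zero Model.rels.hom.one, fun _ _ hx hy => Prod.ext (A.psi_mul hx hy)
    (Model.rels.hom.mul _ _ hx hy)⟩
  g3 := Prod.ext A.g3 Model.rels.g3
  glue x hx := Prod.ext (A.glue x hx) (Model.rels.glue x hx)
  seven := Prod.ext A.seven Model.rels.seven
  three := Prod.ext A.three Model.rels.three

/-- the pair group -/
noncomputable def KK : Subgroup (G × Model.GH) := Subgroup.closure A.relsP.gens

theorem fst_glt (k : ℕ) : (glt A.ψP A.gP k).1 = glt A.psi A.g k := by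
  unfold glt
  split_ifs <;> rfl

theorem snd_glt (k : ℕ) : (glt A.ψP A.gP k).2 = glt Model.ψH Model.gH k := by
  unfold glt
  split_ifs <;> rfl

theorem map_fst : A.KK.map (MonoidHom.fst G Model.GH) = A.K := by
  rw [KK, MonoidHom.map_closure, K]
  congr 1
  ext v
  constructor
  · rintro ⟨_, ⟨k, hk, rfl⟩, rfl⟩; exact ⟨k, hk, (A.fst_glt k).symm⟩
  · rintro ⟨k, hk, rfl⟩; exact ⟨_, ⟨k, hk, rfl⟩, A.fst_glt k⟩

theorem map_snd : A.KK.map (MonoidHom.snd G Model.GH) = ⊤ := by
  rw [KK, MonoidHom.map_closure, ← Model.generated]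
  congr 1
  ext v
  constructor
  · rintro ⟨_, ⟨k, hk, rfl⟩, rfl⟩; exact ⟨k, hk, (A.snd_glt k).symm⟩
  · rintro ⟨k, hk, rfl⟩; exact ⟨_, ⟨k, hk, rfl⟩, A.snd_glt k⟩

theorem card_KK [Finite G] {y : G} (hn : New A y) : Nat.card A.KK ≤ 364 * 34992 := by
  have e := A.new_unique hn
  set yP : G × Model.GH := (y, Model.yH) with hyP
  obtain ⟨a1, a2⟩ := side_aux A.codeHom (y := y) hn.ca
  obtain ⟨b1, b2⟩ := side_aux Model.codeHom (y := Model.yH) (Model.y_comm (c := 144) (by decide))
  set Za := Subgroup.zpowers (A.psi 144) with hZa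
  set Zb := Subgroup.zpowers (Model.ψH 144) with hZb
  have h144 : A.psi 144 ^ 3 = 1 := by
    rw [← (A.pow_psi (by norm_num) 3).2, show powC 144 3 = 0 by decide +kernel, A.psi_zero]
  have h144' : Model.ψH 144 ^ 3 = 1 := by
    rw [← (Model.codeHom.pow (by norm_num) 3).2, show powC 144 3 = 0 by decide +kernel, Model.codeHom.one]
  have cardZ : Nat.card (Za.prod Zb) ≤ 9 := by
    rw [Nat.card_congr (Subgroup.prodEquiv Za Zb).toEquiv, Nat.card_prod]
    have l1 : Nat.card Za ≤ 3 := by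
      rw [hZa, Nat.card_zpowers]; exact Nat.le_of_dvd (by norm_num) (orderOf_dvd_of_pow_eq_one h144)
    have l2 : Nat.card Zb ≤ 3 := by
      rw [hZb, Nat.card_zpowers]; exact Nat.le_of_dvd (by norm_num) (orderOf_dvd_of_pow_eq_one h144')
    calc Nat.card Za * Nat.card Zb ≤ 3 * 3 := Nat.mul_le_mul l1 l2
      _ = 9 := rfl
  haveI : Finite (Za.prod Zb) := Finite.of_equiv _ (Subgroup.prodEquiv Za Zb).toEquiv.symm
  have hcomm := A.comm_side true (y := y) hn.ca hn.cube hn.zinv
  have hZb216 : ∀ c ∈ [0, 144, 216], Model.ψH c ∈ Zb := by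
    intro c hc
    simp only [List.mem_cons, List.not_mem_nil, or_false] at hc
    rcases hc with rfl | rfl | rfl
    · rw [Model.codeHom.one]; exact one_mem _
    · exact Subgroup.mem_zpowers _
    · rw [← pow_216, Model.codeHom.inv (by norm_num)]; exact inv_mem (Subgroup.mem_zpowers _)
  obtain ⟨P1, hf, hcard, hy1, hZ, hL, -⟩ := A.relsP.hom.side_bound true (Za.prod Zb) (y := yP)
    (Prod.ext hn.cube Model.y_cube)
    (Commute.prod (show Commute y (A.psi 12) from hn.cc) (Model.y_comm (c := 12) (by decide)))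
    (Commute.prod (A.comm_one hn) (Model.y_comm (c := 1) (by decide)))
    (Prod.ext hn.zinv Model.y_zinv)
    (by
      rintro z ⟨⟨m, hm⟩, ⟨m', hm'⟩⟩ w ⟨⟨n, hn1⟩, ⟨n', hn2⟩⟩
      refine Commute.prod ?_ ?_
      · rw [← hm, ← hn1]; exact (Commute.refl _).zpow_zpow m n
      · rw [← hm', ← hn2]; exact (Commute.refl _).zpow_zpow m' n')
    (by
      rintro z ⟨⟨m, hm⟩, ⟨m', hm'⟩⟩
      refine Prod.ext ?_ ?_
      · show z.1 ^ 3 = 1
        rw [← hm]
        show (A.psi 144 ^ m) ^ 3 = 1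
        rw [← zpow_natCast, ← zpow_mul, mul_comm, zpow_mul, zpow_natCast, h144, one_zpow]
      · show z.2 ^ 3 = 1
        rw [← hm']
        show (Model.ψH 144 ^ m') ^ 3 = 1
        rw [← zpow_natCast, ← zpow_mul, mul_comm, zpow_mul, zpow_natCast, h144', one_zpow])
    (fun h hh z hz => ⟨a1 h hh z.1 hz.1, b1 h hh z.2 hz.2⟩)
    (fun r hr z hz => Commute.prod (a2 r hr z.1 hz.1) (b2 r hr z.2 hz.2))
    (fun r hr r' hr' => ⟨hcomm r hr r' hr', by
      obtain ⟨c, hc, ec⟩ := Model.y_commutators r hr r' hr'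
      show Model.ψH r * Model.yH * (Model.ψH r)⁻¹ * (Model.ψH r' * Model.yH * (Model.ψH r')⁻¹) *
        (Model.ψH r * Model.yH * (Model.ψH r)⁻¹)⁻¹ * (Model.ψH r' * Model.yH * (Model.ψH r')⁻¹)⁻¹ ∈ Zb
      rw [ec]; exact hZb216 c hc⟩)
  haveI := hf
  have hwy : ∀ k ∈ [0], k < 9 := by decide
  have he : wev (glt A.ψP A.gP) (yW [0]) = yP := by
    rw [A.relsP.yW_eq [0] hwy, show wcC [0] = 144 by decide +kernel]
    refine Prod.ext ?_ ?_
    · show _ = y
      rw [e, W, ← A.psi_one]; rfl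
    · exact Model.yH_eq.symm
  have one : ∀ k, glt A.ψP A.gP k ∈ P1 → wev (glt A.ψP A.gP) [k] ∈ P1 := fun k h => by
    simp only [wev, List.map_cons, List.map_nil, List.prod_cons, List.prod_nil, mul_one]
    exact h
  obtain ⟨-, hK⟩ := A.relsP.cert_bound CertMain.checked (by decide +kernel) rfl rfl [0]
    [[0], [4], [6], [8], yW [0]] rfl (by rw [CertMain.words_ok]; rfl) CertMain.moves_ok hwy
    (he.symm ▸ Commute.prod (show Commute y (A.psi 144) from hn.ca) (Model.y_comm (c := 144) (by decide)))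
    (he.symm ▸ Commute.prod (show Commute y (A.psi 12) from hn.cc) (Model.y_comm (c := 12) (by decide))) P1
    (by
      intro l hl
      simp only [List.mem_cons, List.not_mem_nil, or_false] at hl
      rcases hl with rfl | rfl | rfl | rfl | rfl
      · exact one 0 (hZ ⟨Subgroup.mem_zpowers _, Subgroup.mem_zpowers _⟩)
      · exact one 4 (hL 12 (by decide))
      · exact one 6 (hL 8 (by decide))
      · exact one 8 (hL 1 (by decide))
      · rw [he]; exact hy1)
  refine hK.trans ?_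
  rw [show CertMain.dat.nn = 364 from rfl]
  refine Nat.mul_le_mul_left _ (hcard.trans ?_)
  calc Nat.card (Za.prod Zb) * 81 * 48 ≤ 9 * 81 * 48 := Nat.mul_le_mul_right _ (Nat.mul_le_mul_right _ cardZ)
    _ = 34992 := rfl

/-- the group generated by the amalgam is an image of the model -/
theorem exists_iso [Finite G] {y : G} (hn : New A y) :
    ∃ φ : Model.GH →* G, Function.Injective φ ∧ φ.range = A.K := by
  haveI := Model.simple_GH
  haveI : Finite Model.GH := Nat.finite_of_card_ne_zero (by rw [Model.card_GH]; norm_num)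
  set π1 : A.KK →* G := (MonoidHom.fst G Model.GH).comp A.KK.subtype with hπ1
  set π2 : A.KK →* Model.GH := (MonoidHom.snd G Model.GH).comp A.KK.subtype with hπ2
  have hs : Function.Surjective π2 := by
    intro h
    obtain ⟨v, hv, rfl⟩ : h ∈ A.KK.map (MonoidHom.snd G Model.GH) := A.map_snd.symm ▸ Subgroup.mem_top h
    exact ⟨⟨v, hv⟩, rfl⟩
  set N : Subgroup G := A.KK.comap (MonoidHom.inl G Model.GH) with hN
  have hNcard : Nat.card N ≤ 3 := by
    have h1 := π2.ker.card_eq_card_quotient_mul_card_subgroup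
    rw [Nat.card_congr (QuotientGroup.quotientKerEquivOfSurjective π2 hs).toEquiv, Model.card_GH] at h1
    have h2 : Nat.card N ≤ Nat.card π2.ker := by
      refine Nat.card_le_card_of_injective
        (fun x : N => (⟨⟨((x : G), 1), x.2⟩, rfl⟩ : π2.ker)) fun x x' h => ?_
      exact Subtype.ext (congrArg (fun w : π2.ker => ((w : A.KK) : G × Model.GH).1) h)
    have h3 := A.card_KK hn
    have h4 : 4245696 * Nat.card π2.ker ≤ 4245696 * 3 := by
      rw [← h1]; exact h3.trans (by norm_num)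
    exact h2.trans (Nat.le_of_mul_le_mul_left h4 (by norm_num))
  have hnorm : ∀ k ∈ A.K, ∀ x ∈ N, k * x * k⁻¹ ∈ N := by
    intro k hk x hx
    rw [← A.map_fst] at hk
    obtain ⟨v, hv, rfl⟩ := hk
    have := mul_mem (mul_mem hv hx) (inv_mem hv)
    show (v.1 * x * v.1⁻¹, (1 : Model.GH)) ∈ A.KK
    convert this using 1
    refine Prod.ext rfl ?_
    show (1 : Model.GH) = v.2 * 1 * v.2⁻¹
    group
  have hNK : N ≤ A.K := fun x hx => A.map_fst ▸ ⟨_, hx, rfl⟩
  have hN1 : N = ⊥ := by
    refine (Subgroup.eq_bot_iff_forall _).2 fun x hx => ?_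
    obtain ⟨f1, f2, f3, f4, f5, f6⟩ := fix_facts
    have cm : ∀ c ∈ [144, 96, 12, 8], Commute (A.psi c) x := fun c hc => by
      obtain ⟨hlt, e⟩ := f1 c hc
      exact commute_of_small N hNcard (by rw [← (A.pow_psi hlt 3).2, e, A.psi_zero])
        (fun v hv => hnorm _ (A.psi_mem_K hlt) v hv) hx
    have c288 : Commute (A.psi 288) x := by
      rw [← f2, (A.pow_psi f6 2).2, A.psi_mul (by norm_num) (by norm_num)]
      exact ((cm 144 (by decide)).mul_left (cm 96 (by decide))).pow_left 2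
    obtain ⟨c, hc, rfl⟩ := A.cent x (by
      have e12 : A.f1 12 = A.psi 288 := by
        rw [Base.psi, show cP 288 = 12 from rfl, show cQ 288 = 0 from rfl, show cS 288 = 0 from rfl, A.f2_zero,
          if_pos rfl, mul_one, mul_one]
      rw [e12]; exact c288.eq.symm)
    have hc' : c = 0 ∨ c = 288 := f3 ⟨c, hc⟩ fun e he => by
      have hcm : Commute (A.psi e) (A.psi c) ∧ e < 576 := by
        simp only [List.mem_cons, List.not_mem_nil, or_false] at he
        rcases he with rfl | rfl | rfl | rfl | rfl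
        · exact ⟨cm 144 (by decide), by norm_num⟩
        · exact ⟨cm 96 (by decide), by norm_num⟩
        · exact ⟨cm 12 (by decide), by norm_num⟩
        · exact ⟨cm 8 (by decide), by norm_num⟩
        · exact ⟨c288, by norm_num⟩
      refine A.inj _ _ (mulC_lt hc hcm.2) (mulC_lt hcm.2 hc) ?_
      rw [A.psi_mul hc hcm.2, A.psi_mul hcm.2 hc]
      exact hcm.1.eq.symm
    rcases hc' with rfl | rfl
    · exact A.psi_zero
    · exfalso
      have hg : A.g ∈ A.K := A.glt_mem_K 9 (by norm_num)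
      have := commute_of_small N hNcard A.g3 (fun v hv => hnorm _ hg v hv) hx
      have h2 := A.glue 288 f4
      rw [this.eq, mul_inv_cancel_right, f5] at h2
      exact absurd (A.inj _ _ (by norm_num) (by norm_num) h2) (by norm_num)
  have hinj2 : Function.Injective π2 := by
    refine (injective_iff_map_eq_one π2).2 fun v hv => ?_
    have hx : (v : G × Model.GH).1 ∈ N := by
      show ((v : G × Model.GH).1, (1 : Model.GH)) ∈ A.KK
      have e : ((v : G × Model.GH).1, (1 : Model.GH)) = (v : G × Model.GH) := Prod.ext rfl hv.symm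
      rw [e]; exact v.2
    rw [hN1, Subgroup.mem_bot] at hx
    exact Subtype.ext (Prod.ext hx hv)
  let e := MulEquiv.ofBijective π2 ⟨hinj2, hs⟩
  set φ : Model.GH →* G := π1.comp e.symm.toMonoidHom with hφ
  have hrange : φ.range = A.K := by
    rw [hφ, MonoidHom.range_comp, MonoidHom.range_eq_top.2 e.symm.surjective, ← MonoidHom.range_eq_map, hπ1,
      MonoidHom.range_comp, Subgroup.range_subtype, A.map_fst]
  refine ⟨φ, ?_, hrange⟩
  rcases IsSimpleGroup.eq_bot_or_eq_top_of_normal φ.ker (inferInstance : φ.ker.Normal) with h | h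
  · exact (MonoidHom.ker_eq_bot_iff φ).1 h
  · exfalso
    have h1 : A.psi 144 ∈ φ.range := hrange ▸ A.psi_mem_K (by norm_num)
    obtain ⟨w, hw⟩ := h1
    have h2 : φ w = 1 := (h.symm ▸ Subgroup.mem_top w : w ∈ φ.ker)
    rw [h2, ← A.psi_zero] at hw
    exact absurd (A.inj _ _ (by norm_num) (by norm_num) hw) (by norm_num)

end Amal

end Cfsg.Agent.GTwoTwoLocal
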