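import Cfsg.Agent.Lib.Small.PSLn.Simple
import Cfsg.Prelude.Def_Transfer

/-!
A normal elementary abelian subgroup of order eight with quotient SL₃(2): every change of basis is induced.
-/

set_option autoImplicit false
set_option maxRecDepth 100000
set_option linter.style.haveILetI false

namespace Cfsg.Agent.GTwoTwoLocal

theorem zmod2_one : ∀ c : ZMod 2, c ≠ 0 → c = 1 := by decide

theorem sl32_simple : IsSimpleGroup (Matrix.SpecialLinearGroup (Fin 3) (ZMod 2)) := by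
  haveI : Fact (Nat.Prime 2) := ⟨Nat.prime_two⟩
  haveI := Small.PSLn.psl_simple (F := ZMod 2) (n := 3) le_rfl
  let q : Matrix.SpecialLinearGroup (Fin 3) (ZMod 2) ≃* Matrix.ProjectiveSpecialLinearGroup (Fin 3) (ZMod 2) :=
    MulEquiv.ofBijective (QuotientGroup.mk' _) ⟨(injective_iff_map_eq_one _).2 fun A hA => by
      obtain ⟨r, hr, hA'⟩ := Matrix.SpecialLinearGroup.mem_center_iff.1 ((QuotientGroup.eq_one_iff A).1 hA)
      have hr1 : r = 1 := zmod2_one r fun e => by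
        rw [e, zero_pow Fintype.card_ne_zero] at hr
        exact zero_ne_one hr
      refine Subtype.ext ?_
      rw [← hA', hr1, map_one]
      rfl, QuotientGroup.mk'_surjective _⟩
  exact q.isSimpleGroup

theorem sl32_card : Nat.card (Matrix.SpecialLinearGroup (Fin 3) (ZMod 2)) = 168 := by
  rw [Nat.card_eq_fintype_card]
  decide +kernel

/-- the bits of an index below eight -/
def bit (k i : ℕ) : ℕ := i / 2 ^ k % 2

theorem bit_xor : ∀ i j : Fin 8, ∀ k : Fin 3, (bit k.1 i.1 + bit k.1 j.1) % 2 = bit k.1 (Nat.xor i.1 j.1) := by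
  decide +kernel

/-- is a triple of indices a basis -/
def isBasis (i j k : ℕ) : Bool :=
  i != 0 && j != 0 && j != i && k != 0 && k != i && k != j && k != Nat.xor i j

theorem xor_facts : ∀ i j : Fin 8, Nat.xor i.1 j.1 < 8 ∧ (Nat.xor i.1 j.1 = 0 → i = j) := by decide +kernel

theorem basis_count :
    (Finset.univ.filter fun t : Fin 8 × Fin 8 × Fin 8 => isBasis t.1.1 t.2.1.1 t.2.2.1 = true).card = 168 := by
  decide +kernel

variable {K : Type*} [Group K]

/-- the element with given coordinates -/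
def ev (a b c : K) (i : ℕ) : K := a ^ bit 0 i * (b ^ bit 1 i * c ^ bit 2 i)

theorem ev_spec (O : Subgroup K) (hel : Cfsg.IsElementaryAbelian 2 O) {a b c : K} (ha : a ∈ O) (hb : b ∈ O)
    (hc : c ∈ O) (h : a ≠ 1 ∧ b ≠ 1 ∧ b ≠ a ∧ c ≠ 1 ∧ c ≠ a ∧ c ≠ b ∧ c ≠ a * b) :
    (∀ i, ev a b c i ∈ O) ∧ (∀ i j : Fin 8, ev a b c i * ev a b c j = ev a b c (Nat.xor i.1 j.1)) ∧
      (∀ i : Fin 8, ev a b c i = 1 → i = 0) := by
  obtain ⟨hcomm, hexp⟩ := hel
  have hcm : ∀ x y : K, x ∈ O → y ∈ O → x * y = y * x := fun x y hx hy =>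
    congrArg Subtype.val (hcomm.is_comm.comm ⟨x, hx⟩ ⟨y, hy⟩)
  refine ⟨fun i => O.mul_mem (O.pow_mem ha _) (O.mul_mem (O.pow_mem hb _) (O.pow_mem hc _)), fun i j => ?_, ?_⟩
  · have e : ∀ x ∈ O, ∀ m n : ℕ, x ^ m * x ^ n = x ^ ((m + n) % 2) := fun x hx m n => by
      rw [← pow_add]
      conv_lhs => rw [← Nat.div_add_mod (m + n) 2, pow_add, pow_mul, hexp x hx, one_pow, one_mul]
    have b0 := bit_xor i j 0
    have b1 := bit_xor i j 1
    have b2 := bit_xor i j 2
    simp only [Fin.val_zero, Fin.val_one, Fin.val_two] at b0 b1 b2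
    simp only [ev, ← b0, ← b1, ← b2, ← e a ha, ← e b hb, ← e c hc]
    generalize bit 0 i.1 = i0; generalize bit 0 j.1 = j0; generalize bit 1 i.1 = i1
    generalize bit 1 j.1 = j1; generalize bit 2 i.1 = i2; generalize bit 2 j.1 = j2
    have h1 := hcm (b ^ i1 * c ^ i2) (a ^ j0) (O.mul_mem (O.pow_mem hb _) (O.pow_mem hc _)) (O.pow_mem ha _)
    have h2 := hcm (c ^ i2) (b ^ j1) (O.pow_mem hc _) (O.pow_mem hb _)
    calc a ^ i0 * (b ^ i1 * c ^ i2) * (a ^ j0 * (b ^ j1 * c ^ j2))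
        = a ^ i0 * ((b ^ i1 * c ^ i2) * a ^ j0) * (b ^ j1 * c ^ j2) := by group
      _ = a ^ i0 * a ^ j0 * (b ^ i1 * (c ^ i2 * b ^ j1) * c ^ j2) := by rw [h1]; group
      _ = _ := by rw [h2]; group
  · obtain ⟨h1, h2, h3, h4, h5, h6, h7⟩ := h
    have hi : ∀ x ∈ O, x⁻¹ = x := fun x hx => inv_eq_of_mul_eq_one_right (by rw [← pow_two]; exact hexp x hx)
    intro i e
    fin_cases i <;> simp [ev, bit] at e
    · rfl
    · exact absurd e h1
    · exact absurd e h2
    · exact absurd ((hi a ha).symm.trans (inv_eq_of_mul_eq_one_right e)).symm h3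
    · exact absurd e h4
    · exact absurd ((hi a ha).symm.trans (inv_eq_of_mul_eq_one_right e)).symm h5
    · exact absurd ((hi b hb).symm.trans (inv_eq_of_mul_eq_one_right e)).symm h6
    · refine absurd ?_ h7
      rw [← mul_assoc] at e
      rw [← hi (a * b) (O.mul_mem ha hb), inv_eq_of_mul_eq_one_right e]

/-- every change of basis is induced -/
theorem lift_basis [Finite K] (O : Subgroup K) [hn : O.Normal]
    (iso : K ⧸ O ≃* Matrix.SpecialLinearGroup (Fin 3) (ZMod 2)) (hel : Cfsg.IsElementaryAbelian 2 O)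
    (hcard : Nat.card O = 8) (hnc : ∃ m : K, ∃ x ∈ O, m * x ≠ x * m)
    {a b c a' b' c' : K} (ha : a ∈ O) (hb : b ∈ O) (hc : c ∈ O)
    (h : a ≠ 1 ∧ b ≠ 1 ∧ b ≠ a ∧ c ≠ 1 ∧ c ≠ a ∧ c ≠ b ∧ c ≠ a * b) (ha' : a' ∈ O) (hb' : b' ∈ O) (hc' : c' ∈ O)
    (h' : a' ≠ 1 ∧ b' ≠ 1 ∧ b' ≠ a' ∧ c' ≠ 1 ∧ c' ≠ a' ∧ c' ≠ b' ∧ c' ≠ a' * b') :
    ∃ m : K, m * a * m⁻¹ = a' ∧ m * b * m⁻¹ = b' ∧ m * c * m⁻¹ = c' := by
  classical
  obtain ⟨hevO, hevm, hev0⟩ := ev_spec O hel ha hb hc h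
  let evO : Fin 8 → O := fun i => ⟨ev a b c i, hevO i⟩
  have hinj : Function.Injective evO := by
    intro i j e
    have e' : ev a b c i = ev a b c j := congrArg Subtype.val e
    have h2 : ev a b c (Nat.xor i.1 j.1) = 1 := by
      rw [← hevm, e', ← pow_two]
      exact hel.2 _ (hevO _)
    have h3 := hev0 ⟨Nat.xor i.1 j.1, (xor_facts i j).1⟩ h2
    exact (xor_facts i j).2 (congrArg Fin.val h3)
  have hbij : Function.Bijective evO :=
    hinj.bijective_of_nat_card_le (by rw [hcard]; simp)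
  set C := Subgroup.centralizer (O : Set K) with hC
  have hOC : O ≤ C := fun x hx => Subgroup.mem_centralizer_iff.2 fun y hy =>
    congrArg Subtype.val (hel.1.is_comm.comm ⟨y, hy⟩ ⟨x, hx⟩)
  haveI : C.Normal := by rw [hC]; infer_instance
  haveI := sl32_simple
  haveI : IsSimpleGroup (K ⧸ O) := iso.isSimpleGroup
  have hCO : C ≤ O := by
    rcases Subgroup.Normal.eq_bot_or_eq_top (inferInstance : (C.map (QuotientGroup.mk' O)).Normal) with e | e
    · rwa [Subgroup.map_eq_bot_iff, QuotientGroup.ker_mk'] at e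
    · exfalso
      have h2 := congrArg (Subgroup.comap (QuotientGroup.mk' O)) e
      rw [Subgroup.comap_top, Subgroup.comap_map_eq, QuotientGroup.ker_mk', sup_eq_left.2 hOC] at h2
      obtain ⟨m, x, hx, hmx⟩ := hnc
      exact hmx ((Subgroup.mem_centralizer_iff.1 (h2 ▸ Subgroup.mem_top m : m ∈ C) x hx).symm)
  let T := {t : O × O × O // (t.1 : K) ≠ 1 ∧ (t.2.1 : K) ≠ 1 ∧ t.2.1 ≠ t.1 ∧ (t.2.2 : K) ≠ 1 ∧ t.2.2 ≠ t.1 ∧
    t.2.2 ≠ t.2.1 ∧ (t.2.2 : K) ≠ t.1 * t.2.1}
  have hT : Nat.card T ≤ 168 := by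
    let S := {t : Fin 8 × Fin 8 × Fin 8 // isBasis t.1.1 t.2.1.1 t.2.2.1 = true}
    have hS : Nat.card S = 168 := by
      rw [Nat.card_eq_fintype_card, Fintype.card_subtype]; exact basis_count
    rw [← hS]
    let e := Equiv.ofBijective evO hbij
    refine Nat.card_le_card_of_injective (fun t : T => (⟨(e.symm t.1.1, e.symm t.1.2.1, e.symm t.1.2.2), ?_⟩ : S))
      fun t s hts => ?_
    · obtain ⟨⟨x, y, w⟩, p1, p2, p3, p4, p5, p6, p7⟩ := t
      obtain ⟨i, rfl⟩ := e.surjective x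
      obtain ⟨j, rfl⟩ := e.surjective y
      obtain ⟨k, rfl⟩ := e.surjective w
      simp only [Equiv.symm_apply_apply]
      have hz : ev a b c 0 = 1 := by simp [ev, bit]
      simp only [isBasis, Bool.and_eq_true, bne_iff_ne]
      refine ⟨⟨⟨⟨⟨⟨?_, ?_⟩, ?_⟩, ?_⟩, ?_⟩, ?_⟩, ?_⟩
      · exact fun q => p1 (by show ev a b c i = 1; rw [q, hz])
      · exact fun q => p2 (by show ev a b c j = 1; rw [q, hz])
      · exact fun q => p3 (congrArg e (Fin.ext q))
      · exact fun q => p4 (by show ev a b c k = 1; rw [q, hz])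
      · exact fun q => p5 (congrArg e (Fin.ext q))
      · exact fun q => p6 (congrArg e (Fin.ext q))
      · exact fun q => p7 (by show ev a b c k = ev a b c i * ev a b c j; rw [hevm, q])
    · have q := congrArg (fun t : S => t.1) hts
      simp only [Prod.mk.injEq, EmbeddingLike.apply_eq_iff_eq] at q
      exact Subtype.ext (Prod.ext q.1 (Prod.ext q.2.1 q.2.2))
  have hcv : ∀ m : K, ∀ x y : K, m * x * m⁻¹ = m * y * m⁻¹ → x = y := fun m x y e => by simpa using e
  let img : K → T := fun m => ⟨(⟨m * a * m⁻¹, hn.conj_mem a ha m⟩, ⟨m * b * m⁻¹, hn.conj_mem b hb m⟩,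
      ⟨m * c * m⁻¹, hn.conj_mem c hc m⟩), by
    obtain ⟨h1, h2, h3, h4, h5, h6, h7⟩ := h
    refine ⟨?_, ?_, ?_, ?_, ?_, ?_, ?_⟩
    · exact fun e => h1 (hcv m a 1 (by simpa using e))
    · exact fun e => h2 (hcv m b 1 (by simpa using e))
    · exact fun e => h3 (hcv m b a (congrArg Subtype.val e))
    · exact fun e => h4 (hcv m c 1 (by simpa using e))
    · exact fun e => h5 (hcv m c a (congrArg Subtype.val e))
    · exact fun e => h6 (hcv m c b (congrArg Subtype.val e))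
    · exact fun e => h7 (hcv m c (a * b) (by simp only at e; rw [e]; group))⟩
  let Ψ : K ⧸ O → T := fun q => img q.out
  have hΨ : Function.Injective Ψ := by
    intro p q e
    have e1 := congrArg (fun t : T => t.1) e
    simp only [Ψ, img, Prod.mk.injEq, Subtype.mk.injEq] at e1
    obtain ⟨ea, eb, ec⟩ := e1
    set m := p.out with hm
    set n := q.out with hn'
    have fx : ∀ x, m * x * m⁻¹ = n * x * n⁻¹ → Commute (n⁻¹ * m) x := fun x ex => by
      show n⁻¹ * m * x = x * (n⁻¹ * m)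
      calc n⁻¹ * m * x = n⁻¹ * (m * x * m⁻¹) * m := by group
        _ = n⁻¹ * (n * x * n⁻¹) * m := by rw [ex]
        _ = x * (n⁻¹ * m) := by group
    have hmem : n⁻¹ * m ∈ O := hCO (Subgroup.mem_centralizer_iff.2 fun y hy => by
      obtain ⟨i, hi⟩ := hbij.2 ⟨y, hy⟩
      have hi' : ev a b c i = y := congrArg Subtype.val hi
      rw [← hi']
      exact (((fx a ea).pow_right _).mul_right (((fx b eb).pow_right _).mul_right ((fx c ec).pow_right _))).symm)
    rw [← p.out_eq, ← q.out_eq]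
    exact (QuotientGroup.eq.2 hmem).symm
  have hQ : Nat.card (K ⧸ O) = 168 := by rw [Nat.card_congr iso.toEquiv, sl32_card]
  haveI : Finite T := Subtype.finite
  have hb2 := hΨ.bijective_of_nat_card_le (by rw [hQ]; exact hT)
  obtain ⟨q, hq⟩ := hb2.2 ⟨(⟨a', ha'⟩, ⟨b', hb'⟩, ⟨c', hc'⟩), by
    obtain ⟨h1, h2, h3, h4, h5, h6, h7⟩ := h'
    exact ⟨h1, h2, fun e => h3 (congrArg Subtype.val e), h4, fun e => h5 (congrArg Subtype.val e),
      fun e => h6 (congrArg Subtype.val e), h7⟩⟩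
  have e1 := congrArg (fun t : T => t.1) hq
  simp only [Ψ, img, Prod.mk.injEq, Subtype.mk.injEq] at e1
  exact ⟨q.out, e1⟩

end Cfsg.Agent.GTwoTwoLocal
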