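import Cfsg.Agent.Lib.Spor.GTwoTwoLocal.CertUse
import Cfsg.Agent.Lib.Lie.G2Orders.Rep
import Cfsg.Agent.Lib.Lie.G2ThreeGraph

/-!
The amalgam inside the group of type G2 over three elements, through its seven-dimensional representation.
-/

set_option autoImplicit false
set_option maxRecDepth 100000
set_option maxHeartbeats 400000
set_option linter.style.haveILetI false

namespace Cfsg.Agent.GTwoTwoLocal.Model

open Cfsg.Lie Cfsg.Agent.Spor.PC Cfsg.Agent.Lie.G2Orders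

/-- the group of type G2 over three elements -/
abbrev GH : Type := GG (ZMod 3)

/-- pack a list of small entries -/
def packL : List ℕ → ℕ
  | [] => 0
  | x :: l => Nat.add x (Nat.mul 4 (packL l))

/-- entry of a packed matrix -/
def entN (a i j : ℕ) : ℕ := fld a 2 (Nat.add (Nat.mul 7 i) j)

/-- entry of a product -/
def dotN (a b i j : ℕ) : ℕ :=
  Nat.mod (entN a i 0 * entN b 0 j + entN a i 1 * entN b 1 j + entN a i 2 * entN b 2 j + entN a i 3 * entN b 3 j +
    entN a i 4 * entN b 4 j + entN a i 5 * entN b 5 j + entN a i 6 * entN b 6 j) 3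

/-- product of packed matrices -/
def mulN (a b : ℕ) : ℕ := packL ((List.range 49).map fun k => dotN a b (k / 7) (k % 7))

/-- the identity matrix -/
def oneN : ℕ := 0x1000100010001000100010001

/-- root matrices -/
def rootN : List ℕ := [0x1008100810001000100010001, 0x1020100010101000100010001, 0x1041104010401080100010001, 0x1100112010001100120010001, 0x1400100019001400100014001, 0x1000140010001000140010001, 0x1000100050001000100050001, 0x1000500010005001900010005, 0x1000100110021000102210021, 0x1000100010081004100411041, 0x1000100010001020100010101, 0x1000100010001000108010801]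

/-- the six generators -/
def genN : List ℕ := [0x810100284251828200998192, 0x984518544825960a28258926, 0x50014a251482a256aa1a560a, 0x151909a62510a0551404251aa, 0x28a941169421a6a5908a4662a, 0x122aa16601422044219451496]

/-- the generators as words in root elements -/
def genW : List (List ℕ) := [
    [1, 1, 4, 4, 10, 4, 1],
    [1, 1, 2, 2, 11, 10, 2, 1],
    [3, 11, 5, 8, 8, 0, 6],
    [1, 1, 2, 2, 9, 7, 2, 1],
    [6, 5, 9, 1, 3, 11, 7, 7],
    [2, 11, 1, 3, 11, 10, 1, 10]]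

/-- the root elements as words in the letters -/
def rootW : List (List ℕ) := [
    [2, 10, 8, 9, 2, 10, 8, 9, 3],
    [2, 5, 10, 6, 10, 2, 10, 6, 9, 8],
    [1, 9, 6, 9, 8, 10, 7, 9, 8, 9, 0],
    [1, 10, 8, 10, 7, 9, 8, 9, 0],
    [0, 10, 6, 9, 1],
    [2, 10, 8, 9, 0, 9, 8, 10, 2, 10, 0],
    [0, 9, 8, 10, 2, 9, 8, 10, 1],
    [3, 1, 10, 2, 10, 6, 9, 2, 9],
    [0, 10, 1, 9, 8, 10, 5, 9, 2, 10, 8],
    [2, 9, 8, 9, 5, 10, 8, 10, 3],
    [0, 10, 0, 7, 10, 8, 9, 4, 0, 9, 4],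
    [1, 9, 8, 10, 3, 9, 8, 10, 0]]

/-- the matrix of a packed number -/
def toM (a : ℕ) : Matrix (Fin 7) (Fin 7) (ZMod 3) := fun i j => ((entN a i.1 j.1 : ℕ) : ZMod 3)

theorem fld_packL : ∀ (l : List ℕ), (∀ x ∈ l, x < 4) → ∀ k, fld (packL l) 2 k = l.getD k 0
  | [], _, k => by simp [packL, fld]
  | x :: l, h, 0 => by
    have hx := h x (List.mem_cons_self ..)
    show Nat.land (Nat.shiftRight (x + 4 * packL l) (2 * 0)) (2 ^ 2 - 1) = x
    show ((x + 4 * packL l) >>> 0) &&& (2 ^ 2 - 1) = x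
    rw [Nat.shiftRight_zero, Nat.and_two_pow_sub_one_eq_mod]
    omega
  | x :: l, h, k + 1 => by
    have hx := h x (List.mem_cons_self ..)
    have ih := fld_packL l (fun y hy => h y (List.mem_cons_of_mem _ hy)) k
    show ((x + 4 * packL l) >>> (2 * (k + 1))) &&& (2 ^ 2 - 1) = l.getD k 0
    rw [← ih, show 2 * (k + 1) = 2 + 2 * k by ring, Nat.shiftRight_add, Nat.shiftRight_eq_div_pow _ 2,
      show (x + 4 * packL l) / 2 ^ 2 = packL l by norm_num; omega]
    rfl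

theorem toM_mul (a b : ℕ) : toM (mulN a b) = toM a * toM b := by
  refine Matrix.ext fun i j => ?_
  have hlt : ∀ x ∈ (List.range 49).map (fun k => dotN a b (k / 7) (k % 7)), x < 4 := by
    intro x hx
    obtain ⟨k, -, rfl⟩ := List.mem_map.1 hx
    exact lt_trans (Nat.mod_lt _ (by norm_num)) (by norm_num)
  have hk : 7 * i.1 + j.1 < 49 := by omega
  show ((entN (mulN a b) i.1 j.1 : ℕ) : ZMod 3) = _
  rw [entN, mulN, fld_packL _ hlt, List.getD_eq_getElem?_getD, List.getElem?_map,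
    show Nat.add (Nat.mul 7 i.1) j.1 = 7 * i.1 + j.1 from rfl, List.getElem?_range hk, Option.map_some, Option.getD_some,
    show (7 * i.1 + j.1) / 7 = i.1 by omega, show (7 * i.1 + j.1) % 7 = j.1 by omega, Matrix.mul_apply, Fin.sum_univ_seven]
  simp only [dotN, Nat.mod, toM]
  show ((_ % 3 : ℕ) : ZMod 3) = _
  rw [ZMod.natCast_mod]
  push_cast
  rfl

attribute [local irreducible] mulN

theorem toM_one : toM oneN = 1 := by decide +kernel

theorem roots_eq : ∀ r : Fin 12, m7 r.1 (1 : ZMod 3) = toM (rootN.getD r.1 0) := by decide +kernel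

/-- numeric form of an element -/
def Mt (x : GH) (a : ℕ) : Prop := ((psi x : GL (Fin 7) (ZMod 3)) : Matrix (Fin 7) (Fin 7) (ZMod 3)) = toM a

theorem psi_inj : Function.Injective (psi (K := ZMod 3)) := psi_injective ⟨2, by decide, by decide⟩

theorem Mt.mul {x y : GH} {a b : ℕ} (hx : Mt x a) (hy : Mt y b) : Mt (x * y) (mulN a b) := by
  rw [Mt, map_mul, Units.val_mul, hx, hy, toM_mul]

theorem Mt.one : Mt 1 oneN := by rw [Mt, map_one, Units.val_one, toM_one]

theorem Mt.eq {x y : GH} {a b : ℕ} (hx : Mt x a) (hy : Mt y b) (h : a = b) : x = y :=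
  psi_inj (Units.ext (by rw [hx, hy, h]))

/-- value of a word of matrices -/
def prodN : List ℕ → ℕ
  | [] => oneN
  | a :: l => mulN a (prodN l)

theorem Mt.list {α : Type*} (f : α → GH) (n : α → ℕ) : ∀ l : List α, (∀ x ∈ l, Mt (f x) (n x)) →
    Mt (l.map f).prod (prodN (l.map n))
  | [], _ => Mt.one
  | a :: l, h => (h a (List.mem_cons_self ..)).mul (Mt.list f n l fun x hx => h x (List.mem_cons_of_mem _ hx))

theorem Mt.pow {x : GH} {a : ℕ} (hx : Mt x a) : ∀ n, Mt (x ^ n) (prodN (List.replicate n a))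
  | 0 => by rw [pow_zero]; exact Mt.one
  | n + 1 => by rw [pow_succ']; exact hx.mul (Mt.pow hx n)

/-- product of root elements -/
noncomputable def xW (w : List ℕ) : GH := (w.map fun r => xx r (1 : ZMod 3)).prod

/-- the generators -/
noncomputable def gen (k : ℕ) : GH := xW (genW.getD k [])

theorem gen_num : ∀ k : Fin 6, (∀ r ∈ genW.getD k.1 [], r < 12) ∧
    prodN ((genW.getD k.1 []).map fun r => rootN.getD r 0) = genN.getD k.1 0 := by decide +kernel

theorem Mt_gen (k : Fin 6) : Mt (gen k.1) (genN.getD k.1 0) := by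
  obtain ⟨h1, h2⟩ := gen_num k
  rw [← h2]
  refine Mt.list _ _ _ fun r hr => ?_
  rw [Mt, psi_xx]
  exact roots_eq ⟨r, h1 r hr⟩

attribute [local irreducible] gen

/-- witnesses for words in the two generators of a factor -/
def wit : List ℕ := [0, 52, 25, 77, 2, 8, 1, 5, 17, 4, 14, 44, 50, 68, 49, 22, 152, 16, 131, 76, 43, 23, 71, 7]

theorem wit_ok : ∀ x : Fin 24, m24 (m24 (m24 (m24 (gen3 (wit.getD x.1 0)) (gen3 (wit.getD x.1 0 / 3)))
      (gen3 (wit.getD x.1 0 / 9))) (gen3 (wit.getD x.1 0 / 27))) (gen3 (wit.getD x.1 0 / 81)) = x.1 := by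
  decide +kernel

/-- image of a generator letter -/
noncomputable def g3H (k : ℕ) (n : ℕ) : GH := if n % 3 = 0 then 1 else if n % 3 = 1 then gen k else gen (k + 1)

/-- numeric image of a generator letter -/
def g3N (k : ℕ) (n : ℕ) : ℕ := if n % 3 = 0 then oneN else if n % 3 = 1 then genN.getD k 0 else genN.getD (k + 1) 0

/-- a factor -/
noncomputable def fH (k i : ℕ) : GH :=
  g3H k (wit.getD i 0) * g3H k (wit.getD i 0 / 3) * g3H k (wit.getD i 0 / 9) * g3H k (wit.getD i 0 / 27) *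
    g3H k (wit.getD i 0 / 81)

/-- numeric factor -/
def fN (k i : ℕ) : ℕ :=
  mulN (mulN (mulN (mulN (g3N k (wit.getD i 0)) (g3N k (wit.getD i 0 / 3))) (g3N k (wit.getD i 0 / 9)))
    (g3N k (wit.getD i 0 / 27))) (g3N k (wit.getD i 0 / 81))

theorem Mt_f {k : ℕ} (hk : k + 1 < 6) (i : ℕ) : Mt (fH k i) (fN k i) := by
  have h : ∀ n, Mt (g3H k n) (g3N k n) := fun n => by
    unfold g3H g3N
    split_ifs
    · exact Mt.one
    · exact Mt_gen ⟨k, by omega⟩
    · exact Mt_gen ⟨k + 1, hk⟩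
  exact ((((h _).mul (h _)).mul (h _)).mul (h _)).mul (h _)

theorem f_checks : ∀ s : Fin 2, fN (2 * s.1) 0 = oneN ∧ ∀ x : Fin 24, ∀ n : Fin 3,
    mulN (fN (2 * s.1) x.1) (g3N (2 * s.1) n.1) = fN (2 * s.1) (m24 x.1 (gen3 n.1)) := by decide +kernel

theorem m24_assoc : ∀ a b c : Fin 24, m24 (m24 a.1 b.1) c.1 = m24 a.1 (m24 b.1 c.1) := by decide +kernel

theorem f_hom {k : ℕ} (hk : k = 0 ∨ k = 2) : ∀ i j, i < 24 → j < 24 → fH k (m24 i j) = fH k i * fH k j := by
  obtain ⟨s, rfl⟩ : ∃ s : Fin 2, k = 2 * s.1 := by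
    rcases hk with rfl | rfl
    · exact ⟨0, rfl⟩
    · exact ⟨1, rfl⟩
  obtain ⟨h0, hstep⟩ := f_checks s
  have hk' : 2 * s.1 + 1 < 6 := by omega
  have hg : ∀ n, Mt (g3H (2 * s.1) n) (g3N (2 * s.1) n) := fun n => by
    unfold g3H g3N
    split_ifs
    · exact Mt.one
    · exact Mt_gen ⟨_, by omega⟩
    · exact Mt_gen ⟨_, hk'⟩
  have step : ∀ x, x < 24 → ∀ n, fH (2 * s.1) (m24 x (gen3 n)) = fH (2 * s.1) x * g3H (2 * s.1) n := fun x hx n => by
    refine (Mt_f hk' _).eq ((Mt_f hk' _).mul (hg _)) ?_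
    have := hstep ⟨x, hx⟩ ⟨n % 3, Nat.mod_lt _ (by norm_num)⟩
    have e1 : gen3 (n % 3) = gen3 n := by simp [gen3]
    have e2 : g3N (2 * s.1) (n % 3) = g3N (2 * s.1) n := by simp [g3N]
    simp only [e1, e2] at this
    exact this.symm
  intro i j hi hj
  have e := wit_ok ⟨j, hj⟩
  simp only at e
  set n := wit.getD j 0 with hn
  have l := fun m => gen3_lt m
  have l1 := m24_lt ⟨i, hi⟩ ⟨_, l n⟩
  have l2 := m24_lt ⟨_, l1⟩ ⟨_, l (n / 3)⟩
  have l3 := m24_lt ⟨_, l2⟩ ⟨_, l (n / 9)⟩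
  have l4 := m24_lt ⟨_, l3⟩ ⟨_, l (n / 27)⟩
  have e' : m24 i j = m24 (m24 (m24 (m24 (m24 i (gen3 n)) (gen3 (n / 3))) (gen3 (n / 9))) (gen3 (n / 27))) (gen3 (n / 81)) := by
    conv_lhs => rw [← e]
    have a1 := m24_lt ⟨_, l n⟩ ⟨_, l (n / 3)⟩
    have a2 := m24_lt ⟨_, a1⟩ ⟨_, l (n / 9)⟩
    have a3 := m24_lt ⟨_, a2⟩ ⟨_, l (n / 27)⟩
    rw [← m24_assoc ⟨i, hi⟩ ⟨_, a3⟩ ⟨_, l (n / 81)⟩]
    simp only
    rw [← m24_assoc ⟨i, hi⟩ ⟨_, a2⟩ ⟨_, l (n / 27)⟩]
    simp only
    rw [← m24_assoc ⟨i, hi⟩ ⟨_, a1⟩ ⟨_, l (n / 9)⟩]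
    simp only
    rw [← m24_assoc ⟨i, hi⟩ ⟨_, l n⟩ ⟨_, l (n / 3)⟩]
  rw [e', step _ l4, step _ l3, step _ l2, step _ l1, step _ hi]
  show _ = fH (2 * s.1) i * (g3H _ n * g3H _ (n / 3) * g3H _ (n / 9) * g3H _ (n / 27) * g3H _ (n / 81))
  simp only [mul_assoc]

theorem pair_checks : (∀ a ∈ [0, 1], ∀ b ∈ [2, 3],
      mulN (genN.getD a 0) (genN.getD b 0) = mulN (genN.getD b 0) (genN.getD a 0)) ∧
    fN 0 12 = fN 2 12 ∧
    (∀ s : Fin 2, ∀ x : Fin 24, mulN (genN.getD 4 0) (fN (2 * s.1) x.1) = mulN (fN (2 * s.1) (d24 x.1)) (genN.getD 4 0)) ∧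
    mulN (genN.getD 4 0) (genN.getD 4 0) = oneN := by decide +kernel

theorem g3H_cases (k n : ℕ) : g3H k n = 1 ∨ g3H k n = gen k ∨ g3H k n = gen (k + 1) := by
  unfold g3H
  split_ifs
  · exact Or.inl rfl
  · exact Or.inr (Or.inl rfl)
  · exact Or.inr (Or.inr rfl)

theorem gen_comm {a b : ℕ} (ha : a ∈ [0, 1]) (hb : b ∈ [2, 3]) : Commute (gen a) (gen b) := by
  have e := pair_checks.1 a ha b hb
  simp only [List.mem_cons, List.not_mem_nil, or_false] at ha hb
  have A : Mt (gen a) (genN.getD a 0) := Mt_gen ⟨a, by omega⟩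
  have B : Mt (gen b) (genN.getD b 0) := Mt_gen ⟨b, by omega⟩
  exact (A.mul B).eq (B.mul A) e

attribute [local irreducible] g3H

theorem g3H_comm (m n : ℕ) : Commute (g3H 0 m) (g3H 2 n) := by
  have h : ∀ a ∈ [0, 1], Commute (gen a) (g3H 2 n) := by
    intro a ha
    rcases g3H_cases 2 n with e | e | e <;> rw [e]
    · exact Commute.one_right _
    · exact gen_comm ha (by decide)
    · exact gen_comm ha (by decide)
  rcases g3H_cases 0 m with e | e | e <;> rw [e]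
  · exact Commute.one_left _
  · exact h 0 (by decide)
  · exact h 1 (by decide)

theorem f_comm (i j : ℕ) : fH 0 i * fH 2 j = fH 2 j * fH 0 i := by
  have c : ∀ m, Commute (g3H 0 m) (fH 2 j) := fun m => by
    unfold fH
    exact ((((g3H_comm m _).mul_right (g3H_comm m _)).mul_right (g3H_comm m _)).mul_right (g3H_comm m _)).mul_right
      (g3H_comm m _)
  show Commute (fH 0 i) (fH 2 j)
  generalize fH 2 j = F at c ⊢
  unfold fH
  exact ((((c _).mul_left (c _)).mul_left (c _)).mul_left (c _)).mul_left (c _)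

attribute [local irreducible] fH

/-- the coding in the model -/
noncomputable def base : Base GH where
  f1 := fH 0
  f2 := fH 2
  t := gen 4
  m1 := f_hom (Or.inl rfl)
  m2 := f_hom (Or.inr rfl)
  comm i j _ _ := f_comm i j
  zz := (Mt_f (by norm_num) 12).eq (Mt_f (by norm_num) 12) pair_checks.2.1
  t1 a ha := by
    refine mul_inv_eq_iff_eq_mul.2 ?_
    exact ((Mt_gen ⟨4, by norm_num⟩).mul (Mt_f (by norm_num) a)).eq ((Mt_f (by norm_num) _).mul (Mt_gen ⟨4, by norm_num⟩))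
      (pair_checks.2.2.1 0 ⟨a, ha⟩)
  t2 a ha := by
    refine mul_inv_eq_iff_eq_mul.2 ?_
    exact ((Mt_gen ⟨4, by norm_num⟩).mul (Mt_f (by norm_num) a)).eq ((Mt_f (by norm_num) _).mul (Mt_gen ⟨4, by norm_num⟩))
      (pair_checks.2.2.1 1 ⟨a, ha⟩)

theorem tt : base.t * base.t = 1 :=
  ((Mt_gen ⟨4, by norm_num⟩).mul (Mt_gen ⟨4, by norm_num⟩)).eq Mt.one pair_checks.2.2.2

/-- the coding -/
noncomputable def ψH (x : ℕ) : GH := base.psi x

/-- the element of order three -/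
noncomputable def gH : GH := gen 5

/-- numeric coding -/
def psN (x : ℕ) : ℕ := mulN (mulN (fN 0 (cP x)) (fN 2 (cQ x))) (if cS x = 0 then oneN else genN.getD 4 0)

theorem ψH_def (x : ℕ) : ψH x = fH 0 (cP x) * fH 2 (cQ x) * (if cS x = 0 then 1 else gen 4) := by
  rw [ψH, Base.psi]
  rfl

theorem Mt_psi (x : ℕ) : Mt (ψH x) (psN x) := by
  rw [ψH_def]
  unfold psN
  refine ((Mt_f (by norm_num) _).mul (Mt_f (by norm_num) _)).mul ?_
  split_ifs
  · exact Mt.one
  · exact Mt_gen ⟨4, by norm_num⟩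

theorem codeHom : CodeHom ψH :=
  ⟨base.psi_zero, fun x y hx hy => by
    by_cases h : cS x = 0
    · exact base.psi_mul_even hx hy h
    · show base.psi (mulC x y) = base.psi x * base.psi y
      rw [base.psi_mul_gen hx hy h, tt, ite_self, mul_one]⟩

theorem rel_checks : (tTab.all fun p => Nat.beq (mulN (genN.getD 5 0) (psN p.1))
      (mulN (psN (rOf img0 p.1)) (genN.getD 5 0))) = true ∧
    prodN (List.replicate 3 (genN.getD 5 0)) = oneN ∧
    prodN (List.replicate 7 (mulN (psN 9) (genN.getD 5 0))) = oneN ∧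
    prodN (List.replicate 3 (mulN (psN 226) (genN.getD 5 0))) = oneN := by decide +kernel

theorem rels : Rels ψH gH where
  hom := codeHom
  g3 := ((Mt_gen ⟨5, by norm_num⟩).pow 3).eq Mt.one rel_checks.2.1
  glue x hx := by
    obtain ⟨p, hp, e⟩ := List.any_eq_true.1 hx
    have := Nat.eq_of_beq_eq_true (List.all_eq_true.1 rel_checks.1 p hp)
    rw [Nat.eq_of_beq_eq_true e] at this
    exact mul_inv_eq_iff_eq_mul.2
      (((Mt_gen ⟨5, by norm_num⟩).mul (Mt_psi x)).eq ((Mt_psi _).mul (Mt_gen ⟨5, by norm_num⟩)) this)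
  seven := (((Mt_psi 9).mul (Mt_gen ⟨5, by norm_num⟩)).pow 7).eq Mt.one rel_checks.2.2.1
  three := (((Mt_psi 226).mul (Mt_gen ⟨5, by norm_num⟩)).pow 3).eq Mt.one rel_checks.2.2.2

/-- the new element -/
noncomputable def yH : GH :=
  gH * gH * ψH 1 * gH * ψH 144 * (gH * gH * (ψH 1 * (gH * gH * (gH * gH))))

/-- its numeric form -/
def yN : ℕ :=
  let g := genN.getD 5 0
  mulN (mulN (mulN (mulN (mulN g g) (psN 1)) g) (psN 144))
    (mulN (mulN g g) (mulN (psN 1) (mulN (mulN g g) (mulN g g))))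

theorem Mt_y : Mt yH yN :=
  (((((Mt_gen ⟨5, by norm_num⟩).mul (Mt_gen ⟨5, by norm_num⟩)).mul (Mt_psi 1)).mul (Mt_gen ⟨5, by norm_num⟩)).mul
    (Mt_psi 144)).mul (((Mt_gen ⟨5, by norm_num⟩).mul (Mt_gen ⟨5, by norm_num⟩)).mul ((Mt_psi 1).mul
    (((Mt_gen ⟨5, by norm_num⟩).mul (Mt_gen ⟨5, by norm_num⟩)).mul ((Mt_gen ⟨5, by norm_num⟩).mul (Mt_gen ⟨5, by norm_num⟩)))))

theorem yH_eq : yH = gH * gH * ψH 1 * gH * ψH 144 * (gH * gH * ψH 1 * gH)⁻¹ := by
  have e1 : gH⁻¹ = gH * gH := inv_eq_of_mul_eq_one_right (by rw [← rels.g3]; simp [pow_succ, mul_assoc])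
  have e2 : (ψH 1)⁻¹ = ψH 1 := by rw [← codeHom.inv (by norm_num), show invC 1 = 1 by decide +kernel]
  rw [yH, mul_inv_rev, mul_inv_rev, mul_inv_rev, e1, e2]

/-- conjugate of the new element by a representative -/
def vN (r : ℕ) : ℕ := mulN (mulN (psN r) yN) (psN (invC r))

theorem y_checks : prodN (List.replicate 3 yN) = oneN ∧
    (∀ c ∈ [144, 12, 1], mulN yN (psN c) = mulN (psN c) yN) ∧
    mulN (mulN (mulN (psN 288) yN) (psN 288)) yN = oneN ∧
    (∀ r ∈ sideP.reps, ∀ r' ∈ sideP.reps, ∃ c ∈ [0, 144, 216],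
      mulN (vN r) (vN r') = mulN (psN c) (mulN (vN r') (vN r))) := by decide +kernel

theorem y_cube : yH ^ 3 = 1 := (Mt_y.pow 3).eq Mt.one y_checks.1

theorem y_comm {c : ℕ} (hc : c ∈ [144, 12, 1]) : Commute yH (ψH c) :=
  (Mt_y.mul (Mt_psi c)).eq ((Mt_psi c).mul Mt_y) (y_checks.2.1 c hc)

theorem y_zinv : ψH 288 * yH * (ψH 288)⁻¹ = yH⁻¹ := by
  refine eq_inv_of_mul_eq_one_left ?_
  rw [← codeHom.inv (by norm_num), show invC 288 = 288 by decide +kernel]
  exact ((((Mt_psi 288).mul Mt_y).mul (Mt_psi 288)).mul Mt_y).eq Mt.one y_checks.2.2.1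

theorem y_commutators : ∀ r ∈ sideP.reps, ∀ r' ∈ sideP.reps, ∃ c ∈ [0, 144, 216],
    ψH r * yH * (ψH r)⁻¹ * (ψH r' * yH * (ψH r')⁻¹) * (ψH r * yH * (ψH r)⁻¹)⁻¹ * (ψH r' * yH * (ψH r')⁻¹)⁻¹ = ψH c := by
  intro r hr r' hr'
  obtain ⟨c, hc, e⟩ := y_checks.2.2.2 r hr r' hr'
  refine ⟨c, hc, ?_⟩
  have lt : ∀ r ∈ sideP.reps, r < 576 := by decide
  have hv : ∀ r ∈ sideP.reps, Mt (ψH r * yH * (ψH r)⁻¹) (vN r) := fun r hr => by
    rw [← codeHom.inv (lt r hr)]
    exact ((Mt_psi r).mul Mt_y).mul (Mt_psi _)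
  have := ((hv r hr).mul (hv r' hr')).eq ((Mt_psi c).mul ((hv r' hr').mul (hv r hr))) e
  rw [this]; group

theorem root_checks : ∀ r : Fin 12, (∀ k ∈ rootW.getD r.1 [], k < 11) ∧
    prodN ((rootW.getD r.1 []).map fun k => if k < 9 then psN (lgC.getD k 0) else if k = 9 then genN.getD 5 0
      else mulN (genN.getD 5 0) (genN.getD 5 0)) = rootN.getD r.1 0 := by decide +kernel

theorem generated : Subgroup.closure {x : GH | ∃ k < 11, glt ψH gH k = x} = ⊤ := by
  set S := Subgroup.closure {x : GH | ∃ k < 11, glt ψH gH k = x}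
  have hroot : ∀ r, xx r (1 : ZMod 3) ∈ S := by
    intro r
    by_cases hr : r < 12
    · obtain ⟨h1, h2⟩ := root_checks ⟨r, hr⟩
      have hM : Mt ((rootW.getD r []).map (glt ψH gH)).prod (rootN.getD r 0) := by
        rw [← h2]
        refine Mt.list _ _ _ fun k hk => ?_
        have hk' := h1 k hk
        unfold glt
        split_ifs with a b c
        · exact Mt_psi _
        · exact Mt_gen ⟨5, by norm_num⟩
        · rw [show gH⁻¹ = gH * gH from inv_eq_of_mul_eq_one_right (by rw [← rels.g3]; simp [pow_succ, mul_assoc])]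
          exact (Mt_gen ⟨5, by norm_num⟩).mul (Mt_gen ⟨5, by norm_num⟩)
        · omega
      have hX : Mt (xx r (1 : ZMod 3)) (rootN.getD r 0) := by rw [Mt, psi_xx]; exact roots_eq ⟨r, hr⟩
      rw [← hM.eq hX rfl]
      exact Subgroup.list_prod_mem _ fun x hx => by
        obtain ⟨k, hk, rfl⟩ := List.mem_map.1 hx
        exact Subgroup.subset_closure ⟨k, h1 k hk, rfl⟩
    · have e : xx r (1 : ZMod 3) = 1 := psi_inj (Units.ext (by
        rw [psi_xx, m7_out (not_lt.1 hr), map_one, Units.val_one]))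
      rw [e]; exact one_mem _
  refine (Subgroup.eq_top_iff' _).2 fun g => GG_induction (P := fun g => g ∈ S) (one_mem _) (fun a b => mul_mem)
    (fun r t => ?_) g
  have ht : t = 0 ∨ t = 1 ∨ t = 1 + 1 := by revert t; decide
  rcases ht with rfl | rfl | rfl
  · rw [xx_zero]; exact one_mem _
  · exact hroot r
  · rw [xx_add]; exact mul_mem (hroot r) (hroot r)

theorem card_GH : Nat.card GH = 4245696 := Lie.G2Three.card_G2 (F := ZMod 3) (by simp)

theorem simple_GH : IsSimpleGroup GH := by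
  have h : ∃ a : ZMod 3, a ≠ 0 ∧ a ≠ 1 := ⟨2, by decide, by decide⟩
  have hperf := Lie.perfect_small (F := ZMod 3) Lie.factsG2 Lie.okPerfG2 h
  exact (Lie.factsG2.isSimple Lie.okConnG2 hperf (show 0 < chevG2.rank by decide)).1

end Cfsg.Agent.GTwoTwoLocal.Model
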