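import Mathlib.GroupTheory.OrderOfElement
import Mathlib.GroupTheory.Index
import Mathlib.Data.Set.Card
import Mathlib.Tactic.Group
import Mathlib.Tactic.FinCases

/-!
A group generated by four elements of order three with commutators in a central subgroup of exponent three.
-/

set_option autoImplicit false
set_option linter.style.haveILetI false

namespace Cfsg.Agent.GTwoTwoLocal

variable {G : Type*} [Group G]

/-- a product of powers of four elements with a central factor -/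
def form (v : Fin 4 → G) (z : G) (e : Fin 3 × Fin 3 × Fin 3 × Fin 3) : G :=
  z * (v 0 ^ e.1.1 * (v 1 ^ e.2.1.1 * (v 2 ^ e.2.2.1.1 * v 3 ^ e.2.2.2.1)))

/-- the cube of a product with central commutator of order three -/
theorem cube_mul {a b k : G} (hk : b * a = k * (a * b)) (ha : Commute k a) (hb : Commute k b) (h3 : k ^ 3 = 1) :
    (a * b) ^ 3 = a ^ 3 * b ^ 3 := by
  have e : (a * b) ^ 3 = k ^ 3 * (a ^ 3 * b ^ 3) := by
    have k1 : ∀ x, k * (a * x) = a * (k * x) := fun x => by rw [← mul_assoc, ha.eq, mul_assoc]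
    have k2 : ∀ x, k * (b * x) = b * (k * x) := fun x => by rw [← mul_assoc, hb.eq, mul_assoc]
    have sw : ∀ x, b * (a * x) = k * (a * (b * x)) := fun x => by rw [← mul_assoc, hk]; simp only [mul_assoc]
    simp only [pow_succ, pow_zero, one_mul, mul_assoc]
    simp only [sw, k1, k2]

  rw [e, h3, one_mul]

variable (Z : Subgroup G) (v : Fin 4 → G)

/-- the hypotheses on the four elements -/
structure NilData : Prop where
  central : ∀ z ∈ Z, ∀ i, Commute z (v i)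
  abelian : ∀ z ∈ Z, ∀ w ∈ Z, Commute z w
  three : ∀ z ∈ Z, z ^ 3 = 1
  cube : ∀ i, v i ^ 3 = 1
  comm : ∀ i j, v i * v j * (v i)⁻¹ * (v j)⁻¹ ∈ Z

/-- the group generated -/
def nilGroup : Subgroup G := Z ⊔ Subgroup.closure (Set.range v)

variable {Z v}

theorem NilData.swap (h : NilData Z v) (i j : Fin 4) : ∀ n : ℕ, ∃ z ∈ Z, v i * v j ^ n = z * (v j ^ n * v i)
  | 0 => ⟨1, one_mem Z, by simp⟩
  | n + 1 => by
    obtain ⟨z, hz, e⟩ := h.swap i j n
    refine ⟨z * (v i * v j * (v i)⁻¹ * (v j)⁻¹), mul_mem hz (h.comm i j), ?_⟩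
    set k := v i * v j * (v i)⁻¹ * (v j)⁻¹ with hk
    have hkc : Commute k (v j ^ n) := (h.central k (h.comm i j) j).pow_right n
    calc v i * v j ^ (n + 1) = z * (v j ^ n * (v i * v j)) := by
          rw [pow_succ, ← mul_assoc, e]; simp only [mul_assoc]
      _ = z * ((v j ^ n * k) * (v j * v i)) := by rw [hk]; group
      _ = z * ((k * v j ^ n) * (v j * v i)) := by rw [hkc.eq]
      _ = _ := by rw [pow_succ]; simp only [mul_assoc]

theorem NilData.step (h : NilData Z v) (i : Fin 4) {z : G} (hz : z ∈ Z) (e : Fin 3 × Fin 3 × Fin 3 × Fin 3) :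
    ∃ w ∈ Z, ∃ f, v i * form v z e = form v w f := by
  obtain ⟨a, b, c, d⟩ := e
  have hred : ∀ (j : Fin 4) (n : Fin 3), v j * v j ^ n.1 = v j ^ (n + 1 : Fin 3).1 := fun j n => by
    rw [← pow_succ', Fin.val_add]
    show v j ^ (n.1 + 1) = v j ^ ((n.1 + 1) % 3)
    conv_lhs => rw [← Nat.div_add_mod (n.1 + 1) 3, pow_add, pow_mul, h.cube j, one_pow, one_mul]
  have e0 : v i * form v z (a, b, c, d) =
      z * (v i * (v 0 ^ a.1 * (v 1 ^ b.1 * (v 2 ^ c.1 * v 3 ^ d.1)))) := by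
    simp only [form]; rw [← mul_assoc, ← (h.central z hz i).eq, mul_assoc]
  obtain ⟨z0, hz0, s0⟩ := h.swap i 0 a.1
  obtain ⟨z1, hz1, s1⟩ := h.swap i 1 b.1
  obtain ⟨z2, hz2, s2⟩ := h.swap i 2 c.1
  obtain ⟨z3, hz3, s3⟩ := h.swap i 3 d.1
  have pl : ∀ (j : Fin 4) (n : ℕ) (w : G), w ∈ Z → ∀ x, v j ^ n * (w * x) = w * (v j ^ n * x) := fun j n w hw x => by
    rw [← mul_assoc, ← ((h.central w hw j).pow_right n).eq, mul_assoc]
  have hcases : ∀ i : Fin 4, i = 0 ∨ i = 1 ∨ i = 2 ∨ i = 3 := by decide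
  rcases hcases i with rfl | rfl | rfl | rfl
  · refine ⟨z, hz, (a + 1, b, c, d), ?_⟩
    rw [e0, ← mul_assoc (v 0), hred]; rfl
  · refine ⟨z * z0, mul_mem hz hz0, (a, b + 1, c, d), ?_⟩
    rw [e0, ← mul_assoc (v 1), s0]
    simp only [mul_assoc, form]
    rw [← mul_assoc (v 1) (v 1 ^ _), hred]
  · refine ⟨z * z0 * z1, mul_mem (mul_mem hz hz0) hz1, (a, b, c + 1, d), ?_⟩
    rw [e0, ← mul_assoc (v 2), s0]
    simp only [mul_assoc, form]
    rw [← mul_assoc (v 2) (v 1 ^ _), s1]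
    simp only [mul_assoc, pl 0 _ z1 hz1]
    rw [← mul_assoc (v 2) (v 2 ^ _), hred]
  · refine ⟨z * z0 * z1 * z2, mul_mem (mul_mem (mul_mem hz hz0) hz1) hz2, (a, b, c, d + 1), ?_⟩
    rw [e0, ← mul_assoc (v 3), s0]
    simp only [mul_assoc, form]
    rw [← mul_assoc (v 3) (v 1 ^ _), s1]
    simp only [mul_assoc, pl 0 _ z1 hz1]
    rw [← mul_assoc (v 3) (v 2 ^ _), s2]
    simp only [mul_assoc, pl 1 _ z2 hz2, pl 0 _ z2 hz2]
    rw [hred]

theorem NilData.mem_form (h : NilData Z v) {x : G} (hx : x ∈ nilGroup Z v) : ∃ z ∈ Z, ∃ e, x = form v z e := by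
  let S : Set G := {x | ∃ z ∈ Z, ∃ e, x = form v z e}
  have hZ : ∀ w ∈ Z, ∀ x ∈ S, w * x ∈ S := by
    rintro w hw _ ⟨z, hz, e, rfl⟩
    exact ⟨w * z, mul_mem hw hz, e, by simp [form, mul_assoc]⟩
  have hV : ∀ i, ∀ x ∈ S, v i * x ∈ S := by
    rintro i _ ⟨z, hz, e, rfl⟩
    exact h.step i hz e
  have one : (1 : G) ∈ S := ⟨1, one_mem Z, 0, by simp [form]⟩
  have hx' : x ∈ Subgroup.closure ((Z : Set G) ∪ Set.range v) := by
    rwa [Subgroup.closure_union, Subgroup.closure_eq]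
  have : ∀ y ∈ Subgroup.closure ((Z : Set G) ∪ Set.range v), ∀ x ∈ S, y * x ∈ S := by
    intro y hy
    induction hy using Subgroup.closure_induction_left with
    | one => intro x hx; rwa [one_mul]
    | mul_left s hs y _ ih =>
      intro x hx
      rw [mul_assoc]
      rcases hs with hs | ⟨i, rfl⟩
      · exact hZ s hs _ (ih x hx)
      · exact hV i _ (ih x hx)
    | inv_mul_cancel s hs y _ ih =>
      intro x hx
      rw [mul_assoc]
      rcases hs with hs | ⟨i, rfl⟩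
      · exact hZ _ (Z.inv_mem hs) _ (ih x hx)
      · have e : (v i)⁻¹ = v i * v i := inv_eq_of_mul_eq_one_right (by rw [← h.cube i, pow_succ', pow_two])
        rw [e, mul_assoc]
        exact hV i _ (hV i _ (ih x hx))
  have h' := this x hx' 1 one
  rw [mul_one] at h'
  exact h'

theorem NilData.card_le (h : NilData Z v) [Finite Z] :
    Finite (nilGroup Z v) ∧ Nat.card (nilGroup Z v) ≤ Nat.card Z * 81 := by
  have hsub : ((nilGroup Z v : Subgroup G) : Set G) ⊆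
      Set.range (fun q : Z × (Fin 3 × Fin 3 × Fin 3 × Fin 3) => form v q.1 q.2) := by
    intro x hx
    obtain ⟨z, hz, e, rfl⟩ := h.mem_form hx
    exact ⟨(⟨z, hz⟩, e), rfl⟩
  refine ⟨((Set.finite_range _).subset hsub).to_subtype, ?_⟩
  calc Nat.card (nilGroup Z v) ≤ Nat.card (Set.range (fun q : Z × (Fin 3 × Fin 3 × Fin 3 × Fin 3) => form v q.1 q.2)) :=
        Nat.card_mono (Set.finite_range _) hsub
    _ ≤ Nat.card (Z × (Fin 3 × Fin 3 × Fin 3 × Fin 3)) := Finite.card_range_le _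
    _ = _ := by simp [Nat.card_prod]

theorem NilData.pow_nine (h : NilData Z v) {x : G} (hx : x ∈ nilGroup Z v) : x ^ 9 = 1 := by
  have hcZ : ∀ z ∈ Z, ∀ x ∈ nilGroup Z v, Commute z x := by
    intro z hz x hx
    have : nilGroup Z v ≤ Subgroup.centralizer ({z} : Set G) := by
      refine sup_le (fun w hw => ?_) ((Subgroup.closure_le _).2 ?_)
      · exact Subgroup.mem_centralizer_iff.2 fun u hu => by rw [Set.mem_singleton_iff.1 hu]; exact (h.abelian z hz w hw).eq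
      · rintro _ ⟨i, rfl⟩
        exact Subgroup.mem_centralizer_iff.2 fun u hu => by rw [Set.mem_singleton_iff.1 hu]; exact (h.central z hz i).eq
    exact Subgroup.mem_centralizer_iff.1 (this hx) z rfl
  have hvN : ∀ i, v i ∈ nilGroup Z v := fun i => Subgroup.mem_sup_right (Subgroup.subset_closure ⟨i, rfl⟩)
  have hc1 : ∀ i, ∀ x ∈ nilGroup Z v, v i * x * (v i)⁻¹ * x⁻¹ ∈ Z := by
    intro i x hx
    obtain ⟨z, hz, ⟨a, b, c, d⟩, rfl⟩ := h.mem_form hx
    obtain ⟨z0, hz0, s0⟩ := h.swap i 0 a.1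
    obtain ⟨z1, hz1, s1⟩ := h.swap i 1 b.1
    obtain ⟨z2, hz2, s2⟩ := h.swap i 2 c.1
    obtain ⟨z3, hz3, s3⟩ := h.swap i 3 d.1
    set p0 := v 0 ^ a.1; set p1 := v 1 ^ b.1; set p2 := v 2 ^ c.1; set p3 := v 3 ^ d.1
    have m : ∀ (j : Fin 4) (n : ℕ), v j ^ n ∈ nilGroup Z v := fun j n => pow_mem (hvN j) n
    have q : ∀ (p w : G) (hw : w ∈ Z), v i * p = w * (p * v i) → p ∈ nilGroup Z v →
        ∀ x, x ∈ nilGroup Z v → ∀ u ∈ Z, v i * x * (v i)⁻¹ * x⁻¹ = u → v i * (p * x) * (v i)⁻¹ * (p * x)⁻¹ = w * u := by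
      intro p w hw e hp x hx u hu hu'
      calc v i * (p * x) * (v i)⁻¹ * (p * x)⁻¹ = (v i * p) * x * (v i)⁻¹ * x⁻¹ * p⁻¹ := by group
        _ = w * (p * (v i * x * (v i)⁻¹ * x⁻¹) * p⁻¹) := by rw [e]; group
        _ = w * u := by rw [hu', ← (hcZ u hu p hp).eq, mul_inv_cancel_right]
    have b3 : v i * p3 * (v i)⁻¹ * p3⁻¹ = z3 := by rw [s3]; group
    have b2 := q p2 z2 hz2 s2 (m _ _) p3 (m _ _) _ hz3 b3
    have b1 := q p1 z1 hz1 s1 (m _ _) _ (mul_mem (m _ _) (m _ _)) _ (mul_mem hz2 hz3) b2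
    have b0 := q p0 z0 hz0 s0 (m _ _) _ (mul_mem (m _ _) (mul_mem (m _ _) (m _ _))) _ (mul_mem hz1 (mul_mem hz2 hz3)) b1
    have bz := q z 1 (one_mem Z) (by rw [one_mul]; exact (h.central z hz i).eq.symm) (Subgroup.mem_sup_left hz) _
      (mul_mem (m _ _) (mul_mem (m _ _) (mul_mem (m _ _) (m _ _)))) _ (mul_mem hz0 (mul_mem hz1 (mul_mem hz2 hz3))) b0
    show v i * form v z (a, b, c, d) * (v i)⁻¹ * (form v z (a, b, c, d))⁻¹ ∈ Z
    rw [show form v z (a, b, c, d) = z * (p0 * (p1 * (p2 * p3))) from rfl, bz]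
    exact mul_mem (one_mem Z) (mul_mem hz0 (mul_mem hz1 (mul_mem hz2 hz3)))
  have hcube : ∀ x ∈ nilGroup Z v, ∀ i, x ^ 3 ∈ Z → (v i * x) ^ 3 ∈ Z := by
    intro x hx i hx3
    set k := x * v i * x⁻¹ * (v i)⁻¹ with hk
    have hkZ : k ∈ Z := by
      rw [show k = (v i * x * (v i)⁻¹ * x⁻¹)⁻¹ by rw [hk]; group]; exact inv_mem (hc1 i x hx)
    rw [cube_mul (k := k) (by rw [hk]; group) (hcZ k hkZ _ (hvN i)) (hcZ k hkZ x hx) (h.three k hkZ), h.cube i,
      one_mul]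
    exact hx3
  have all : ∀ y ∈ Subgroup.closure ((Z : Set G) ∪ Set.range v), ∀ x ∈ nilGroup Z v, x ^ 3 ∈ Z →
      y * x ∈ nilGroup Z v ∧ (y * x) ^ 3 ∈ Z := by
    intro y hy
    have hzm : ∀ s ∈ Z, ∀ w ∈ nilGroup Z v, w ^ 3 ∈ Z → s * w ∈ nilGroup Z v ∧ (s * w) ^ 3 ∈ Z := fun s hs w h1 h2 =>
      ⟨mul_mem (Subgroup.mem_sup_left hs) h1, by rw [(hcZ s hs w h1).mul_pow, h.three s hs, one_mul]; exact h2⟩
    induction hy using Subgroup.closure_induction_left with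
    | one => intro x hx h3; rw [one_mul]; exact ⟨hx, h3⟩
    | mul_left s hs y _ ih =>
      intro x hx h3
      obtain ⟨h1, h2⟩ := ih x hx h3
      rw [mul_assoc]
      rcases hs with hs | ⟨i, rfl⟩
      · exact hzm s hs _ h1 h2
      · exact ⟨mul_mem (hvN i) h1, hcube _ h1 i h2⟩
    | inv_mul_cancel s hs y _ ih =>
      intro x hx h3
      obtain ⟨h1, h2⟩ := ih x hx h3
      rw [mul_assoc]
      rcases hs with hs | ⟨i, rfl⟩
      · exact hzm _ (Z.inv_mem hs) _ h1 h2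
      · have e : (v i)⁻¹ = v i * v i := inv_eq_of_mul_eq_one_right (by rw [← h.cube i, pow_succ', pow_two])
        rw [e, mul_assoc]
        have a1 := hcube _ h1 i h2
        exact ⟨mul_mem (hvN i) (mul_mem (hvN i) h1), hcube _ (mul_mem (hvN i) h1) i a1⟩
  have h3 : x ^ 3 ∈ Z := by
    have hx' : x ∈ Subgroup.closure ((Z : Set G) ∪ Set.range v) := by
      rwa [Subgroup.closure_union, Subgroup.closure_eq]
    simpa using (all x hx' 1 (one_mem _) (by rw [one_pow]; exact one_mem Z)).2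
  rw [show (9 : ℕ) = 3 * 3 from rfl, pow_mul, h.three _ h3]

end Cfsg.Agent.GTwoTwoLocal
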