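import Cfsg.Agent.Lib.Spor.GTwoTwoLocal.Centraliser

/-!
Finite facts used to normalise the parameters of the two factors, and their consequences for a good pair of
factors.
-/

set_option autoImplicit false
set_option maxRecDepth 100000

namespace Cfsg.Agent.GTwoTwoLocal

theorem invol_pairs : ∀ p q : Fin 24, nrm (m24 p.1 p.1) (m24 q.1 q.1) 0 = 0 →
    nrm p.1 q.1 0 ≠ 0 → nrm p.1 q.1 0 ≠ 288 →
    (∃ i : Fin 24, sig 0 i.1 11 = p.1) ∧ (∃ j : Fin 24, sig 0 j.1 11 = q.1) := by decide +kernel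

theorem second_pairs : ∀ p q : Fin 24, nrm (m24 p.1 p.1) (m24 q.1 q.1) 0 = 0 →
    nrm (m24 p.1 11) (m24 q.1 11) 0 = nrm (m24 11 p.1) (m24 11 q.1) 0 →
    nrm p.1 q.1 0 ∉ [0, 288, 286, 574] →
    ∃ k : Fin 2, ∃ i : Fin 24, sig k.1 i.1 11 = 11 ∧ ∃ l : Fin 2, ∃ j : Fin 24, sig l.1 j.1 11 = 11 ∧
      nrm (sig k.1 i.1 1) (sig l.1 j.1 7) 0 = nrm p.1 q.1 0 := by decide +kernel

theorem no_inner_swap : ∀ i j : Fin 24, nrm (sig 0 i.1 11) (sig 0 j.1 11) 0 = nrm 1 7 0 →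
    nrm (sig 0 i.1 1) (sig 0 j.1 7) 0 ≠ nrm 11 11 0 := by decide +kernel

theorem outer_one : ∀ i : Fin 24, (sig 0 i.1 11 = 1 ∨ sig 0 i.1 11 = sh 1) → sig 0 i.1 1 ≠ 11 ∧ sig 0 i.1 1 ≠ sh 11 := by
  decide +kernel

theorem outer_two : ∀ i : Fin 24, (sig 0 i.1 11 = 7 ∨ sig 0 i.1 11 = sh 7) → sig 0 i.1 7 ≠ 11 ∧ sig 0 i.1 7 ≠ sh 11 := by
  decide +kernel

theorem aut_class : ∀ A B : Fin 24, m24 (m24 A.1 A.1) A.1 = 0 → m24 (m24 B.1 B.1) B.1 = 0 →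
    m24 A.1 B.1 ≠ m24 B.1 A.1 →
    m24 (m24 A.1 (i24 B.1)) A.1 = m24 (m24 (i24 B.1) A.1) (i24 B.1) →
    ∃ k : Fin 2, ∃ i : Fin 24, sig k.1 i.1 6 = A.1 ∧ sig k.1 i.1 4 = B.1 := by decide +kernel

/-- the two standard generators -/
def gen3 (n : ℕ) : ℕ := [0, 6, 4].getD (n % 3) 0

theorem gen_words : ∀ x : Fin 24, ∃ n : Fin 243,
    m24 (m24 (m24 (m24 (gen3 n.1) (gen3 (n.1 / 3))) (gen3 (n.1 / 9))) (gen3 (n.1 / 27))) (gen3 (n.1 / 81)) = x.1 := by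
  decide +kernel

theorem gen_braid : m24 (m24 6 6) 6 = 0 ∧ m24 (m24 4 4) 4 = 0 ∧ m24 6 4 ≠ m24 4 6 ∧
    m24 (m24 6 (i24 4)) 6 = m24 (m24 (i24 4) 6) (i24 4) ∧ i24 4 < 24 := by decide +kernel

theorem nrm_sh : ∀ a b : Fin 24, nrm (sh a.1) (sh b.1) 0 = nrm a.1 b.1 0 := by decide +kernel

theorem gen3_lt (n : ℕ) : gen3 n < 24 := by
  unfold gen3
  have h : n % 3 < 3 := Nat.mod_lt _ (by norm_num)
  rcases n % 3 with _ | _ | _ | m <;> simp_all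

/-- an endomorphism of SL₂(3) determined by its values on the two generators -/
theorem hom_is_sig (π : ℕ → ℕ) (hlt : ∀ a, a < 24 → π a < 24)
    (hhom : ∀ a b, a < 24 → b < 24 → π (m24 a b) = m24 (π a) (π b))
    (hinj : ∀ a b, a < 24 → b < 24 → π a = π b → a = b) :
    ∃ k i, k < 2 ∧ i < 24 ∧ ∀ a, a < 24 → π a = sig k i a := by
  obtain ⟨c1, c2, c3, c4, c5⟩ := gen_braid
  have l6 : (6 : ℕ) < 24 := by norm_num
  have l4 : (4 : ℕ) < 24 := by norm_num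
  have h0 : π 0 = 0 := by
    have h := hhom 0 0 (by norm_num) (by norm_num)
    rw [show m24 0 0 = 0 by decide +kernel] at h
    have key : ∀ a : Fin 24, m24 a.1 a.1 = a.1 → a.1 = 0 := by decide +kernel
    exact key ⟨π 0, hlt 0 (by norm_num)⟩ h.symm
  have hI : π (i24 4) = i24 (π 4) := by
    have h := hhom (i24 4) 4 c5 l4
    rw [(m24_left_id ⟨4, l4⟩).2.2.1, h0] at h
    have key : ∀ a b : Fin 24, m24 a.1 b.1 = 0 → a.1 = i24 b.1 := by decide +kernel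
    exact key ⟨π (i24 4), hlt _ c5⟩ ⟨π 4, hlt 4 l4⟩ h.symm
  have cube : ∀ a, a < 24 → m24 (m24 a a) a = 0 → m24 (m24 (π a) (π a)) (π a) = 0 := fun a ha e => by
    rw [← hhom a a ha ha, ← hhom _ a (m24_lt ⟨a, ha⟩ ⟨a, ha⟩) ha, e, h0]
  have hne : m24 (π 6) (π 4) ≠ m24 (π 4) (π 6) := fun e => by
    rw [← hhom 6 4 l6 l4, ← hhom 4 6 l4 l6] at e
    exact c3 (hinj _ _ (m24_lt ⟨6, l6⟩ ⟨4, l4⟩) (m24_lt ⟨4, l4⟩ ⟨6, l6⟩) e)
  have hbr : m24 (m24 (π 6) (i24 (π 4))) (π 6) = m24 (m24 (i24 (π 4)) (π 6)) (i24 (π 4)) := by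
    rw [← hI, ← hhom _ _ l6 c5, ← hhom _ _ (m24_lt ⟨6, l6⟩ ⟨_, c5⟩) l6, ← hhom _ _ c5 l6,
      ← hhom _ _ (m24_lt ⟨_, c5⟩ ⟨6, l6⟩) c5, c4]
  obtain ⟨k, i, e6, e4⟩ := aut_class ⟨_, hlt 6 l6⟩ ⟨_, hlt 4 l4⟩ (cube 6 l6 c1) (cube 4 l4 c2) hne hbr
  have s0 : sig k.1 i.1 0 = 0 := by
    have key : ∀ k : Fin 2, ∀ i : Fin 24, sig k.1 i.1 0 = 0 := by decide +kernel
    exact key k i
  have hg : ∀ n, π (gen3 n) = sig k.1 i.1 (gen3 n) := by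
    intro n
    unfold gen3
    rcases (show n % 3 = 0 ∨ n % 3 = 1 ∨ n % 3 = 2 by omega) with e | e | e <;> rw [e]
    · simpa using h0.trans s0.symm
    · simpa using e6.symm
    · simpa using e4.symm
  refine ⟨k.1, i.1, k.2, i.2, fun a ha => ?_⟩
  obtain ⟨n, hn⟩ := gen_words ⟨a, ha⟩
  simp only at hn
  have step : ∀ x y, x < 24 → y < 24 → π x = sig k.1 i.1 x → π y = sig k.1 i.1 y →
      π (m24 x y) = sig k.1 i.1 (m24 x y) := fun x y hx hy ex ey => by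
    rw [hhom x y hx hy, ex, ey, sig_hom k i ⟨x, hx⟩ ⟨y, hy⟩]
  have g := fun m => gen3_lt m
  have p2 := step _ _ (g n.1) (g (n.1 / 3)) (hg _) (hg _)
  have l2 : m24 (gen3 n.1) (gen3 (n.1 / 3)) < 24 := m24_lt ⟨_, g _⟩ ⟨_, g _⟩
  have p3 := step _ _ l2 (g (n.1 / 9)) p2 (hg _)
  have l3 := m24_lt ⟨_, l2⟩ ⟨_, g (n.1 / 9)⟩
  have p4 := step _ _ l3 (g (n.1 / 27)) p3 (hg _)
  have p5 := step _ _ (m24_lt ⟨_, l3⟩ ⟨_, g (n.1 / 27)⟩) (g (n.1 / 81)) p4 (hg _)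
  rwa [hn] at p5

namespace Half

variable {G : Type*} [Group G] (B : Half G)

theorem el_eq_iff {a b c d : ℕ} (ha : a < 24) (hb : b < 24) (hc : c < 24) (hd : d < 24) :
    B.el a b = B.el c d ↔ nrm a b 0 = nrm c d 0 := by
  constructor
  · intro e
    rcases B.el_inj ha hb hc hd e with ⟨rfl, rfl⟩ | ⟨rfl, rfl⟩
    · rfl
    · exact nrm_sh ⟨c, hc⟩ ⟨d, hd⟩
  · intro e
    rcases nrm_eq_cases ⟨a, ha⟩ ⟨b, hb⟩ ⟨c, hc⟩ ⟨d, hd⟩ e with ⟨e1, e2⟩ | ⟨e1, e2⟩ <;> simp only at e1 e2 <;>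
      subst e1 e2
    · rfl
    · exact B.el_sh hc hd

theorem el_zero : B.el 0 0 = 1 := by rw [el, B.f1_zero, B.f2_zero, one_mul]

theorem el_twelve : B.el 12 0 = B.z := by rw [el, B.f2_zero, mul_one]; rfl

theorem el_one_iff {a b : ℕ} (ha : a < 24) (hb : b < 24) : B.el a b = 1 ↔ nrm a b 0 = 0 := by
  rw [← B.el_zero, B.el_eq_iff ha hb (by norm_num) (by norm_num), show nrm 0 0 0 = 0 by decide +kernel]

/-- normalise a noncentral involution of the product -/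
theorem Good.normalise_first (h : B.Good) {u : G} (hu : B.El u) (h2 : u * u = 1) (h1 : u ≠ 1) (hz : u ≠ B.z) :
    ∃ B' : Half G, B'.Good ∧ B'.z = B.z ∧ B'.el 11 11 = u := by
  obtain ⟨p, q, hp, hq, rfl⟩ := hu
  obtain ⟨⟨i, hi⟩, ⟨j, hj⟩⟩ := invol_pairs ⟨p, hp⟩ ⟨q, hq⟩
    ((B.el_one_iff (m24_lt ⟨p, hp⟩ ⟨p, hp⟩) (m24_lt ⟨q, hq⟩ ⟨q, hq⟩)).1 (by rw [B.el_mul hp hq hp hq, h2]))
    (fun e => h1 ((B.el_one_iff hp hq).2 e))
    (fun e => hz (by rw [← B.el_twelve, B.el_eq_iff hp hq (by norm_num) (by norm_num), e]; decide +kernel))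
  exact ⟨B.pre (k := 0) (l := 0) (by norm_num) i.2 (by norm_num) j.2, h.pre B _ _ _ _, B.pre_z _ _ _ _,
    by rw [B.pre_el, hi, hj]⟩

/-- normalise a second commuting involution -/
theorem Good.normalise_second (h : B.Good) {v : G} (hv : B.El v) (h2 : v * v = 1)
    (hc : v * B.el 11 11 = B.el 11 11 * v) (h1 : v ≠ 1) (hz : v ≠ B.z) (he : v ≠ B.el 11 11)
    (hze : v ≠ B.z * B.el 11 11) :
    ∃ B' : Half G, B'.Good ∧ B'.z = B.z ∧ B'.el 11 11 = B.el 11 11 ∧ B'.el 1 7 = v := by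
  obtain ⟨p, q, hp, hq, rfl⟩ := hv
  have l : (11 : ℕ) < 24 := by norm_num
  obtain ⟨k, i, hi, m, j, hj, e⟩ := second_pairs ⟨p, hp⟩ ⟨q, hq⟩
    ((B.el_one_iff (m24_lt ⟨p, hp⟩ ⟨p, hp⟩) (m24_lt ⟨q, hq⟩ ⟨q, hq⟩)).1 (by rw [B.el_mul hp hq hp hq, h2]))
    ((B.el_eq_iff (m24_lt ⟨p, hp⟩ ⟨11, l⟩) (m24_lt ⟨q, hq⟩ ⟨11, l⟩) (m24_lt ⟨11, l⟩ ⟨p, hp⟩)
      (m24_lt ⟨11, l⟩ ⟨q, hq⟩)).1 (by rw [B.el_mul hp hq l l, B.el_mul l l hp hq, hc]))
    (by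
      simp only [List.mem_cons, List.not_mem_nil, or_false]
      rintro (e | e | e | e)
      · exact h1 ((B.el_one_iff hp hq).2 e)
      · exact hz (by rw [← B.el_twelve, B.el_eq_iff hp hq (by norm_num) (by norm_num), e]; decide +kernel)
      · exact he (by rw [B.el_eq_iff hp hq l l, e]; decide +kernel)
      · exact hze (by
          rw [← B.el_twelve, ← B.el_mul (by norm_num) (by norm_num) l l,
            B.el_eq_iff hp hq (m24_lt ⟨12, by norm_num⟩ ⟨11, l⟩) (m24_lt ⟨0, by norm_num⟩ ⟨11, l⟩), e]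
          exact (by decide +kernel : (574 : ℕ) = nrm (m24 12 11) (m24 0 11) 0)))
  refine ⟨B.pre k.2 i.2 m.2 j.2, h.pre B _ _ _ _, B.pre_z _ _ _ _, by rw [B.pre_el, hi, hj], ?_⟩
  rw [B.pre_el]
  exact (B.el_eq_iff (sig_lt i.2 (by norm_num)) (sig_lt j.2 (by norm_num)) hp hq).2 e

/-- an element swapping the two normalised involutions induces outer automorphisms on both factors -/
theorem Good.exists_outer (h : B.Good) {x : G} (hx : x * B.z = B.z * x)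
    (hu : x * B.el 11 11 * x⁻¹ = B.el 1 7) (hv : x * B.el 1 7 * x⁻¹ = B.el 11 11) :
    ∃ t : G, t * B.z = B.z * t ∧ ¬ B.El t ∧ (∀ a, a < 24 → t * B.f1 a * t⁻¹ = B.f1 (d24 a)) ∧
      (∀ a, a < 24 → t * B.f2 a * t⁻¹ = B.f2 (d24 a)) := by
  have hcentral : ¬ B.El x := by
    rintro ⟨i, j, hi, hj, rfl⟩
    have key : ∀ a b, a < 24 → b < 24 → B.el i j * B.el a b * (B.el i j)⁻¹ = B.el (sig 0 i a) (sig 0 j b) := by
      intro a b ha hb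
      rw [← B.el_inv hi hj, ← B.el_mul hi hj ha hb,
        ← B.el_mul (m24_lt ⟨i, hi⟩ ⟨a, ha⟩) (m24_lt ⟨j, hj⟩ ⟨b, hb⟩) (i24_lt ⟨i, hi⟩) (i24_lt ⟨j, hj⟩)]
      rfl
    rw [key 11 11 (by norm_num) (by norm_num),
      B.el_eq_iff (sig_lt hi (by norm_num)) (sig_lt hj (by norm_num)) (by norm_num) (by norm_num)] at hu
    rw [key 1 7 (by norm_num) (by norm_num),
      B.el_eq_iff (sig_lt hi (by norm_num)) (sig_lt hj (by norm_num)) (by norm_num) (by norm_num)] at hv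
    exact no_inner_swap ⟨i, hi⟩ ⟨j, hj⟩ hu hv
  have side : ∀ (f : ℕ → G), (∀ i j, i < 24 → j < 24 → f (m24 i j) = f i * f j) →
      (∀ {i j : ℕ}, i < 24 → j < 24 → f i = f j → i = j) →
      (∀ i < 24, ∃ j < 24, f j = x * f i * x⁻¹) →
      ∃ k i, k < 2 ∧ i < 24 ∧ ∀ a, a < 24 → x * f a * x⁻¹ = f (sig k i a) := by
    intro f m inj hc
    classical
    let π : ℕ → ℕ := fun a => if ha : a < 24 then (hc a ha).choose else 0
    have hπ : ∀ a, a < 24 → π a < 24 ∧ f (π a) = x * f a * x⁻¹ := fun a ha => by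
      simp only [π, dif_pos ha]; exact (hc a ha).choose_spec
    obtain ⟨k, i, hk, hi, e⟩ := hom_is_sig π (fun a ha => (hπ a ha).1)
      (fun a b ha hb => inj (hπ _ (m24_lt ⟨a, ha⟩ ⟨b, hb⟩)).1 (m24_lt ⟨_, (hπ a ha).1⟩ ⟨_, (hπ b hb).1⟩)
        (by rw [(hπ _ (m24_lt ⟨a, ha⟩ ⟨b, hb⟩)).2, m _ _ (hπ a ha).1 (hπ b hb).1, (hπ a ha).2, (hπ b hb).2,
          m a b ha hb]; group))
      (fun a b ha hb e => inj ha hb (by
        have h' := congrArg f e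
        rw [(hπ a ha).2, (hπ b hb).2] at h'
        simpa using h'))
    exact ⟨k, i, hk, hi, fun a ha => by rw [← (hπ a ha).2, e a ha]⟩
  obtain ⟨k, i, hk, hi, c1⟩ := side B.f1 B.m1 B.f1_inj (h.conj1 x hx)
  obtain ⟨l, j, hl, hj, c2⟩ := side B.f2 B.m2 B.f2_inj (h.conj2 x hx)
  have cel : ∀ a b, a < 24 → b < 24 → x * B.el a b * x⁻¹ = B.el (sig k i a) (sig l j b) := fun a b ha hb => by
    rw [el, el, ← c1 a ha, ← c2 b hb]; group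
  rw [cel 11 11 (by norm_num) (by norm_num)] at hu
  rw [cel 1 7 (by norm_num) (by norm_num)] at hv
  have eu := B.el_inj (sig_lt hi (by norm_num)) (sig_lt hj (by norm_num)) (by norm_num) (by norm_num) hu
  have evv := B.el_inj (sig_lt hi (by norm_num)) (sig_lt hj (by norm_num)) (by norm_num) (by norm_num) hv
  have hk1 : k = 1 := by
    by_contra hne
    obtain rfl : k = 0 := by omega
    have h1 := outer_one ⟨i, hi⟩ (eu.imp And.left And.left)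
    rcases evv with ⟨e, -⟩ | ⟨e, -⟩
    · exact h1.1 e
    · exact h1.2 e
  have hl1 : l = 1 := by
    by_contra hne
    obtain rfl : l = 0 := by omega
    have h1 := outer_two ⟨j, hj⟩ (eu.imp And.right And.right)
    rcases evv with ⟨-, e⟩ | ⟨-, e⟩
    · exact h1.1 e
    · exact h1.2 e
  subst hk1 hl1
  have hel : B.El (B.el i j) := ⟨i, j, hi, hj, rfl⟩
  refine ⟨(B.el i j)⁻¹ * x, ?_, h.not_El_mul B (B.El_inv hel) hcentral, fun a ha => ?_, fun a ha => ?_⟩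
  · have := h.central _ (B.El_inv hel)
    rw [mul_assoc, hx, ← mul_assoc, this, mul_assoc]
  · have hd := d24_lt ⟨a, ha⟩
    have e1 : sig 1 i a = m24 (m24 i (d24 a)) (i24 i) := rfl
    have hc : Commute (B.f2 j) (B.f1 (d24 a)) := (B.comm _ _ hd hj).symm
    calc (B.el i j)⁻¹ * x * B.f1 a * ((B.el i j)⁻¹ * x)⁻¹
        = (B.f2 j)⁻¹ * ((B.f1 i)⁻¹ * (x * B.f1 a * x⁻¹) * B.f1 i) * B.f2 j := by rw [el]; group
      _ = (B.f2 j)⁻¹ * B.f1 (d24 a) * B.f2 j := by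
          rw [c1 a ha, e1, B.m1 _ _ (m24_lt ⟨i, hi⟩ ⟨_, hd⟩) (i24_lt ⟨i, hi⟩), B.m1 _ _ hi hd, B.f1_inv hi]
          group
      _ = B.f1 (d24 a) := by rw [mul_assoc, ← hc.eq, inv_mul_cancel_left]
  · have hd := d24_lt ⟨a, ha⟩
    have e1 : sig 1 j a = m24 (m24 j (d24 a)) (i24 j) := rfl
    calc (B.el i j)⁻¹ * x * B.f2 a * ((B.el i j)⁻¹ * x)⁻¹
        = (B.f2 j)⁻¹ * ((B.f1 i)⁻¹ * (x * B.f2 a * x⁻¹) * B.f1 i) * B.f2 j := by rw [el]; group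
      _ = (B.f2 j)⁻¹ * (x * B.f2 a * x⁻¹) * B.f2 j := by
          rw [c2 a ha]
          congr 2
          rw [mul_assoc, ← B.comm i _ hi (sig_lt hj ha), inv_mul_cancel_left]
      _ = B.f2 (d24 a) := by
          rw [c2 a ha, e1, B.m2 _ _ (m24_lt ⟨j, hj⟩ ⟨_, hd⟩) (i24_lt ⟨j, hj⟩), B.m2 _ _ hj hd, B.f2_inv hj]
          group

end Half

end Cfsg.Agent.GTwoTwoLocal
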