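import Cfsg.Agent.Lib.Spor.GTwoTwoLocal.ThreeLocal
import Cfsg.Agent.Lib.Spor.GTwoTwoLocal.Nilp
import Cfsg.Agent.S0215

/-!
The centralizer of an element of order three in one factor has small structure, bounding the parabolic-type
subgroup generated with the new element.
-/

set_option autoImplicit false
set_option maxRecDepth 100000
set_option linter.style.haveILetI false
set_option linter.unusedSectionVars false

namespace Cfsg.Agent.GTwoTwoLocal

/-- data for one of the two factors -/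
structure Side where
  /-- the central element -/
  a : ℕ
  /-- the element centralising the new one in the other factor -/
  c : ℕ
  /-- coset representatives in the other factor -/
  reps : List ℕ
  /-- the group acting -/
  L : List ℕ
  /-- the part of the acting group fixing the new element -/
  upos : List ℕ

/-- the side of the first factor -/
def sideP : Side where
  a := 144
  c := 12
  reps := [0, 2, 8, 10]
  L := [0, 1, 2, 3, 4, 5, 6, 7, 8, 9, 10, 11, 12, 13, 14, 15, 16, 17, 18, 19, 20, 21, 22, 23, 288, 289, 290, 291,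
    292, 293, 294, 295, 296, 297, 298, 299, 300, 301, 302, 303, 304, 305, 306, 307, 308, 309, 310, 311]
  upos := [0, 1, 12, 13, 18, 19]

/-- the side of the second factor -/
def sideQ : Side where
  a := 12
  c := 144
  reps := [0, 24, 96, 120]
  L := [0, 1, 24, 25, 48, 49, 72, 73, 96, 97, 120, 121, 144, 145, 168, 169, 192, 193, 216, 217, 240, 241, 264, 265,
    288, 289, 312, 313, 336, 337, 360, 361, 384, 385, 408, 409, 432, 433, 456, 457, 480, 481, 504, 505, 528, 529,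
    552, 553]
  upos := [0, 1, 144, 145, 216, 217]

theorem side_facts : ∀ s : Bool, (let S := bif s then sideP else sideQ
    S.a < 576 ∧ S.c < 576 ∧ S.L.length = 48 ∧ S.reps.length = 4 ∧ (0 ∈ S.L) ∧ (1 ∈ S.L) ∧ (S.c ∈ S.L) ∧
    (∀ h ∈ S.L, h < 576 ∧ invC h ∈ S.L ∧ (cjC h S.a = S.a ∨ cjC h S.a = invC S.a) ∧ (∀ k ∈ S.L, mulC h k ∈ S.L) ∧
      ∀ r ∈ S.reps, ∃ r' ∈ S.reps, ∃ u ∈ S.upos, mulC h r = mulC r' u ∨ mulC h r = mulC r' (mulC u 288)) ∧
    (∀ r ∈ S.reps, r < 576 ∧ mulC r S.a = mulC S.a r) ∧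
    (∀ u ∈ S.upos, ∃ k < 3, ∃ n < 2, u = mulC (powC S.c k) (powC 1 n)) ∧
    mulC 8 1 = 9 ∧ mulC S.a S.c = mulC S.c S.a) := by decide +kernel

/-- a homomorphism on codes -/
structure CodeHom {G : Type*} [Group G] (ψ : ℕ → G) : Prop where
  one : ψ 0 = 1
  mul : ∀ x y, x < 576 → y < 576 → ψ (mulC x y) = ψ x * ψ y

namespace CodeHom

variable {G : Type*} [Group G] {ψ : ℕ → G} (hψ : CodeHom ψ)
include hψ

theorem inv {x : ℕ} (hx : x < 576) : ψ (invC x) = (ψ x)⁻¹ := by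
  refine eq_inv_of_mul_eq_one_left ?_
  rw [← hψ.mul _ _ (invC_lt ⟨x, hx⟩) hx, (invC_spec ⟨x, hx⟩).2, hψ.one]

theorem cj {g x : ℕ} (hg : g < 576) (hx : x < 576) : ψ (cjC g x) = ψ g * ψ x * (ψ g)⁻¹ := by
  rw [cjC, hψ.mul _ _ (mulC_lt hg hx) (invC_lt ⟨g, hg⟩), hψ.mul _ _ hg hx, hψ.inv hg]

theorem pow {x : ℕ} (hx : x < 576) : ∀ n, powC x n < 576 ∧ ψ (powC x n) = ψ x ^ n
  | 0 => ⟨by show (0 : ℕ) < 576; norm_num, by show ψ 0 = _; rw [hψ.one, pow_zero]⟩
  | n + 1 => by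
    obtain ⟨h1, h2⟩ := pow hx n
    exact ⟨mulC_lt h1 hx, by show ψ (mulC _ _) = _; rw [hψ.mul _ _ h1 hx, h2, pow_succ]⟩

/-- the subgroup bound on one side -/
theorem side_bound (s : Bool) {y : G} (Z : Subgroup G) [Finite Z] (hy : y ^ 3 = 1)
    (hyc : Commute y (ψ (bif s then sideP else sideQ).c)) (hyt : Commute y (ψ 1))
    (hyz : ψ 288 * y * (ψ 288)⁻¹ = y⁻¹)
    (hab : ∀ z ∈ Z, ∀ w ∈ Z, Commute z w) (h3 : ∀ z ∈ Z, z ^ 3 = 1)
    (hnorm : ∀ h ∈ (bif s then sideP else sideQ).L, ∀ z ∈ Z, ψ h * z * (ψ h)⁻¹ ∈ Z)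
    (hcen : ∀ r ∈ (bif s then sideP else sideQ).reps, ∀ z ∈ Z, Commute z (ψ r * y * (ψ r)⁻¹))
    (hcomm : ∀ r ∈ (bif s then sideP else sideQ).reps, ∀ r' ∈ (bif s then sideP else sideQ).reps,
      ψ r * y * (ψ r)⁻¹ * (ψ r' * y * (ψ r')⁻¹) * (ψ r * y * (ψ r)⁻¹)⁻¹ * (ψ r' * y * (ψ r')⁻¹)⁻¹ ∈ Z) :
    ∃ P1 : Subgroup G, Finite P1 ∧ Nat.card P1 ≤ Nat.card Z * 81 * 48 ∧ y ∈ P1 ∧ Z ≤ P1 ∧
      (∀ h ∈ (bif s then sideP else sideQ).L, ψ h ∈ P1) ∧ ∀ x ∈ P1, x ^ 216 = 1 := by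
  obtain ⟨ha, hc, hlen, hrlen, h0, h1, hcL, hL, hreps, hu, -, -⟩ := side_facts s
  set S := (bif s then sideP else sideQ) with hS
  let v : Fin 4 → G := fun i => ψ (S.reps.getD i 0) * y * (ψ (S.reps.getD i 0))⁻¹
  have hmem : ∀ i : Fin 4, S.reps.getD i 0 ∈ S.reps := fun i => by
    rw [List.getD_eq_getElem?_getD, List.getElem?_eq_getElem (by omega), Option.getD_some]
    exact List.getElem_mem _
  have hd : NilData Z v :=
    { central := fun z hz i => hcen _ (hmem i) z hz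
      abelian := hab
      three := h3
      cube := fun i => by simp only [v, conj_pow, hy]; group
      comm := fun i j => hcomm _ (hmem i) _ (hmem j) }
  obtain ⟨hfin, hcard⟩ := hd.card_le
  haveI := hfin
  set N := nilGroup Z v with hN
  have hvN : ∀ r ∈ S.reps, ψ r * y * (ψ r)⁻¹ ∈ N := by
    intro r hr
    obtain ⟨i, hi, rfl⟩ := List.mem_iff_getElem.1 hr
    exact Subgroup.mem_sup_right (Subgroup.subset_closure ⟨⟨i, hrlen ▸ hi⟩, by
      simp only [v]; rw [List.getD_eq_getElem?_getD, List.getElem?_eq_getElem hi, Option.getD_some]⟩)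
  have hfix : ∀ u ∈ S.upos, u < 576 ∧ Commute (ψ u) y := by
    intro u hu'
    obtain ⟨k, -, n, -, rfl⟩ := hu u hu'
    obtain ⟨l1, e1⟩ := hψ.pow hc k
    obtain ⟨l2, e2⟩ := hψ.pow (x := 1) (by norm_num) n
    refine ⟨mulC_lt l1 l2, ?_⟩
    rw [hψ.mul _ _ l1 l2, e1, e2]
    exact ((hyc.pow_right k).mul_right (hyt.pow_right n)).symm
  have hconjN : ∀ h ∈ S.L, ∀ x ∈ N, ψ h * x * (ψ h)⁻¹ ∈ N := by
    intro h hh x hx
    obtain ⟨hlt, -, -, -, hr⟩ := hL h hh
    have : N ≤ N.comap (MulAut.conj (ψ h)).toMonoidHom := by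
      refine sup_le (fun z hz => ?_) ((Subgroup.closure_le _).2 ?_)
      · exact Subgroup.mem_sup_left (hnorm h hh z hz)
      · rintro _ ⟨i, rfl⟩
        show ψ h * v i * (ψ h)⁻¹ ∈ N
        obtain ⟨r', hr', u, hu', e⟩ := hr _ (hmem i)
        obtain ⟨hult, hcu⟩ := hfix u hu'
        have hrlt := (hreps _ (hmem i)).1
        have hr'lt := (hreps _ hr').1
        have e' : ψ h * v i * (ψ h)⁻¹ = ψ (mulC h (S.reps.getD i 0)) * y * (ψ (mulC h (S.reps.getD i 0)))⁻¹ := by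
          rw [hψ.mul _ _ hlt hrlt]; simp only [v]; group
        rcases e with e | e
        · rw [e', e, hψ.mul _ _ hr'lt hult, show ψ r' * ψ u * y * (ψ r' * ψ u)⁻¹ =
            ψ r' * (ψ u * y * (ψ u)⁻¹) * (ψ r')⁻¹ by group, hcu.eq, mul_inv_cancel_right]
          exact hvN r' hr'
        · rw [e', e, hψ.mul _ _ hr'lt (mulC_lt hult (by norm_num)), hψ.mul _ _ hult (by norm_num),
            show ψ r' * (ψ u * ψ 288) * y * (ψ r' * (ψ u * ψ 288))⁻¹ =
            ψ r' * (ψ u * (ψ 288 * y * (ψ 288)⁻¹) * (ψ u)⁻¹) * (ψ r')⁻¹ by group, hyz, hcu.inv_right.eq,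
            mul_inv_cancel_right, show ψ r' * y⁻¹ * (ψ r')⁻¹ = (ψ r' * y * (ψ r')⁻¹)⁻¹ by group]
          exact inv_mem (hvN r' hr')
    exact this hx
  let T : Subgroup G :=
    { carrier := {x | ∃ n ∈ N, ∃ h ∈ S.L, x = n * ψ h}
      one_mem' := ⟨1, one_mem N, 0, h0, by rw [hψ.one, mul_one]⟩
      mul_mem' := by
        rintro _ _ ⟨n, hn, h, hh, rfl⟩ ⟨m, hm, k, hk, rfl⟩
        refine ⟨n * (ψ h * m * (ψ h)⁻¹), mul_mem hn (hconjN h hh m hm), mulC h k, (hL h hh).2.2.2.1 k hk, ?_⟩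
        rw [hψ.mul _ _ (hL h hh).1 (hL k hk).1]; group
      inv_mem' := by
        rintro _ ⟨n, hn, h, hh, rfl⟩
        refine ⟨ψ (invC h) * n⁻¹ * (ψ (invC h))⁻¹, hconjN _ (hL h hh).2.1 _ (inv_mem hn), invC h, (hL h hh).2.1, ?_⟩
        rw [hψ.inv (hL h hh).1]; group }
  have hsub : ((T : Subgroup G) : Set G) ⊆
      Set.range (fun q : N × {h // h ∈ S.L.toFinset} => (q.1 : G) * ψ q.2.1) := by
    rintro _ ⟨n, hn, h, hh, rfl⟩
    exact ⟨(⟨n, hn⟩, ⟨h, List.mem_toFinset.2 hh⟩), rfl⟩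
  refine ⟨T, ((Set.finite_range _).subset hsub).to_subtype, ?_, ?_, ?_, ?_, ?_⟩
  · calc Nat.card T ≤ Nat.card (Set.range (fun q : N × {h // h ∈ S.L.toFinset} => (q.1 : G) * ψ q.2.1)) :=
          Nat.card_mono (Set.finite_range _) hsub
      _ ≤ Nat.card (N × {h // h ∈ S.L.toFinset}) := Finite.card_range_le _
      _ ≤ Nat.card Z * 81 * 48 := by
          rw [Nat.card_prod]
          refine Nat.mul_le_mul hcard ?_
          rw [Nat.card_eq_fintype_card, Fintype.card_coe]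
          exact (List.toFinset_card_le _).trans hlen.le
  · refine ⟨y, ?_, 0, h0, by rw [hψ.one, mul_one]⟩
    have h0r : (0 : ℕ) ∈ S.reps := by
      rw [hS]; cases s <;> decide
    have := hvN 0 h0r
    rwa [hψ.one, one_mul, inv_one, mul_one] at this
  · exact fun z hz => ⟨z, Subgroup.mem_sup_left hz, 0, h0, by rw [hψ.one, mul_one]⟩
  · exact fun h hh => ⟨1, one_mem N, h, hh, by rw [one_mul]⟩
  · rintro _ ⟨n, hn, h, hh, rfl⟩
    have key : ∀ k : ℕ, ∃ m ∈ N, (n * ψ h) ^ k = m * ψ h ^ k := by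
      intro k
      induction k with
      | zero => exact ⟨1, one_mem N, by simp⟩
      | succ k ih =>
        obtain ⟨m, hm, e⟩ := ih
        have hk : ∀ k : ℕ, ψ h ^ k * n * (ψ h ^ k)⁻¹ ∈ N := by
          intro k
          induction k with
          | zero => simpa using hn
          | succ k ihk =>
            have := hconjN h hh _ ihk
            rwa [show ψ h * (ψ h ^ k * n * (ψ h ^ k)⁻¹) * (ψ h)⁻¹ = ψ h ^ (k + 1) * n * (ψ h ^ (k + 1))⁻¹ by
              rw [pow_succ']; group] at this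
        refine ⟨m * (ψ h ^ k * n * (ψ h ^ k)⁻¹), mul_mem hm (hk k), ?_⟩
        rw [pow_succ, e, pow_succ]; group
    obtain ⟨m, hm, e⟩ := key 24
    have hh24 : ψ h ^ 24 = 1 := by
      rw [← (hψ.pow (hL h hh).1 24).2, pow_exponent ⟨h, (hL h hh).1⟩, hψ.one]
    rw [show (216 : ℕ) = 24 * 9 from rfl, pow_mul, e, hh24, mul_one, hd.pow_nine hm]

end CodeHom

theorem unique_invol : ∀ c : Fin 576,
    (mulC c.1 144 = mulC 144 c.1 → mulC c.1 c.1 = 0 → c.1 = 0 ∨ c.1 = 288) ∧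
    (mulC c.1 12 = mulC 12 c.1 → mulC c.1 c.1 = 0 → c.1 = 0 ∨ c.1 = 288) := by decide +kernel

theorem odd_normal_P : ∀ c : Fin 576, mulC c.1 144 = mulC 144 c.1 → powC c.1 3 = 0 → c.1 ∉ [0, 144, 216] →
    ∃ h ∈ sideP.L, mulC h 144 = mulC 144 h ∧ powC (mulC c.1 (cjC h c.1)) 3 ≠ 0 := by decide +kernel

theorem odd_normal_Q : ∀ c : Fin 576, mulC c.1 12 = mulC 12 c.1 → powC c.1 3 = 0 → c.1 ∉ [0, 12, 18] →
    ∃ h ∈ sideQ.L, mulC h 12 = mulC 12 h ∧ powC (mulC c.1 (cjC h c.1)) 3 ≠ 0 := by decide +kernel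

theorem cent_a : ∀ s : Bool, (let S := bif s then sideP else sideQ
    (∀ c : Fin 576, mulC c.1 S.a = mulC S.a c.1 → mulC c.1 c.1 = 0 → c.1 = 0 ∨ c.1 = 288) ∧
    (∀ c : Fin 576, mulC c.1 S.a = mulC S.a c.1 → powC c.1 3 = 0 → c.1 ∉ [0, S.a, invC S.a] →
      ∃ h ∈ S.L, mulC h S.a = mulC S.a h ∧ powC (mulC c.1 (cjC h c.1)) 3 ≠ 0) ∧
    mulC S.a S.a = invC S.a ∧ powC S.a 3 = 0 ∧ mulC 288 S.a = mulC S.a 288) := by
  have key : invC 144 = 216 ∧ invC 12 = 18 ∧ (mulC 144 144 = invC 144 ∧ powC 144 3 = 0 ∧ mulC 288 144 = mulC 144 288) ∧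
      mulC 12 12 = invC 12 ∧ powC 12 3 = 0 ∧ mulC 288 12 = mulC 12 288 := by decide +kernel
  intro s
  cases s
  · exact ⟨fun c => (unique_invol c).2, fun c h1 h2 h3 => odd_normal_Q c h1 h2 (key.2.1 ▸ h3), key.2.2.2⟩
  · exact ⟨fun c => (unique_invol c).1, fun c h1 h2 h3 => odd_normal_P c h1 h2 (key.1 ▸ h3), key.2.2.1⟩

namespace Amal

variable {G : Type*} [Group G] (A : Amal G)

theorem codeHom : CodeHom A.psi := ⟨A.psi_zero, fun _ _ hx hy => A.psi_mul hx hy⟩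

/-- conjugates of the new element centralising `a` commute modulo `⟨a⟩` -/
theorem comm_side [Finite G] (s : Bool) {y : G} (hca : Commute y (A.psi (bif s then sideP else sideQ).a))
    (hy : y ^ 3 = 1) (hyz : A.psi 288 * y * (A.psi 288)⁻¹ = y⁻¹) :
    ∀ r ∈ (bif s then sideP else sideQ).reps, ∀ r' ∈ (bif s then sideP else sideQ).reps,
      A.psi r * y * (A.psi r)⁻¹ * (A.psi r' * y * (A.psi r')⁻¹) * (A.psi r * y * (A.psi r)⁻¹)⁻¹ *
        (A.psi r' * y * (A.psi r')⁻¹)⁻¹ ∈ Subgroup.zpowers (A.psi (bif s then sideP else sideQ).a) := by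
  haveI : Fact (Nat.Prime 2) := ⟨Nat.prime_two⟩
  obtain ⟨k1, k2, k3, k4, k5⟩ := cent_a s
  obtain ⟨ha, -, -, -, -, -, -, hL, hreps, -⟩ := side_facts s
  set S := (bif s then sideP else sideQ) with hS
  set a := A.psi S.a with hadef
  set C := Subgroup.centralizer ({a} : Set G) with hC
  have memC : ∀ {x : G}, x ∈ C ↔ x * a = a * x := by
    intro x; simp [hC, Subgroup.mem_centralizer_iff, eq_comm]
  have hcode : ∀ x ∈ C, x * A.psi 288 = A.psi 288 * x → ∃ c, c < 576 ∧ A.psi c = x ∧ mulC c S.a = mulC S.a c := by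
    intro x hx hz
    obtain ⟨c, hc, rfl⟩ := A.cent x (by rw [← A.psi_288]; exact hz)
    exact ⟨c, hc, rfl, A.inj _ _ (mulC_lt hc ha) (mulC_lt ha hc)
      (by rw [A.psi_mul hc ha, A.psi_mul ha hc]; exact memC.1 hx)⟩
  have zC : A.psi 288 ∈ C := memC.2 (by
    rw [hadef, ← A.psi_mul (by norm_num) ha, k5, A.psi_mul ha (by norm_num)])
  set z : ↥C := ⟨A.psi 288, zC⟩ with hzdef
  have hz2 : z * z = 1 := Subtype.ext (by
    show A.psi 288 * A.psi 288 = 1
    rw [← A.psi_mul (by norm_num) (by norm_num), show mulC 288 288 = 0 by decide +kernel, A.psi_zero])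
  have hz1 : z ≠ 1 := fun e => A.psi_ne_one (by norm_num) (by norm_num) (congrArg Subtype.val e)
  have small : ∀ w : ↥C, w * w = 1 → w * z = z * w → w = 1 ∨ w = z := by
    intro w hw hwz
    obtain ⟨c, hc, ec, hca'⟩ := hcode w w.2 (congrArg Subtype.val hwz)
    rcases k1 ⟨c, hc⟩ hca' (A.inj _ _ (mulC_lt hc hc) (by norm_num)
      (by rw [A.psi_mul hc hc, ec, A.psi_zero]; exact congrArg Subtype.val hw)) with h | h <;> simp only at h <;> subst h
    · exact Or.inl (Subtype.ext (by rw [← ec, A.psi_zero]; rfl))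
    · exact Or.inr (Subtype.ext ec.symm)
  have hzord : orderOf z = 2 := orderOf_eq_prime (by rw [pow_two]; exact hz2) hz1
  obtain ⟨P, hP⟩ := (IsPGroup.iff_card.2 ⟨1, by rw [Nat.card_zpowers, hzord, pow_one]⟩ :
    IsPGroup 2 (Subgroup.zpowers z)).exists_le_sylow
  have hzP : z ∈ (P : Subgroup ↥C) := hP (Subgroup.mem_zpowers _)
  haveI : Nontrivial ↥(P : Subgroup ↥C) := ⟨⟨⟨z, hzP⟩, 1, fun e => hz1 (congrArg Subtype.val e)⟩⟩
  haveI := IsPGroup.center_nontrivial P.2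
  obtain ⟨w, hw⟩ := exists_ne (1 : ↥(Subgroup.center ↥(P : Subgroup ↥C)))
  have hw' : w.1.1 ≠ 1 := fun e => hw (Subtype.ext (Subtype.ext e))
  obtain ⟨k, hk⟩ := IsPGroup.iff_orderOf.1 P.2 w.1
  obtain ⟨m, rfl⟩ : ∃ m, k = m + 1 := by
    rcases k with _ | m
    · exact absurd (Subtype.ext (orderOf_eq_one_iff.1 hk)) hw
    · exact ⟨m, rfl⟩
  set i := w.1 ^ 2 ^ m with hidef
  have hi2 : i * i = 1 := by rw [← pow_two, hidef, ← pow_mul, ← pow_succ, ← hk, pow_orderOf_eq_one]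
  have hi1 : i ≠ 1 := fun e => by
    have := Nat.le_of_dvd (by positivity) (orderOf_dvd_of_pow_eq_one e)
    rw [hk, pow_succ] at this
    have : 0 < 2 ^ m := by positivity
    omega
  have hcP : ∀ p : ↥(P : Subgroup ↥C), Commute i p := fun p => by
    have h : Commute w.1 p := (Subgroup.mem_center_iff.1 w.2 p).symm
    exact h.pow_left _
  have hiz : (i : ↥C) = z := by
    refine (small _ (congrArg Subtype.val hi2) (congrArg Subtype.val (hcP ⟨z, hzP⟩).eq)).resolve_left fun e => hi1 ?_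
    exact Subtype.ext e
  have hiso : ∀ g : ↥C, g * z * g⁻¹ ∈ P → g * z * g⁻¹ = z := by
    intro g hg
    have hc : g * z * g⁻¹ * z = z * (g * z * g⁻¹) := by
      have := congrArg Subtype.val (hcP ⟨_, hg⟩).eq
      simp only [Subgroup.coe_mul, hiz] at this
      exact this.symm
    refine (small _ ?_ hc).resolve_left fun e => hz1 ?_
    · rw [show g * z * g⁻¹ * (g * z * g⁻¹) = g * (z * z) * g⁻¹ by group, hz2]; group
    · rw [show z = g⁻¹ * (g * z * g⁻¹) * g by group, e]; group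
  obtain ⟨N, hNn, hNodd, hNz⟩ := Cfsg.Agent.S0215.result P z hzord hzP hiso
  have aC : a ∈ C := memC.2 rfl
  have hfix : ∀ x ∈ N, z * x = x * z → (x : G) ∈ Subgroup.zpowers a := by
    intro x hx hxz
    obtain ⟨c, hc, ec, hca'⟩ := hcode x x.2 (congrArg Subtype.val hxz).symm
    have hodd : ∀ w ∈ N, ∀ d, d < 576 → A.psi d = (w : G) → powC d 3 = 0 := by
      intro w hw d hd ed
      refine nine_to_three ⟨d, hd⟩ (A.inj _ _ (A.pow_psi hd 9).1 (by norm_num) ?_)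
      have ho : Odd (orderOf (A.psi d)) := by
        rw [ed, Subgroup.orderOf_coe]
        exact Odd.of_dvd_nat hNodd (Subgroup.orderOf_dvd_natCard N hw)
      have hd' : orderOf (A.psi d) ∣ 8 * 3 := orderOf_dvd_of_pow_eq_one (by
        rw [show 8 * 3 = 24 from rfl, ← (A.pow_psi hd 24).2, pow_exponent ⟨d, hd⟩, A.psi_zero])
      rw [(A.pow_psi hd 9).2, A.psi_zero]
      exact orderOf_dvd_iff_pow_eq_one.1
        ((((show Nat.Coprime (orderOf (A.psi d)) 8 from (Nat.coprime_two_right.2 ho).pow_right 3)).dvd_of_dvd_mul_left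
          hd').trans (by norm_num))
    by_cases hin : c ∈ [0, S.a, invC S.a]
    · simp only [List.mem_cons, List.not_mem_nil, or_false] at hin
      rcases hin with rfl | rfl | rfl
      · rw [← ec, A.psi_zero]; exact one_mem _
      · rw [← ec]; exact Subgroup.mem_zpowers _
      · rw [← ec, A.psi_inv ha]; exact inv_mem (Subgroup.mem_zpowers _)
    · exfalso
      obtain ⟨h, hh, hcomm, hne⟩ := k2 ⟨c, hc⟩ hca' (hodd x hx c hc ec) hin
      have hlt := (hL h hh).1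
      have hC' : A.psi h ∈ C := memC.2 (by rw [hadef, ← A.psi_mul hlt ha, hcomm, A.psi_mul ha hlt])
      refine hne (hodd _ (N.mul_mem hx (hNn.conj_mem x hx ⟨_, hC'⟩)) _ (mulC_lt hc (cjC_lt hlt hc)) ?_)
      rw [A.psi_mul hc (cjC_lt hlt hc), A.psi_cj hlt hc, ec]
      rfl
  -- the quotient modulo the cyclic group generated by `a`
  set Za : Subgroup ↥N := ((Subgroup.zpowers a).comap C.subtype).comap N.subtype with hZa
  have hmemZa : ∀ {x : ↥N}, x ∈ Za ↔ ((x : ↥C) : G) ∈ Subgroup.zpowers a := Iff.rfl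
  have hZc : ∀ x ∈ Za, ∀ g : ↥C, Commute ((x : ↥C) : G) (g : G) := by
    intro x hx g
    obtain ⟨n, hn⟩ := Subgroup.mem_zpowers_iff.1 (hmemZa.1 hx)
    rw [← hn]
    exact ((show Commute (g : G) a from memC.1 g.2).symm).zpow_left n
  haveI : Za.Normal := ⟨fun x hx g => hmemZa.2 (by
    show ((g : ↥C) : G) * ((x : ↥C) : G) * ((g : ↥C) : G)⁻¹ ∈ Subgroup.zpowers a
    rw [← (hZc x hx g).eq, mul_inv_cancel_right]; exact hx)⟩
  let ψz : ↥N →* ↥N :=
    { toFun := fun x => ⟨z * x * z⁻¹, hNn.conj_mem _ x.2 z⟩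
      map_one' := Subtype.ext (by simp)
      map_mul' := fun p q => Subtype.ext (show z * ((p : ↥C) * q) * z⁻¹ = z * p * z⁻¹ * (z * q * z⁻¹) by group) }
  have hzi : z⁻¹ = z := inv_eq_of_mul_eq_one_right hz2
  have hψZ : Za ≤ Za.comap ψz := fun x hx => hmemZa.2 (by
    show ((z : ↥C) : G) * ((x : ↥C) : G) * ((z : ↥C) : G)⁻¹ ∈ Subgroup.zpowers a
    rw [← (hZc x hx z).eq, mul_inv_cancel_right]; exact hx)
  let φ : ↥N ⧸ Za →* ↥N ⧸ Za := QuotientGroup.map Za Za ψz hψZ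
  have hφmk : ∀ x : ↥N, φ (QuotientGroup.mk x) = QuotientGroup.mk (ψz x) := fun x => rfl
  have hfp : MonoidHom.FixedPointFree φ := by
    intro q hq
    obtain ⟨x, rfl⟩ := QuotientGroup.mk_surjective q
    rw [hφmk, QuotientGroup.eq] at hq
    set e := (ψz x)⁻¹ * x with he
    have hx : ψz x = x * e⁻¹ := by rw [he]; group
    have hxx : ψz (ψz x) = x := Subtype.ext (by
      show z * (z * (x : ↥C) * z⁻¹) * z⁻¹ = x
      rw [hzi, show z * (z * (x : ↥C) * z) * z = z * z * x * (z * z) by group, hz2, one_mul, mul_one])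
    have hψe : ψz e⁻¹ = e⁻¹ := Subtype.ext (Subtype.ext (by
      show ((z : ↥C) : G) * ((e⁻¹ : ↥N) : ↥C) * ((z : ↥C) : G)⁻¹ = _
      rw [← (hZc e⁻¹ (inv_mem hq) z).eq, mul_inv_cancel_right]))
    have he2 : e * e = 1 := by
      have : x = x * (e⁻¹ * e⁻¹) := by
        conv_lhs => rw [← hxx, hx, map_mul, hψe, hx, mul_assoc]
      have h' := left_eq_mul.1 this
      rwa [← mul_inv_rev, inv_eq_one] at h'
    have he1 : e = 1 := by
      refine orderOf_eq_one_iff.1 (Nat.eq_one_of_dvd_coprimes (a := Nat.card ↥N) (b := 2) ?_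
        (orderOf_dvd_natCard e) (orderOf_dvd_of_pow_eq_one (by rw [pow_two]; exact he2)))
      exact Nat.coprime_two_right.2 hNodd
    refine (QuotientGroup.eq_one_iff x).2 (hmemZa.2 (hfix x x.2 ?_))
    rw [he1, inv_one, mul_one] at hx
    exact mul_inv_eq_iff_eq_mul.1 (congrArg Subtype.val hx)
  have hinv : Function.Involutive φ := by
    intro q
    obtain ⟨x, rfl⟩ := QuotientGroup.mk_surjective q
    rw [hφmk, hφmk]
    congr 1
    exact Subtype.ext (by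
      show z * (z * (x : ↥C) * z⁻¹) * z⁻¹ = x
      rw [hzi, show z * (z * (x : ↥C) * z) * z = z * z * x * (z * z) by group, hz2, one_mul, mul_one])
  have hφ := hfp.coe_eq_inv_of_involutive hinv
  have habq : ∀ p q : ↥N ⧸ Za, p * q = q * p := fun p q => by
    have h := map_mul φ p q
    rw [hφ] at h
    simp only [Pi.inv_apply, id, mul_inv_rev] at h
    have h' := congrArg (fun t => t⁻¹) h
    simpa [mul_inv_rev] using h'
  have hy' : y ∈ C := memC.2 hca.eq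
  have hyN : (⟨y, hy'⟩ : ↥C) ∈ N := by
    have h := hNz ⟨y, hy'⟩
    have e : z * ⟨y, hy'⟩ * z⁻¹ * (⟨y, hy'⟩ : ↥C)⁻¹ = ⟨y, hy'⟩ := Subtype.ext (by
      show A.psi 288 * y * (A.psi 288)⁻¹ * y⁻¹ = y
      rw [hyz, inv_eq_of_mul_eq_one_right (show y * (y * y) = 1 by rw [← hy]; simp [pow_succ, mul_assoc])]
      calc y * y * (y * y) = y * (y ^ 3) := by simp [pow_succ, mul_assoc]
        _ = y := by rw [hy, mul_one])
    rwa [e] at h
  intro r hr r' hr'
  have hrC : ∀ r ∈ S.reps, A.psi r ∈ C := fun r hr => memC.2 (by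
    rw [hadef, ← A.psi_mul (hreps r hr).1 ha, (hreps r hr).2, A.psi_mul ha (hreps r hr).1])
  let p : ↥N := ⟨⟨_, hrC r hr⟩ * ⟨y, hy'⟩ * (⟨_, hrC r hr⟩ : ↥C)⁻¹, hNn.conj_mem _ hyN _⟩
  let q : ↥N := ⟨⟨_, hrC r' hr'⟩ * ⟨y, hy'⟩ * (⟨_, hrC r' hr'⟩ : ↥C)⁻¹, hNn.conj_mem _ hyN _⟩
  have hpq : p * q * p⁻¹ * q⁻¹ ∈ Za := by
    rw [← QuotientGroup.eq_one_iff]
    simp only [QuotientGroup.mk_mul, QuotientGroup.mk_inv]
    rw [habq (p : ↥N ⧸ Za) q]; group
  exact hmemZa.1 hpq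

/-- the bound on one side for a new element -/
theorem exists_bound [Finite G] (s : Bool) {y : G} (hn : New A y) :
    ∃ P1 : Subgroup G, Finite P1 ∧ Nat.card P1 ≤ 11664 ∧ y ∈ P1 ∧ A.psi (bif s then sideP else sideQ).a ∈ P1 ∧
      (∀ h ∈ (bif s then sideP else sideQ).L, A.psi h ∈ P1) ∧ ∀ x ∈ P1, x ^ 216 = 1 := by
  obtain ⟨ha, hc, -, -, -, -, -, hL, hreps, -⟩ := side_facts s
  obtain ⟨-, -, -, k4, -⟩ := cent_a s
  set S := (bif s then sideP else sideQ) with hS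
  have hca : Commute y (A.psi S.a) := by
    cases s
    · exact hn.cc
    · exact hn.ca
  have hcc : Commute y (A.psi S.c) := by
    cases s
    · exact hn.ca
    · exact hn.cc
  have hyt : Commute y (A.psi 1) := by
    have h234 : Commute y (A.psi 234) := by
      have key : 234 = mulC (powC 144 2) (powC 12 2) ∨ 234 = mulC (powC 144 1) (powC 12 2) ∨
          234 = mulC (powC 144 2) (powC 12 1) ∨ 234 = mulC (powC 144 1) (powC 12 1) := by decide +kernel
      obtain ⟨i, j, e⟩ : ∃ i j, 234 = mulC (powC 144 i) (powC 12 j) := by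
        rcases key with e | e | e | e <;> exact ⟨_, _, e⟩
      obtain ⟨l1, e1⟩ := A.pow_psi (x := 144) (by norm_num) i
      obtain ⟨l2, e2⟩ := A.pow_psi (x := 12) (by norm_num) j
      rw [e, A.psi_mul l1 l2, e1, e2]
      exact ((show Commute y _ from hn.ca).pow_right i).mul_right ((show Commute y _ from hn.cc).pow_right j)
    rw [← p_facts.2.2.2.2, A.psi_mul (by norm_num) (by norm_num)]
    exact h234.mul_right hn.ct
  have ha3 : A.psi S.a ^ 3 = 1 := by rw [← (A.pow_psi ha 3).2, k4, A.psi_zero]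
  haveI : Finite (Subgroup.zpowers (A.psi S.a)) := inferInstance
  have hZcard : Nat.card (Subgroup.zpowers (A.psi S.a)) ≤ 3 := by
    rw [Nat.card_zpowers]; exact Nat.le_of_dvd (by norm_num) (orderOf_dvd_of_pow_eq_one ha3)
  have hcomm := A.comm_side s hca hn.cube hn.zinv
  obtain ⟨P1, hf, hcard, hy, hZ, hLP, hexp⟩ := A.codeHom.side_bound s (Subgroup.zpowers (A.psi S.a)) hn.cube hcc
    hyt hn.zinv
    (by rintro _ ⟨m, rfl⟩ _ ⟨n, rfl⟩; exact (Commute.refl _).zpow_zpow m n)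
    (by rintro _ ⟨m, rfl⟩; show (A.psi S.a ^ m) ^ 3 = 1; rw [← zpow_natCast, ← zpow_mul, mul_comm, zpow_mul, zpow_natCast, ha3, one_zpow])
    (by
      rintro h hh _ ⟨m, rfl⟩
      show A.psi h * A.psi S.a ^ m * (A.psi h)⁻¹ ∈ _
      rw [← conj_zpow]
      refine Subgroup.zpow_mem _ ?_ m
      obtain ⟨hlt, -, hcj, -⟩ := hL h hh
      rw [← A.psi_cj hlt ha]
      rcases hcj with e | e <;> rw [e]
      · exact Subgroup.mem_zpowers _
      · rw [A.psi_inv ha]; exact inv_mem (Subgroup.mem_zpowers _))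
    (by
      rintro r hr _ ⟨m, rfl⟩
      have h1 : Commute (A.psi S.a) (A.psi r) := by
        show A.psi S.a * A.psi r = A.psi r * A.psi S.a
        rw [← A.psi_mul ha (hreps r hr).1, ← (hreps r hr).2, A.psi_mul (hreps r hr).1 ha]
      exact ((h1.mul_right hca.symm).mul_right h1.inv_right).zpow_left m)
    hcomm
  refine ⟨P1, hf, hcard.trans ?_, hy, hZ (Subgroup.mem_zpowers _), hLP, hexp⟩
  calc Nat.card (Subgroup.zpowers (A.psi S.a)) * 81 * 48 ≤ 3 * 81 * 48 :=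
        Nat.mul_le_mul_right _ (Nat.mul_le_mul_right _ hZcard)
    _ = 11664 := rfl

end Amal

end Cfsg.Agent.GTwoTwoLocal
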