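import Cfsg.Agent.Lib.Spor.GTwoTwoLocal.Normal
import Cfsg.Agent.Lib.Spor.GTwoTwoLocal.Lift
import Cfsg.Prelude.Def_Solvable

/-!
Coordinates for the involution centralizer adapted to the elementary group of order eight, and an element of order
three cycling a four-group.
-/

set_option autoImplicit false
set_option maxRecDepth 100000
set_option linter.style.haveILetI false

namespace Cfsg.Agent.GTwoTwoLocal

/-- codes of the elementary group of order eight -/
def eCodes : List ℕ := [0, 288, 286, 574, 38, 326, 458, 170]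

/-- the square of a code when the outer element squares to the central involution -/
def sqV (c : ℕ) : ℕ := bif Nat.beq (cS c) 0 then mulC c c else mulC (mulC c c) 288

/-- the codes counted for a given square -/
def sqCount (w : ℕ) : ℕ :=
  (Finset.univ.filter fun c : Fin 576 => mulC c.1 286 = mulC 286 c.1 ∧ sqV c.1 = w).card

theorem sqCount_ne : sqCount 288 ≠ sqCount 286 := by decide +kernel

theorem comm_288 : ∀ c : Fin 576, mulC c.1 288 = mulC 288 c.1 := by decide +kernel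

theorem cent_eight : ∀ c : Fin 576, mulC c.1 286 = mulC 286 c.1 → mulC c.1 38 = mulC 38 c.1 →
    c.1 ∈ eCodes ∧ mulC c.1 c.1 = 0 := by decide +kernel

theorem code_facts : mulC 288 286 = 574 ∧ cS 286 = 0 ∧ cS 38 = 0 ∧ cS 288 = 0 ∧ cS 574 = 0 ∧ cP 286 = 11 ∧ cQ 286 = 11 ∧
    cP 38 = 1 ∧ cQ 38 = 7 ∧ cP 288 = 12 ∧ cQ 288 = 0 := by decide +kernel

/-- the frame with an element of order three cycling a four-group -/
structure Setup (G : Type*) [Group G] extends Frame G where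
  /-- the element of order three -/
  g : G
  g3 : g ^ 3 = 1
  gz : g * toFrame.psi 288 * g⁻¹ = toFrame.psi 286
  ge : g * toFrame.psi 286 * g⁻¹ = toFrame.psi 574
  gf : g * toFrame.psi 38 * g⁻¹ = toFrame.psi 38

namespace Half

variable {G : Type*} [Group G] (B : Half G)

/-- the coding given by a pair of factors and an outer element -/
def toBase (t : G) (h1 : ∀ a, a < 24 → t * B.f1 a * t⁻¹ = B.f1 (d24 a))
    (h2 : ∀ a, a < 24 → t * B.f2 a * t⁻¹ = B.f2 (d24 a)) : Base G :=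
  ⟨B.f1, B.f2, t, B.m1, B.m2, B.comm, B.zz, h1, h2⟩

theorem toBase_psi (t : G) (h1 : ∀ a, a < 24 → t * B.f1 a * t⁻¹ = B.f1 (d24 a))
    (h2 : ∀ a, a < 24 → t * B.f2 a * t⁻¹ = B.f2 (d24 a)) (x : ℕ) :
    (B.toBase t h1 h2).psi x = B.el (cP x) (cQ x) * (if cS x = 0 then 1 else t) := rfl

variable {t : G} {h1 : ∀ a, a < 24 → t * B.f1 a * t⁻¹ = B.f1 (d24 a)}
  {h2 : ∀ a, a < 24 → t * B.f2 a * t⁻¹ = B.f2 (d24 a)}

theorem base_inj (hn : ¬ B.El t) {x y : ℕ} (hx : x < 576) (hy : y < 576)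
    (e : (B.toBase t h1 h2).psi x = (B.toBase t h1 h2).psi y) : x = y := by
  have hp := cP_lt hx
  have hp' := cP_lt hy
  have hq := cQ_lt x
  have hq' := cQ_lt y
  have hs := cS_lt x
  have hs' := cS_lt y
  have e1 := code_eq x
  have e2 := code_eq y
  have hEl : ∀ a b, a < 24 → b < 12 → B.El (B.el a b) := fun a b ha hb => ⟨a, b, ha, by omega, rfl⟩
  rw [toBase_psi, toBase_psi] at e
  have fin : B.el (cP x) (cQ x) = B.el (cP y) (cQ y) → cS x = cS y → x = y := by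
    intro h hS
    rcases B.el_inj hp (by omega) hp' (by omega) h with ⟨a, b⟩ | ⟨-, b⟩
    · omega
    · exfalso
      have : sh (cQ y) = (cQ y + 12) % 24 := rfl
      omega
  by_cases a : cS x = 0 <;> by_cases b : cS y = 0
  · rw [if_pos a, if_pos b, mul_one, mul_one] at e
    exact fin e (by omega)
  · rw [if_pos a, if_neg b, mul_one] at e
    refine absurd ?_ hn
    rw [show t = (B.el (cP y) (cQ y))⁻¹ * B.el (cP x) (cQ x) by rw [e]; group]
    exact B.El_mul (B.El_inv (hEl _ _ hp' hq')) (hEl _ _ hp hq)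
  · rw [if_neg a, if_pos b, mul_one] at e
    refine absurd ?_ hn
    rw [show t = (B.el (cP x) (cQ x))⁻¹ * B.el (cP y) (cQ y) by rw [← e]; group]
    exact B.El_mul (B.El_inv (hEl _ _ hp hq)) (hEl _ _ hp' hq')
  · rw [if_neg a, if_neg b] at e
    exact fin (mul_right_cancel e) (by omega)

theorem base_surj (hg : B.Good) (ht : t * B.z = B.z * t) (hn : ¬ B.El t) {h : G} (hh : h * B.z = B.z * h) :
    ∃ x, x < 576 ∧ (B.toBase t h1 h2).psi x = h := by
  set C := B.toBase t h1 h2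
  have hti : t⁻¹ * B.z = B.z * t⁻¹ := ((show Commute t B.z from ht).inv_left).eq
  by_cases a : B.El h
  · obtain ⟨p, q, hp, hq, e⟩ := a
    exact ⟨nrm p q 0, nrm_lt hp hq (by norm_num), by rw [C.psi_nrm hp hq (by norm_num), if_pos rfl, mul_one]; exact e⟩
  · have b : B.El (h * t⁻¹) :=
      hg.prod _ _ hh hti a (fun e => hn (by simpa using B.El_inv e))
    obtain ⟨p, q, hp, hq, e⟩ := b
    refine ⟨nrm p q 1, nrm_lt hp hq (by norm_num), ?_⟩
    rw [C.psi_nrm hp hq (by norm_num), if_neg (by norm_num)]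
    show B.el p q * t = h
    rw [e, inv_mul_cancel_right]

include h1 h2 in
theorem base_tt (hg : B.Good) (ht : t * B.z = B.z * t) (hn : ¬ B.El t) : t * t = 1 ∨ t * t = B.z := by
  obtain ⟨p, q, hp, hq, e⟩ := hg.prod _ _ ht ht hn hn
  have c1 : ∀ a, a < 24 → Commute (t * t) (B.f1 a) := fun a ha => by
    show t * t * B.f1 a = B.f1 a * (t * t)
    calc t * t * B.f1 a = t * (t * B.f1 a * t⁻¹) * t⁻¹ * (t * t) := by group
      _ = t * B.f1 (d24 a) * t⁻¹ * (t * t) := by rw [h1 a ha]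
      _ = B.f1 a * (t * t) := by rw [h1 _ (d24_lt ⟨a, ha⟩), (d24_hom ⟨a, ha⟩ ⟨a, ha⟩).2]
  have c2 : ∀ a, a < 24 → Commute (t * t) (B.f2 a) := fun a ha => by
    show t * t * B.f2 a = B.f2 a * (t * t)
    calc t * t * B.f2 a = t * (t * B.f2 a * t⁻¹) * t⁻¹ * (t * t) := by group
      _ = t * B.f2 (d24 a) * t⁻¹ * (t * t) := by rw [h2 a ha]
      _ = B.f2 a * (t * t) := by rw [h2 _ (d24_lt ⟨a, ha⟩), (d24_hom ⟨a, ha⟩ ⟨a, ha⟩).2]
  have key : ∀ a b, a < 24 → b < 24 → nrm (m24 p a) (m24 q b) 0 = nrm (m24 a p) (m24 b q) 0 := fun a b ha hb => by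
    rw [← B.el_eq_iff (m24_lt ⟨p, hp⟩ ⟨a, ha⟩) (m24_lt ⟨q, hq⟩ ⟨b, hb⟩) (m24_lt ⟨a, ha⟩ ⟨p, hp⟩)
      (m24_lt ⟨b, hb⟩ ⟨q, hq⟩), B.el_mul hp hq ha hb, B.el_mul ha hb hp hq, e]
    exact ((c1 a ha).mul_right (c2 b hb)).eq
  have cc : ∀ p q : Fin 24, (∀ a : Fin 24, nrm (m24 p.1 a.1) (m24 q.1 0) 0 = nrm (m24 a.1 p.1) (m24 0 q.1) 0) →
      (∀ a : Fin 24, nrm (m24 p.1 0) (m24 q.1 a.1) 0 = nrm (m24 0 p.1) (m24 a.1 q.1) 0) →
      nrm p.1 q.1 0 = 0 ∨ nrm p.1 q.1 0 = nrm 12 0 0 := by decide +kernel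
  rcases cc ⟨p, hp⟩ ⟨q, hq⟩ (fun a => key a.1 0 a.2 (by norm_num)) (fun a => key 0 a.1 (by norm_num) a.2) with h | h
  · exact Or.inl (by rw [← e, B.el_one_iff hp hq]; exact h)
  · exact Or.inr (by rw [← e, ← B.el_twelve, B.el_eq_iff hp hq (by norm_num) (by norm_num)]; exact h)

include h1 h2 in
/-- the outer element squares to one -/
theorem square_one (hg : B.Good) (ht : t * B.z = B.z * t) (hn : ¬ B.El t) {m : G}
    (hmz : m * B.z * m⁻¹ = B.el 11 11) (hme : m * B.el 11 11 * m⁻¹ = B.z * B.el 11 11) : t * t = 1 := by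
  refine (B.base_tt (h1 := h1) (h2 := h2) hg ht hn).resolve_right fun htt => sqCount_ne ?_
  set C := B.toBase t h1 h2 with hC
  obtain ⟨f574, f286, -, f288, -, p286, q286, -, -, p288, q288⟩ := code_facts
  have E288 : C.psi 288 = B.z := by
    rw [hC, toBase_psi, p288, q288, if_pos f288, mul_one, B.el_twelve]
  have E286 : C.psi 286 = B.el 11 11 := by rw [hC, toBase_psi, p286, q286, if_pos f286, mul_one]
  have mulR : ∀ {x y : ℕ}, x < 576 → y < 576 → cS y = 0 → C.psi (mulC x y) = C.psi x * C.psi y := fun {x y} hx hy h0 => by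
    by_cases h : cS x = 0
    · exact C.psi_mul_even hx hy h
    · rw [C.psi_mul_gen hx hy h, if_pos h0, mul_one]
  have sqE : ∀ {x : ℕ}, x < 576 → C.psi (sqV x) = C.psi x * C.psi x := fun {x} hx => by
    unfold sqV
    by_cases h : cS x = 0
    · rw [h, show Nat.beq 0 0 = true from rfl, cond_true, C.psi_mul_even hx hx h]
    · rw [show Nat.beq (cS x) 0 = false from Bool.eq_false_iff.2 fun e => h (Nat.eq_of_beq_eq_true e), cond_false,
        mulR (mulC_lt hx hx) (by norm_num) f288, C.psi_mul_gen hx hx h, if_neg h, E288]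
      show _ = C.psi (mulC x x) * (t * t)
      rw [htt]
  have sqlt : ∀ {x : ℕ}, x < 576 → sqV x < 576 := fun {x} hx => by
    unfold sqV
    cases Nat.beq (cS x) 0
    · exact mulC_lt (mulC_lt hx hx) (by norm_num)
    · exact mulC_lt hx hx
  have count : ∀ w, w < 576 → Nat.card {x : G // x * B.z = B.z * x ∧ x * B.el 11 11 = B.el 11 11 * x ∧ x * x = C.psi w} =
      sqCount w := by
    intro w hw
    rw [sqCount, ← Fintype.card_subtype, ← Nat.card_eq_fintype_card]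
    refine (Nat.card_eq_of_bijective (fun c : {c : Fin 576 // mulC c.1 286 = mulC 286 c.1 ∧ sqV c.1 = w} =>
      (⟨C.psi c.1.1, ?_⟩ : {x : G // x * B.z = B.z * x ∧ x * B.el 11 11 = B.el 11 11 * x ∧ x * x = C.psi w})) ⟨?_, ?_⟩).symm
    · obtain ⟨⟨c, hc⟩, hc1, hc2⟩ := c
      simp only at hc1 hc2
      refine ⟨?_, ?_, by rw [← sqE hc, hc2]⟩
      · rw [← E288, ← mulR hc (by norm_num) f288, ← C.psi_mul_even (by norm_num) hc f288]
        exact congrArg C.psi (comm_288 ⟨c, hc⟩)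
      · rw [← E286, ← mulR hc (by norm_num) f286, ← C.psi_mul_even (by norm_num) hc f286, hc1]
    · intro a b e
      exact Subtype.ext (Fin.ext (B.base_inj hn a.1.2 b.1.2 (congrArg Subtype.val e)))
    · rintro ⟨x, hx1, hx2, hx3⟩
      obtain ⟨c, hc, rfl⟩ := B.base_surj (h1 := h1) (h2 := h2) hg ht hn hx1
      refine ⟨⟨⟨c, hc⟩, ?_, ?_⟩, rfl⟩
      · refine B.base_inj (h1 := h1) (h2 := h2) hn (mulC_lt hc (by norm_num)) (mulC_lt (by norm_num) hc) ?_
        rw [← hC, mulR hc (by norm_num) f286, C.psi_mul_even (by norm_num) hc f286, E286]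
        exact hx2
      · exact B.base_inj (h1 := h1) (h2 := h2) hn (sqlt hc) hw (by rw [← hC, sqE hc]; exact hx3)
  rw [← count 288 (by norm_num), ← count 286 (by norm_num), E288, E286]
  have cm : ∀ y a : G, Commute y a → Commute (m * y * m⁻¹) (m * a * m⁻¹) := fun y a h => by
    show m * y * m⁻¹ * (m * a * m⁻¹) = m * a * m⁻¹ * (m * y * m⁻¹)
    calc m * y * m⁻¹ * (m * a * m⁻¹) = m * (y * a) * m⁻¹ := by group
      _ = m * (a * y) * m⁻¹ := by rw [h.eq]
      _ = _ := by group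
  have sq : ∀ y w : G, y * y = w → m * y * m⁻¹ * (m * y * m⁻¹) = m * w * m⁻¹ := fun y w h => by rw [← h]; group
  refine Nat.card_congr ((MulAut.conj m).toEquiv.subtypeEquiv fun y => ?_)
  show _ ↔ m * y * m⁻¹ * B.z = B.z * (m * y * m⁻¹) ∧ m * y * m⁻¹ * B.el 11 11 = B.el 11 11 * (m * y * m⁻¹) ∧
    m * y * m⁻¹ * (m * y * m⁻¹) = B.el 11 11
  constructor
  · rintro ⟨a, b, c⟩
    have a' := cm y B.z a
    have b' := cm y (B.el 11 11) b
    rw [hmz] at a'
    rw [hme] at b'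
    refine ⟨?_, a'.eq, (sq y _ c).trans hmz⟩
    have hzz' : B.z = B.z * B.el 11 11 * (B.el 11 11)⁻¹ := by group
    rw [hzz']
    exact (b'.mul_right a'.inv_right).eq
  · rintro ⟨a, b, c⟩
    have back : ∀ w : G, Commute (m * y * m⁻¹) (m * w * m⁻¹) → Commute y w := fun w h => by
      show y * w = w * y
      calc y * w = m⁻¹ * (m * y * m⁻¹ * (m * w * m⁻¹)) * m := by group
        _ = m⁻¹ * (m * w * m⁻¹ * (m * y * m⁻¹)) * m := by rw [h.eq]
        _ = w * y := by group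
    refine ⟨(back _ ?_).eq, (back _ ?_).eq, ?_⟩
    · rw [hmz]; exact b
    · rw [hme]; exact (show Commute _ B.z from a).mul_right b
    · have : m * (y * y) * m⁻¹ = m * B.z * m⁻¹ := by rw [hmz, ← c]; group
      simpa using this

end Half

theorem exists_notMem {α : Type*} (s : Set α) (L : Finset α) (h : L.card < Nat.card s) :
    ∃ x ∈ s, x ∉ L := by
  by_contra hc
  push Not at hc
  haveI : Finite ↥s := Nat.finite_of_card_ne_zero (by omega)
  have : Nat.card s ≤ Nat.card (L : Set α) := Nat.card_mono L.finite_toSet hc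
  rw [Nat.card_coe_set_eq (L : Set α), Set.ncard_coe_finset] at this
  omega

theorem exists_setup {G : Type*} [Group G] [Finite G] (H H₁ H₂ M : Subgroup G) (h1 : H₁ ≤ H) (h2 : H₂ ≤ H)
    (hn1 : (H₁.subgroupOf H).Normal) (hn2 : (H₂.subgroupOf H).Normal)
    (hiso1 : Nonempty (↥H₁ ≃* Matrix.SpecialLinearGroup (Fin 2) (ZMod 3)))
    (hiso2 : Nonempty (↥H₂ ≃* Matrix.SpecialLinearGroup (Fin 2) (ZMod 3)))
    (hidx : (H₁ ⊔ H₂).relIndex H = 2) (hint1 : H₁ ⊓ H₂ = H₁ ⊓ Subgroup.centralizer (H₁ : Set G))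
    (hint2 : H₁ ⊓ H₂ = H₂ ⊓ Subgroup.centralizer (H₂ : Set G))
    (hHC : H = Subgroup.centralizer ((H₁ ⊓ H₂ : Subgroup G) : Set G)) [hOM : (Cfsg.pCore 2 ↥M).Normal]
    (hM : Nonempty ((↥M ⧸ Cfsg.pCore 2 ↥M) ≃* Matrix.SpecialLinearGroup (Fin 3) (ZMod 2)))
    (hOel : Cfsg.IsElementaryAbelian 2 (Cfsg.pCore 2 ↥M)) (hOcard : Nat.card ↥(Cfsg.pCore 2 ↥M) = 8)
    (hZin : H₁ ⊓ H₂ ≤ (Cfsg.pCore 2 ↥M).map M.subtype) : Nonempty (Setup G) := by
  classical
  obtain ⟨e1⟩ := hiso1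
  obtain ⟨e2⟩ := hiso2
  obtain ⟨iso⟩ := hM
  obtain ⟨B, hB, hz, hH⟩ := exists_good H H₁ H₂ h1 h2 hn1 hn2 e1 e2 hidx hint1 hint2 hHC
  set O := Cfsg.pCore 2 ↥M with hO
  obtain ⟨zM, hzM, hzc⟩ := Subgroup.mem_map.1 (hZin hz)
  have hzc' : (zM : G) = B.z := hzc
  have hexp : ∀ a ∈ O, a * a = 1 := fun a ha => by rw [← pow_two]; exact hOel.2 a ha
  have hz1 : zM ≠ 1 := fun e => by
    have h' : B.z = 1 := by rw [← hzc', e, Subgroup.coe_one]
    exact absurd (B.inj1 12 (by norm_num) h') (by norm_num)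
  have hnc : ∃ m : ↥M, ∃ x ∈ O, m * x ≠ x * m := by
    by_contra hc
    push Not at hc
    have hMH : M ≤ H := fun m hm => (hH m).2 (by
      have := congrArg Subtype.val (hc ⟨m, hm⟩ zM hzM)
      simpa [hzc'] using this)
    have hcM : Nat.card ↥M = 1344 := by
      rw [Subgroup.card_eq_card_quotient_mul_card_subgroup O, Nat.card_congr iso.toEquiv, sl32_card, hOcard]
    have h12 : Nat.card ↥H ≤ 1152 := by
      obtain ⟨x, hx, hxn⟩ := hB.outer
      have hs : ((H : Subgroup G) : Set G) ⊆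
          Set.range (fun c : Fin 24 × Fin 24 × Bool => B.el c.1 c.2.1 * (if c.2.2 then x else 1)) := by
        intro h hh
        have hh' := (hH h).1 hh
        have hxi : x⁻¹ * B.z = B.z * x⁻¹ := ((show Commute x B.z from hx).inv_left).eq
        by_cases a : B.El h
        · obtain ⟨p, q, hp, hq, e⟩ := a
          exact ⟨(⟨p, hp⟩, ⟨q, hq⟩, false), by simp [e]⟩
        · obtain ⟨p, q, hp, hq, e⟩ := hB.prod _ _ hh' hxi a (fun e => hxn (by simpa using B.El_inv e))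
          exact ⟨(⟨p, hp⟩, ⟨q, hq⟩, true), by simp [e]⟩
      calc Nat.card ↥H ≤ Nat.card (Set.range (fun c : Fin 24 × Fin 24 × Bool =>
              B.el c.1 c.2.1 * (if c.2.2 then x else 1))) := Nat.card_mono (Set.finite_range _) hs
        _ ≤ Nat.card (Fin 24 × Fin 24 × Bool) := Finite.card_range_le _
        _ = 1152 := by simp
    have := Subgroup.card_le_of_le hMH
    omega
  obtain ⟨uM, huM, hu'⟩ := exists_notMem (O : Set ↥M) {1, zM} (by
    rw [SetLike.coe_sort_coe, hOcard]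
    exact lt_of_le_of_lt Finset.card_le_two (by norm_num))
  obtain ⟨vM, hvM, hv'⟩ := exists_notMem (O : Set ↥M) {1, zM, uM, zM * uM} (by
    rw [SetLike.coe_sort_coe, hOcard]
    exact lt_of_le_of_lt Finset.card_le_four (by norm_num))
  simp only [Finset.mem_insert, Finset.mem_singleton, not_or] at hu' hv'
  obtain ⟨hu1, huz⟩ := hu'
  obtain ⟨hv1, hvz, hvu, hvzu⟩ := hv'
  have hcO : ∀ a ∈ O, ∀ b ∈ O, a * b = b * a := fun a ha b hb =>
    congrArg Subtype.val (hOel.1.is_comm.comm ⟨a, ha⟩ ⟨b, hb⟩)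
  have hbase : zM ≠ 1 ∧ uM ≠ 1 ∧ uM ≠ zM ∧ vM ≠ 1 ∧ vM ≠ zM ∧ vM ≠ uM ∧ vM ≠ zM * uM :=
    ⟨hz1, hu1, huz, hv1, hvz, hvu, hvzu⟩
  have huv : uM * vM ∈ O := O.mul_mem huM hvM
  have hui : ∀ a ∈ O, a⁻¹ = a := fun a ha => inv_eq_of_mul_eq_one_right (hexp a ha)
  obtain ⟨m0, m0z, m0u, m0v⟩ := lift_basis O iso hOel hOcard hnc hzM huM hvM hbase hzM hvM huv
    ⟨hz1, hv1, hvz, fun e => hvu ((inv_eq_of_mul_eq_one_right e).symm.trans (hui uM huM)),
      fun e => hvzu (by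
        rw [← e, mul_assoc, hcO vM hvM uM huM, ← mul_assoc, hexp uM huM, one_mul]),
      fun e => hu1 (mul_right_cancel (e.trans (one_mul vM).symm)),
      fun e => huz (mul_right_cancel e)⟩
  obtain ⟨x, xz, xu, xv⟩ := lift_basis O iso hOel hOcard hnc hzM huM hvM hbase hzM hvM huM
    ⟨hz1, hv1, hvz, hu1, huz, fun e => hvu e.symm, fun e => hvzu (by rw [e, ← mul_assoc, hexp zM hzM, one_mul])⟩
  have hzu : zM * uM ∈ O := O.mul_mem hzM huM
  obtain ⟨m, mz, mu, mv⟩ := lift_basis O iso hOel hOcard hnc hzM huM hvM hbase huM hzu hvM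
    ⟨hu1, fun e => huz ((inv_eq_of_mul_eq_one_right e).symm.trans (hui zM hzM)),
      fun e => hz1 (mul_right_cancel (e.trans (one_mul uM).symm)), hv1, hvu, hvzu,
      fun e => hvz (by
        rw [e, ← mul_assoc, hcO uM huM zM hzM, mul_assoc, hexp uM huM, mul_one])⟩
  have cv : ∀ a b c : ↥M, a * b * a⁻¹ = c → (a : G) * b * (a : G)⁻¹ = c := fun a b c e => by
    rw [← e]; simp
  have hzO : ∀ a ∈ O, (a : G) * B.z = B.z * a := fun a ha => by
    rw [← hzc']; exact congrArg Subtype.val (hcO a ha zM hzM)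
  have m0H : (m0 : G) * B.z = B.z * m0 := by
    have := cv _ _ _ m0z; rw [hzc'] at this; exact mul_inv_eq_iff_eq_mul.1 this
  have w1 := hB.comm_El B m0H (hzO uM huM)
  rw [cv _ _ _ m0u] at w1
  have w2 := hB.comm_El B m0H (hzO vM hvM)
  rw [cv _ _ _ m0v] at w2
  have hu : B.El (uM : G) := by
    have e : ((uM * vM : ↥M) : G) * (vM : G)⁻¹ = uM := by simp
    rwa [e] at w2
  obtain ⟨B', hB', zB', eu⟩ := hB.normalise_first B hu (congrArg Subtype.val (hexp uM huM))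
    (fun e => hu1 (Subtype.ext e)) (fun e => huz (Subtype.ext (e.trans hzc'.symm)))
  obtain ⟨B2, hB2, zB2, eu2, ev2⟩ := hB'.normalise_second B' (v := (vM : G))
    (by
      have hw1 := hB'.comm_El B' (x := (m0 : G)) (y := (uM : G)) (by rw [zB']; exact m0H)
        (by rw [zB']; exact hzO uM huM)
      rw [cv _ _ _ m0u] at hw1
      have := B'.El_mul hw1 (show B'.El (uM : G) from ⟨11, 11, by norm_num, by norm_num, eu⟩)
      simpa using this)
    (congrArg Subtype.val (hexp vM hvM))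
    (by rw [eu]; exact congrArg Subtype.val (hcO vM hvM uM huM))
    (fun e => hv1 (Subtype.ext e)) (fun e => hvz (Subtype.ext (e.trans (zB'.trans hzc'.symm))))
    (fun e => hvu (Subtype.ext (e.trans eu))) (fun e => hvzu (Subtype.ext (by
      rw [e, zB', eu, Subgroup.coe_mul, hzc'])))
  have eu' : B2.el 11 11 = uM := eu2.trans eu
  have ez : B2.z = B.z := zB2.trans zB'
  have xH : (x : G) * B2.z = B2.z * x := by
    have := cv _ _ _ xz; rw [hzc'] at this; rw [ez]; exact mul_inv_eq_iff_eq_mul.1 this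
  obtain ⟨t, htz, htn, t1, t2⟩ := hB2.exists_outer B2 xH (by rw [eu', ev2]; exact cv _ _ _ xu)
    (by rw [eu', ev2]; exact cv _ _ _ xv)
  have htt := B2.square_one (h1 := t1) (h2 := t2) hB2 htz htn (m := (m : G))
    (by rw [ez, eu', ← hzc']; exact cv _ _ _ mz)
    (by rw [ez, eu', ← hzc', ← Subgroup.coe_mul]; exact cv _ _ _ mu)
  let F : Frame G :=
    { toBase := B2.toBase t t1 t2
      tt := htt
      inj := fun a b ha hb e => B2.base_inj htn ha hb e
      cent := fun h hh => B2.base_surj hB2 htz htn hh }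
  obtain ⟨f574, f286, f38, f288, -, p286, q286, p38, q38, p288, q288⟩ := code_facts
  have F288 : F.psi 288 = B.z := by
    show (B2.toBase t t1 t2).psi 288 = _
    rw [Half.toBase_psi, p288, q288, if_pos f288, mul_one, B2.el_twelve, ez]
  have F286 : F.psi 286 = uM := by
    show (B2.toBase t t1 t2).psi 286 = _
    rw [Half.toBase_psi, p286, q286, if_pos f286, mul_one, eu']
  have F38 : F.psi 38 = vM := by
    show (B2.toBase t t1 t2).psi 38 = _
    rw [Half.toBase_psi, p38, q38, if_pos f38, mul_one, ev2]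
  have F574 : F.psi 574 = ((zM * uM : ↥M) : G) := by
    rw [← f574, F.psi_mul (by norm_num) (by norm_num), F288, F286, Subgroup.coe_mul, hzc']
  set g0 : G := (m : G) with hg0
  have a1 : g0 * F.psi 288 * g0⁻¹ = F.psi 286 := by rw [F288, F286, ← hzc']; exact cv _ _ _ mz
  have a2 : g0 * F.psi 286 * g0⁻¹ = F.psi 574 := by rw [F574, F286]; exact cv _ _ _ mu
  have a3 : g0 * F.psi 38 * g0⁻¹ = F.psi 38 := by rw [F38]; exact cv _ _ _ mv
  have a4 : g0 * F.psi 574 * g0⁻¹ = F.psi 288 := by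
    rw [← f574, F.psi_mul (by norm_num) (by norm_num)]
    calc g0 * (F.psi 288 * F.psi 286) * g0⁻¹ = (g0 * F.psi 288 * g0⁻¹) * (g0 * F.psi 286 * g0⁻¹) := by group
      _ = F.psi (mulC 286 574) := by rw [a1, a2, F.psi_mul (by norm_num) (by norm_num)]
      _ = F.psi 288 := by rw [show mulC 286 574 = 288 by decide +kernel]
      _ = _ := rfl
  have step : ∀ (k : ℕ) (a : G), g0 ^ (k + 1) * a * (g0 ^ (k + 1))⁻¹ = g0 * (g0 ^ k * a * (g0 ^ k)⁻¹) * g0⁻¹ :=
    fun k a => by rw [pow_succ']; group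
  have c288 : Commute (g0 ^ 3) (F.psi 288) := mul_inv_eq_iff_eq_mul.1 (by
    rw [step 2, step 1, step 0, pow_zero, one_mul, inv_one, mul_one, a1, a2, a4])
  have c286 : Commute (g0 ^ 3) (F.psi 286) := mul_inv_eq_iff_eq_mul.1 (by
    rw [step 2, step 1, step 0, pow_zero, one_mul, inv_one, mul_one, a2, a4, a1])
  have c38 : Commute (g0 ^ 3) (F.psi 38) := mul_inv_eq_iff_eq_mul.1 (by
    rw [step 2, step 1, step 0, pow_zero, one_mul, inv_one, mul_one, a3, a3, a3])
  obtain ⟨c, hc, ec⟩ := F.cent (g0 ^ 3) (by rw [← F.psi_288]; exact c288.eq)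
  have hmul : ∀ b, b < 576 → Commute (g0 ^ 3) (F.psi b) → mulC c b = mulC b c := fun b hb h =>
    F.inj _ _ (mulC_lt hc hb) (mulC_lt hb hc) (by rw [F.psi_mul hc hb, F.psi_mul hb hc, ec]; exact h.eq)
  obtain ⟨-, hcc⟩ := cent_eight ⟨c, hc⟩ (hmul 286 (by norm_num) c286) (hmul 38 (by norm_num) c38)
  simp only at hcc
  have g6 : g0 ^ 3 * g0 ^ 3 = 1 := by rw [← ec, ← F.psi_mul hc hc, hcc, F.psi_zero]
  have g4 : ∀ a : G, Commute (g0 ^ 3) a → g0 ^ 4 * a * (g0 ^ 4)⁻¹ = g0 * a * g0⁻¹ := fun a h => by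
    rw [step 3, h.eq, mul_inv_cancel_right]
  exact ⟨⟨F, g0 ^ 4, by
    rw [← pow_mul, show 4 * 3 = 3 + 3 + (3 + 3) by rfl, pow_add, pow_add, g6, one_mul],
    by rw [g4 _ c288, a1], by rw [g4 _ c286, a2], by rw [g4 _ c38, a3]⟩⟩

end Cfsg.Agent.GTwoTwoLocal
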