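import Cfsg.Agent.Lib.Spor.GTwoTwoLocal.Glue

/-!
Interchanging the two factors preserves the normalised amalgam.
-/

set_option autoImplicit false
set_option maxRecDepth 100000

namespace Cfsg.Agent.GTwoTwoLocal

theorem swap_facts : (tTab.all fun q => inT (swapC q.1) && inT (rOf img0 q.1) && Nat.blt (rOf img0 (swapC q.1)) 576 &&
      Nat.beq (cjC 79 (rOf img0 (swapC q.1))) (swapC (rOf img0 q.1))) = true ∧
    inT 79 = true ∧ inT (rOf img0 79) = true ∧ rOf img0 (rOf img0 79) < 576 ∧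
    mulC (mulC 79 (rOf img0 79)) (rOf img0 (rOf img0 79)) = 0 := by decide +kernel

theorem swap_psi {G : Type*} [Group G] (F : Frame G) :
    ∃ F' : Frame G, ∀ x, x < 576 → F'.psi x = F.psi (swapC x) := by
  have hz : ∀ a, a < 24 → F.f1 12 * F.f1 a = F.f1 a * F.f1 12 := fun a ha => by
    rw [← F.m1 12 a (by norm_num) ha, ← F.m1 a 12 ha (by norm_num)]
    exact congrArg F.f1 ((central_iff ⟨12, by norm_num⟩).2 (Or.inr rfl) ⟨a, ha⟩)
  have htz : F.t * F.f1 12 = F.f1 12 * F.t := by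
    have h := F.t1 12 (by norm_num)
    rw [d24_twelve.2] at h
    exact mul_inv_eq_iff_eq_mul.1 h
  have hz2 : F.f1 12 * F.f1 12 = 1 := by
    rw [← F.m1 12 12 (by norm_num) (by norm_num), show m24 12 12 = 0 by decide +kernel, F.f1_zero]
  let B : Base G := ⟨F.f2, F.f1, F.t * F.f1 12, F.m2, F.m1, fun i j hi hj => (F.comm j i hj hi).symm, F.zz.symm,
    fun a ha => by
      have hc := F.comm 12 a (by norm_num) ha
      rw [show F.t * F.f1 12 * F.f2 a * (F.t * F.f1 12)⁻¹ = F.t * (F.f1 12 * F.f2 a) * (F.f1 12)⁻¹ * F.t⁻¹ by group,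
        hc, show F.t * (F.f2 a * F.f1 12) * (F.f1 12)⁻¹ * F.t⁻¹ = F.t * F.f2 a * F.t⁻¹ by group]
      exact F.t2 a ha,
    fun a ha => by
      rw [show F.t * F.f1 12 * F.f1 a * (F.t * F.f1 12)⁻¹ = F.t * (F.f1 12 * F.f1 a) * (F.f1 12)⁻¹ * F.t⁻¹ by group,
        hz a ha, show F.t * (F.f1 a * F.f1 12) * (F.f1 12)⁻¹ * F.t⁻¹ = F.t * F.f1 a * F.t⁻¹ by group]
      exact F.t1 a ha⟩
  have hpsi : ∀ x, x < 576 → B.psi x = F.psi (swapC x) := fun x hx => by
    have hp := cP_lt hx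
    have hq : cQ x < 24 := (cQ_lt x).trans (by norm_num)
    have hs := cS_lt x
    show _ = F.psi (nrm ((cQ x + 12 * cS x) % 24) (cP x) (cS x))
    rw [F.psi_nrm (Nat.mod_lt _ (by norm_num)) hp hs, Base.psi]
    show F.f2 (cP x) * F.f1 (cQ x) * (if cS x = 0 then 1 else F.t * F.f1 12) = _
    by_cases h : cS x = 0
    · rw [h, if_pos rfl, if_pos rfl, show (cQ x + 12 * 0) % 24 = cQ x by have := cQ_lt x; omega,
        F.comm _ _ hq hp]
    · rw [show cS x = 1 by omega, if_neg (by norm_num), if_neg (by norm_num),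
        show (cQ x + 12 * 1) % 24 = (cQ x + 12) % 24 by rfl, F.f1_add_twelve hq, htz]
      have hc := F.comm 12 (cP x) (by norm_num) hp
      calc F.f2 (cP x) * F.f1 (cQ x) * (F.f1 12 * F.t) = F.f1 (cQ x) * (F.f2 (cP x) * F.f1 12) * F.t := by
            rw [← F.comm _ _ hq hp]; group
        _ = _ := by rw [← hc]; group
  refine ⟨{ toBase := B, tt := ?_, inj := fun x y hx hy e => ?_, cent := fun h hh => ?_ }, hpsi⟩
  · show F.t * F.f1 12 * (F.t * F.f1 12) = 1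
    rw [htz, show F.f1 12 * F.t * (F.f1 12 * F.t) = F.f1 12 * (F.t * F.f1 12) * F.t by group, htz,
      show F.f1 12 * (F.f1 12 * F.t) * F.t = F.f1 12 * F.f1 12 * (F.t * F.t) by group, hz2, F.tt, one_mul]
  · rw [hpsi x hx, hpsi y hy] at e
    have := F.inj _ _ (swapC_spec ⟨x, hx⟩).1 (swapC_spec ⟨y, hy⟩).1 e
    exact ((swapC_spec ⟨x, hx⟩).2).symm.trans ((congrArg swapC this).trans (swapC_spec ⟨y, hy⟩).2)
  · obtain ⟨x, hx, rfl⟩ := F.cent h (by
      have e : B.f1 12 = F.f1 12 := F.zz.symm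
      rw [← e]; exact hh)
    exact ⟨swapC x, (swapC_spec ⟨x, hx⟩).1, by rw [hpsi _ (swapC_spec ⟨x, hx⟩).1, (swapC_spec ⟨x, hx⟩).2]⟩

theorem Amal.exists_swap {G : Type*} [Group G] (A : Amal G) :
    ∃ A' : Amal G, ∀ x, x < 576 → A'.psi x = A.psi (swapC x) := by
  obtain ⟨hall, h79, h79', h79'', hcube⟩ := swap_facts
  obtain ⟨F, hF⟩ := swap_psi A.toFrame
  have r1 := A.glue 79 h79
  have r2 := A.glue _ h79'
  have g3 : (A.psi 79 * A.g) ^ 3 = 1 := by
    have e : (A.psi 79 * A.g) ^ 3 =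
        A.psi 79 * (A.g * A.psi 79 * A.g⁻¹) * (A.g * (A.g * A.psi 79 * A.g⁻¹) * A.g⁻¹) * A.g ^ 3 := by
      simp only [pow_succ, pow_zero, one_mul]; group
    rw [e, r1, r2, A.g3, mul_one, ← A.psi_mul (by norm_num) (inT_lt h79'),
      ← A.psi_mul (mulC_lt (by norm_num) (inT_lt h79')) h79'', hcube, A.psi_zero]
  have glue : ∀ x, inT x = true →
      A.psi 79 * A.g * F.psi x * (A.psi 79 * A.g)⁻¹ = F.psi (rOf img0 x) := fun x hx => by
    obtain ⟨p, hp, e⟩ := List.any_eq_true.1 hx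
    have := List.all_eq_true.1 hall p hp
    simp only [Bool.and_eq_true] at this
    rw [Nat.eq_of_beq_eq_true e] at this
    obtain ⟨⟨⟨t1, t2⟩, t3⟩, t4⟩ := this
    rw [hF x (inT_lt hx), hF _ (inT_lt t2), ← Nat.eq_of_beq_eq_true t4,
      A.psi_cj (by norm_num) (Nat.le_of_ble_eq_true t3), ← A.glue _ t1]
    group
  obtain ⟨g', g3', glue', h7, h3'⟩ := normalise_of_glue F _ g3 glue
  exact ⟨⟨F, g', g3', glue', h7, h3'⟩, hF⟩

end Cfsg.Agent.GTwoTwoLocal
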