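import Cfsg.Agent.Lib.Spor.GTwoTwoLocal.Swap
import Cfsg.Agent.Lib.Solv.Cores
import Cfsg.Agent.Lib.Fusion.Cores
import Cfsg.Agent.S3347
import Mathlib.GroupTheory.Transfer
import Mathlib.GroupTheory.FixedPointFree

/-!
The centralizer of the elementary group of order nine in the involution centralizer grows: it contains a new
element of order three centralised by a conjugate of the central involution.
-/

set_option autoImplicit false
set_option maxRecDepth 100000
set_option linter.style.haveILetI false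
set_option linter.unusedSectionVars false

namespace Cfsg.Agent.GTwoTwoLocal

/-- codes of the group of order nine -/
def pCodes : List ℕ := [0, 12, 18, 144, 156, 162, 216, 228, 234]

/-- codes of its centralizer in the involution centralizer -/
def clCodes : List ℕ := [0, 12, 18, 144, 156, 162, 216, 228, 234, 288, 300, 306, 432, 444, 450, 504, 516, 522]

/-- codes of the possible new elements, up to inversion -/
def yCodes : List ℕ := [144, 12, 156, 228, 336, 292, 348, 436, 452, 540, 52, 68]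

theorem p_facts : (∀ x ∈ pCodes, x < 576 ∧ invC x ∈ pCodes ∧ mulC x (mulC x x) = 0 ∧ cjC 157 x = invC x ∧
      ∀ y ∈ pCodes, mulC x y ∈ pCodes ∧ mulC x y = mulC y x) ∧ pCodes.Nodup ∧
    (∀ x ∈ clCodes, x < 576 ∧ (x ∈ pCodes ∨ mulC x 288 ∈ pCodes)) ∧ mulC 157 157 = 0 ∧ mulC 234 157 = 1 := by
  decide +kernel

theorem cl_iff : ∀ c : Fin 576, (mulC c.1 144 = mulC 144 c.1 ∧ mulC c.1 12 = mulC 12 c.1) ↔ c.1 ∈ clCodes := by
  decide +kernel

theorem cl_two : ∀ c ∈ clCodes, mulC c c = 0 → c = 0 ∨ c = 288 := by decide +kernel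

/-- fuelled power of a code -/
def powC (x : ℕ) : ℕ → ℕ
  | 0 => 0
  | n + 1 => mulC (powC x n) x

theorem cl_eighteen : ∀ c ∈ clCodes, powC c 18 = 0 ∧ (powC c 9 = 0 → c ∈ pCodes) ∧ powC c 2 = mulC c c := by
  decide +kernel

theorem norm_nine : ∀ c : Fin 576, powC c.1 9 = 0 → cjC c.1 144 ∈ pCodes → cjC c.1 12 ∈ pCodes → c.1 ∈ pCodes := by
  decide +kernel

theorem norm_index : ∀ c : Fin 576, cjC c.1 144 ∈ pCodes → cjC c.1 12 ∈ pCodes →
    (mulC c.1 157 ∈ clCodes ↔ c.1 ∉ clCodes) := by decide +kernel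

theorem nine_to_three : ∀ c : Fin 576, powC c.1 9 = 0 → powC c.1 3 = 0 := by decide +kernel

theorem pow_exponent : ∀ c : Fin 576, powC c.1 24 = 0 := by decide +kernel

theorem y_class : ∀ c : Fin 576, c.1 ≠ 0 → powC c.1 3 = 0 → cjC 157 c.1 = invC c.1 →
    c.1 ∈ yCodes ∨ invC c.1 ∈ yCodes := by decide +kernel

theorem chain_facts : inT 288 = true ∧ inT (rOf img0 288) = true ∧ inT (cjC 1 (rOf img0 288)) = true ∧
    inT (rOf img0 (cjC 1 (rOf img0 288))) = true ∧
    rOf img0 (rOf img0 (cjC 1 (rOf img0 288))) = 157 ∧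
    inT 157 = true := by decide +kernel

theorem chain_back : ∃ x, inT x = true ∧ rOf img0 x < 576 ∧ inT (cjC 1 (rOf img0 x)) = true ∧
    inT (rOf img0 (cjC 1 (rOf img0 x))) = true ∧ x = 157 ∧
    rOf img0 (rOf img0 (cjC 1 (rOf img0 x))) = 288 := by
  exact ⟨157, by decide +kernel⟩

/-- involutory automorphisms without fixed points invert -/
theorem inverts {G : Type*} [Group G] [Finite G] (K : Subgroup G) (u : G) (hu : u * u = 1)
    (hn : ∀ x ∈ K, u * x * u⁻¹ ∈ K) (hfix : ∀ x ∈ K, u * x = x * u → x = 1) :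
    ∀ x ∈ K, u * x * u⁻¹ = x⁻¹ := by
  let φ : ↥K →* ↥K :=
    { toFun := fun x => ⟨u * x * u⁻¹, hn x x.2⟩
      map_one' := Subtype.ext (by simp)
      map_mul' := fun a b => Subtype.ext (show u * ((a : G) * b) * u⁻¹ = u * a * u⁻¹ * (u * b * u⁻¹) by group) }
  have hui : u⁻¹ = u := inv_eq_of_mul_eq_one_right hu
  have hfp : MonoidHom.FixedPointFree φ := fun x hx =>
    Subtype.ext (hfix x x.2 (mul_inv_eq_iff_eq_mul.1 (congrArg Subtype.val hx)))
  have hinv : Function.Involutive φ := fun x => Subtype.ext (by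
    show u * (u * x * u⁻¹) * u⁻¹ = x
    rw [hui, show u * (u * (x : G) * u) * u = u * u * x * (u * u) by group, hu, one_mul, mul_one])
  intro x hx
  have := congrArg Subtype.val (congrFun (hfp.coe_eq_inv_of_involutive hinv) ⟨x, hx⟩)
  exact this

namespace Amal

variable {G : Type*} [Group G] (A : Amal G)

theorem pow_psi {x : ℕ} (hx : x < 576) : ∀ n, powC x n < 576 ∧ A.psi (powC x n) = A.psi x ^ n
  | 0 => ⟨by show (0 : ℕ) < 576; norm_num, by show A.psi 0 = _; rw [A.psi_zero, pow_zero]⟩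
  | n + 1 => by
    obtain ⟨h1, h2⟩ := pow_psi hx n
    exact ⟨mulC_lt h1 hx, by show A.psi (mulC _ _) = _; rw [A.psi_mul h1 hx, h2, pow_succ]⟩

/-- the fusion word -/
def W : G := A.g * A.g * A.t * A.g

theorem W_z : A.W * A.psi 288 * A.W⁻¹ = A.psi 157 := by
  obtain ⟨h1, h2, h3, h4, h5, -⟩ := chain_facts
  rw [← h5, ← A.glue _ h4, ← A.glue _ h3, A.psi_cj (by norm_num) (inT_lt h2), ← A.glue _ h1, A.psi_one, W]
  group

theorem W_back : A.W⁻¹ * A.psi 288 * A.W = A.psi 157 := by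
  obtain ⟨x, hx, hlt, h3, h4, rfl, h6⟩ := chain_back
  rw [← h6, ← A.glue _ h4, ← A.glue _ h3, A.psi_cj (by norm_num) hlt, ← A.glue _ hx, A.psi_one, W]
  group

/-- the group of order nine -/
def P : Subgroup G where
  carrier := {x | ∃ c ∈ pCodes, A.psi c = x}
  one_mem' := ⟨0, by decide, A.psi_zero⟩
  mul_mem' := by
    rintro _ _ ⟨c, hc, rfl⟩ ⟨d, hd, rfl⟩
    exact ⟨_, ((p_facts.1 c hc).2.2.2.2 d hd).1, A.psi_mul (p_facts.1 c hc).1 (p_facts.1 d hd).1⟩
  inv_mem' := by
    rintro _ ⟨c, hc, rfl⟩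
    exact ⟨_, (p_facts.1 c hc).2.1, A.psi_inv (p_facts.1 c hc).1⟩

theorem P_cube {x : G} (hx : x ∈ A.P) : x ^ 3 = 1 := by
  obtain ⟨c, hc, rfl⟩ := hx
  obtain ⟨h1, -, h3, -⟩ := p_facts.1 c hc
  rw [pow_succ', pow_two, ← A.psi_mul h1 h1, ← A.psi_mul h1 (mulC_lt h1 h1), h3, A.psi_zero]

theorem P_comm {x y : G} (hx : x ∈ A.P) (hy : y ∈ A.P) : x * y = y * x := by
  obtain ⟨c, hc, rfl⟩ := hx
  obtain ⟨d, hd, rfl⟩ := hy
  rw [← A.psi_mul (p_facts.1 c hc).1 (p_facts.1 d hd).1, ← A.psi_mul (p_facts.1 d hd).1 (p_facts.1 c hc).1,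
    ((p_facts.1 c hc).2.2.2.2 d hd).2]

theorem card_P : Nat.card A.P = 9 := by
  have h : ((A.P : Subgroup G) : Set G) = A.psi '' {c | c ∈ pCodes} := by
    ext x; exact ⟨fun ⟨c, h1, h2⟩ => ⟨c, h1, h2⟩, fun ⟨c, h1, h2⟩ => ⟨c, h1, h2⟩⟩
  have hinj : Set.InjOn A.psi {c | c ∈ pCodes} := fun c hc d hd e =>
    A.inj c d (p_facts.1 c hc).1 (p_facts.1 d hd).1 e
  rw [← SetLike.coe_sort_coe, h, Nat.card_coe_set_eq, Set.ncard_image_of_injOn hinj]
  rw [← List.coe_toFinset, Set.ncard_coe_finset, List.toFinset_card_of_nodup p_facts.2.1]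
  rfl

/-- the centralizer of the group of order nine -/
def C : Subgroup G := Subgroup.centralizer ({A.psi 144, A.psi 12} : Set G)

theorem mem_C {x : G} : x ∈ A.C ↔ x * A.psi 144 = A.psi 144 * x ∧ x * A.psi 12 = A.psi 12 * x := by
  simp [C, Subgroup.mem_centralizer_iff, eq_comm]

theorem P_le_C : A.P ≤ A.C := fun x hx =>
  A.mem_C.2 ⟨A.P_comm hx ⟨144, by decide, rfl⟩, A.P_comm hx ⟨12, by decide, rfl⟩⟩

theorem C_z {x : G} (hx : x ∈ A.C) (hz : x * A.psi 288 = A.psi 288 * x) :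
    ∃ c ∈ clCodes, A.psi c = x := by
  obtain ⟨c, hc, rfl⟩ := A.cent x (by rw [← A.psi_288]; exact hz)
  obtain ⟨h1, h2⟩ := A.mem_C.1 hx
  refine ⟨c, (cl_iff ⟨c, hc⟩).1 ⟨?_, ?_⟩, rfl⟩
  · exact A.inj _ _ (mulC_lt hc (by norm_num)) (mulC_lt (by norm_num) hc)
      (by rw [A.psi_mul hc (by norm_num), A.psi_mul (by norm_num) hc]; exact h1)
  · exact A.inj _ _ (mulC_lt hc (by norm_num)) (mulC_lt (by norm_num) hc)
      (by rw [A.psi_mul hc (by norm_num), A.psi_mul (by norm_num) hc]; exact h2)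

theorem conj_C {u x : G} (hu : ∀ p ∈ A.P, u * p * u⁻¹ ∈ A.P) (hu' : ∀ p ∈ A.P, u⁻¹ * p * u ∈ A.P) (hx : x ∈ A.C) :
    u * x * u⁻¹ ∈ A.C := by
  have hxP : ∀ p ∈ A.P, x * p = p * x := by
    intro p hp
    obtain ⟨h1, h2⟩ := A.mem_C.1 hx
    obtain ⟨c, hc, rfl⟩ := hp
    have key : ∀ c ∈ pCodes, ∃ i < 3, ∃ j < 3, c = mulC (powC 144 i) (powC 12 j) := by decide +kernel
    obtain ⟨i, -, j, -, rfl⟩ := key c hc
    obtain ⟨l1, e1⟩ := A.pow_psi (x := 144) (by norm_num) i
    obtain ⟨l2, e2⟩ := A.pow_psi (x := 12) (by norm_num) j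
    rw [A.psi_mul l1 l2, e1, e2]
    exact (((show Commute x (A.psi 144) from h1).pow_right i).mul_right
      ((show Commute x (A.psi 12) from h2).pow_right j)).eq
  have key : ∀ p ∈ A.P, u * x * u⁻¹ * p = p * (u * x * u⁻¹) := fun p hp => by
    calc u * x * u⁻¹ * p = u * (x * (u⁻¹ * p * u)) * u⁻¹ := by group
      _ = u * ((u⁻¹ * p * u) * x) * u⁻¹ := by rw [hxP _ (hu' p hp)]
      _ = _ := by group
  exact A.mem_C.2 ⟨key _ ⟨144, by decide, rfl⟩, key _ ⟨12, by decide, rfl⟩⟩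

theorem not_odd_only [Finite G] (hC : ∀ x ∈ A.C, x * A.psi 288 = A.psi 288 * x) : False := by
  haveI : Fact (Nat.Prime 3) := ⟨by norm_num⟩
  set z := A.psi 288 with hz
  have zC : z ∈ A.C := by
    have key : mulC 288 144 = mulC 144 288 ∧ mulC 288 12 = mulC 12 288 := by decide +kernel
    exact A.mem_C.2 ⟨by rw [hz, ← A.psi_mul (by norm_num) (by norm_num), key.1, A.psi_mul (by norm_num) (by norm_num)],
      by rw [hz, ← A.psi_mul (by norm_num) (by norm_num), key.2, A.psi_mul (by norm_num) (by norm_num)]⟩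
  have hN : ∀ x : G, (∀ p ∈ A.P, x * p * x⁻¹ ∈ A.P) → (∀ p ∈ A.P, x⁻¹ * p * x ∈ A.P) → x * z = z * x := by
    intro x h1 h2
    have hm := A.conj_C h1 h2 zC
    obtain ⟨c, hc, ec⟩ := A.C_z hm (hC _ hm)
    have h2c : A.psi (mulC c c) = A.psi 0 := by
      rw [A.psi_mul (p_facts.2.2.1 c hc).1 (p_facts.2.2.1 c hc).1, ec, A.psi_zero,
        show x * z * x⁻¹ * (x * z * x⁻¹) = x * (z * z) * x⁻¹ by group, hz,
        ← A.psi_mul (by norm_num) (by norm_num), show mulC 288 288 = 0 by decide +kernel, A.psi_zero]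
      group
    rcases cl_two c hc (A.inj _ _ (mulC_lt (p_facts.2.2.1 c hc).1 (p_facts.2.2.1 c hc).1) (by norm_num) h2c) with rfl | rfl
    · exfalso
      rw [A.psi_zero] at ec
      have : z = 1 := by
        rw [show z = x⁻¹ * (x * z * x⁻¹) * x by group, ← ec]; group
      exact A.psi_ne_one (by norm_num) (by norm_num) this
    · exact mul_inv_eq_iff_eq_mul.1 (by rw [← ec, hz])
  have hcode : ∀ x : G, x ∈ Subgroup.normalizer (A.P : Set G) →
      ∃ c, c < 576 ∧ A.psi c = x ∧ cjC c 144 ∈ pCodes ∧ cjC c 12 ∈ pCodes := by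
    intro x hx
    have h1 : ∀ p ∈ A.P, x * p * x⁻¹ ∈ A.P := fun p hp => (Subgroup.mem_normalizer_iff.1 hx p).1 hp
    have h2 : ∀ p ∈ A.P, x⁻¹ * p * x ∈ A.P := fun p hp => by
      have := (Subgroup.mem_normalizer_iff.1 (inv_mem hx) p).1 hp
      simpa using this
    obtain ⟨c, hc, rfl⟩ := A.cent x (by rw [← A.psi_288]; exact hN x h1 h2)
    have key : ∀ d ∈ pCodes, cjC c d ∈ pCodes := fun d hd => by
      obtain ⟨e, he, ee⟩ := h1 _ ⟨d, hd, rfl⟩
      rwa [← A.inj e _ (p_facts.1 e he).1 (cjC_lt hc (p_facts.1 d hd).1)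
        (ee.trans (A.psi_cj hc (p_facts.1 d hd).1).symm)]
    exact ⟨c, hc, rfl, key 144 (by decide), key 12 (by decide)⟩
  have hPp : IsPGroup 3 A.P := IsPGroup.iff_card.2 ⟨2, by rw [A.card_P]; norm_num⟩
  obtain ⟨S, hS⟩ := hPp.exists_le_sylow
  have hSP : (S : Subgroup G) = A.P := by
    refine le_antisymm ?_ hS
    by_contra hne
    haveI : Group.IsNilpotent ↥(S : Subgroup G) := S.2.isNilpotent
    have hlt : A.P.subgroupOf (S : Subgroup G) < ⊤ :=
      lt_top_iff_ne_top.2 fun e => hne (Subgroup.subgroupOf_eq_top.1 e)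
    obtain ⟨x, hxN, hxP⟩ := SetLike.exists_of_lt (Group.normalizerCondition_of_isNilpotent _ hlt)
    have hx : (x : G) ∈ Subgroup.normalizer (A.P : Set G) := by
      refine Subgroup.mem_normalizer_iff.2 fun p => ?_
      constructor
      · intro hp
        have := (Subgroup.mem_normalizer_iff.1 hxN ⟨p, hS hp⟩).1 hp
        simpa [Subgroup.mem_subgroupOf] using this
      · intro hp
        have hpS : p ∈ (S : Subgroup G) := by
          have := mul_mem (mul_mem (inv_mem x.2) (hS hp)) x.2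
          rwa [show (x : G)⁻¹ * ((x : G) * p * (x : G)⁻¹) * (x : G) = p by group] at this
        have := (Subgroup.mem_normalizer_iff.1 hxN ⟨p, hpS⟩).2 (by simpa [Subgroup.mem_subgroupOf] using hp)
        exact this
    obtain ⟨c, hc, ec, h1, h2⟩ := hcode x hx
    have h9 : powC c 9 = 0 := by
      refine A.inj _ _ (A.pow_psi hc 9).1 (by norm_num) ?_
      rw [(A.pow_psi hc 9).2, ec, A.psi_zero]
      obtain ⟨k, hk⟩ := IsPGroup.iff_orderOf.1 S.2 x
      have hd : orderOf (x : G) ∣ 9 := by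
        rw [Subgroup.orderOf_coe, hk]
        have h24 : orderOf (x : G) ∣ 24 := orderOf_dvd_of_pow_eq_one (by
          rw [← ec, ← (A.pow_psi hc 24).2, pow_exponent ⟨c, hc⟩, A.psi_zero])
        rw [Subgroup.orderOf_coe, hk, show (24 : ℕ) = 8 * 3 by norm_num] at h24
        exact ((Nat.Coprime.pow_left k (by norm_num : Nat.Coprime 3 8)).dvd_of_dvd_mul_left h24).trans (by norm_num)
      exact orderOf_dvd_iff_pow_eq_one.1 hd
    exact hxP (show (x : G) ∈ A.P from ⟨c, norm_nine ⟨c, hc⟩ h9 h1 h2, ec⟩)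
  have hab : IsMulCommutative (S : Subgroup G) := ⟨⟨fun x y => Subtype.ext (A.P_comm (hSP ▸ x.2) (hSP ▸ y.2))⟩⟩
  have hnc : ¬ IsCyclic (S : Subgroup G) := fun hc => by
    rw [hSP] at hc
    obtain ⟨x, hx⟩ := hc.exists_ofOrder_eq_natCard
    rw [A.card_P] at hx
    have : orderOf x ∣ 3 := orderOf_dvd_of_pow_eq_one (Subtype.ext (A.P_cube x.2))
    rw [hx] at this
    norm_num at this
  have hcentP : Subgroup.centralizer ((A.P : Subgroup G) : Set G) = A.C := by
    ext x
    constructor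
    · intro hx
      exact A.mem_C.2 ⟨(Subgroup.mem_centralizer_iff.1 hx _ ⟨144, by decide, rfl⟩).symm,
        (Subgroup.mem_centralizer_iff.1 hx _ ⟨12, by decide, rfl⟩).symm⟩
    · intro hx
      obtain ⟨c, hc, rfl⟩ := A.C_z hx (hC x hx)
      refine Subgroup.mem_centralizer_iff.2 ?_
      rintro _ ⟨d, hd, rfl⟩
      have key : ∀ c ∈ clCodes, ∀ d ∈ pCodes, mulC d c = mulC c d := by decide +kernel
      rw [← A.psi_mul (p_facts.1 d hd).1 (p_facts.2.2.1 c hc).1,
        ← A.psi_mul (p_facts.2.2.1 c hc).1 (p_facts.1 d hd).1, key c hc d hd]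
  have hidx : ((Subgroup.centralizer ((S : Subgroup G) : Set G)).subgroupOf
      (Subgroup.normalizer ((S : Subgroup G) : Set G))).index = 2 := by
    rw [hSP, hcentP]
    have h157 : A.psi 157 ∈ Subgroup.normalizer (A.P : Set G) := by
      refine Subgroup.mem_normalizer_iff.2 fun p => ?_
      have hcj : ∀ q ∈ A.P, A.psi 157 * q * (A.psi 157)⁻¹ = q⁻¹ := by
        rintro _ ⟨c, hc, rfl⟩
        rw [← A.psi_cj (by norm_num) (p_facts.1 c hc).1, (p_facts.1 c hc).2.2.2.1, A.psi_inv (p_facts.1 c hc).1]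
      refine ⟨fun hp => by rw [hcj p hp]; exact inv_mem hp, fun hp => ?_⟩
      have h2 := hcj _ hp
      have hs : A.psi 157 * A.psi 157 = 1 := by
        rw [← A.psi_mul (by norm_num) (by norm_num), p_facts.2.2.2.1, A.psi_zero]
      rw [show A.psi 157 * (A.psi 157 * p * (A.psi 157)⁻¹) * (A.psi 157)⁻¹ =
        (A.psi 157 * A.psi 157) * p * (A.psi 157 * A.psi 157)⁻¹ by group, hs] at h2
      simp only [one_mul, inv_one, mul_one] at h2
      rw [h2]; exact inv_mem hp
    refine Subgroup.index_eq_two_iff.2 ⟨⟨_, h157⟩, fun b => ?_⟩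
    obtain ⟨c, hc, ec, h1, h2⟩ := hcode b b.2
    have key := norm_index ⟨c, hc⟩ h1 h2
    have hmem : ∀ d, d < 576 → (A.psi d ∈ A.C ↔ d ∈ clCodes) := fun d hd => by
      constructor
      · intro h
        obtain ⟨e, he, ee⟩ := A.C_z h (hC _ h)
        rwa [← A.inj e d (p_facts.2.2.1 e he).1 hd ee]
      · intro h
        obtain ⟨k1, k2⟩ := (cl_iff ⟨d, hd⟩).2 h
        exact A.mem_C.2 ⟨by rw [← A.psi_mul hd (by norm_num), k1, A.psi_mul (by norm_num) hd],
          by rw [← A.psi_mul hd (by norm_num), k2, A.psi_mul (by norm_num) hd]⟩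
    simp only [Subgroup.mem_subgroupOf, Subgroup.coe_mul, ← ec]
    rw [← A.psi_mul hc (by norm_num), hmem _ (mulC_lt hc (by norm_num)), hmem _ hc]
    by_cases hcc : c ∈ clCodes
    · exact Or.inr ⟨hcc, fun h => key.1 h hcc⟩
    · exact Or.inl ⟨key.2 hcc, hcc⟩
  rcases Cfsg.Agent.S3347.result 3 (by norm_num) S hab hnc hidx with hres | hl
  · refine hres (Solv.eq_top_of_forall_sylow_le _ fun p hp => ?_)
    by_cases hp3 : p = 3
    · subst hp3
      refine ⟨S, ?_⟩
      rw [hSP]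
      rintro _ ⟨c, hc, rfl⟩
      have h2o : ∀ d, d < 576 → mulC d d = 0 → A.psi d ∈ Cfsg.pResidual 3 G := fun d hd h =>
        Subgroup.subset_closure (show Nat.Coprime (orderOf (A.psi d)) 3 from
          Nat.Coprime.coprime_dvd_left (orderOf_dvd_of_pow_eq_one (by
            rw [pow_two, ← A.psi_mul hd hd, h, A.psi_zero]) : orderOf (A.psi d) ∣ 2) (by norm_num))
      have hp' : ∀ c ∈ pCodes, ∃ d, d < 576 ∧ mulC d d = 0 ∧ mulC 157 d = c := by
        have key : ∀ c ∈ pCodes, mulC (mulC 157 c) (mulC 157 c) = 0 ∧ mulC 157 (mulC 157 c) = c := by decide +kernel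
        exact fun c hc => ⟨_, mulC_lt (by norm_num) (p_facts.1 c hc).1, key c hc⟩
      obtain ⟨d, hd, hdd, hdc⟩ := hp' c hc
      rw [← hdc, A.psi_mul (by norm_num) hd]
      exact mul_mem (h2o 157 (by norm_num) p_facts.2.2.2.1) (h2o d hd hdd)
    · obtain ⟨Q⟩ : Nonempty (Sylow p G) := inferInstance
      refine ⟨Q, fun x hx => Subgroup.subset_closure ?_⟩
      obtain ⟨k, hk⟩ := IsPGroup.iff_orderOf.1 Q.2 ⟨x, hx⟩
      show Nat.Coprime (orderOf x) 3
      rw [← Subgroup.orderOf_mk x hx, hk]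
      exact Nat.Coprime.pow_left k ((Nat.coprime_primes hp.out (by norm_num)).2 hp3)
  · have hl' : (upperPSeries 3 G 3).1 = ⊤ := hl
    set T : Subgroup G := (upperPSeries 3 G 2).1 with hT
    haveI hTn : T.Normal := (upperPSeries 3 G 2).2
    set U : Subgroup G := (upperPSeries 3 G 1).1 with hU
    haveI hUn : U.Normal := (upperPSeries 3 G 1).2
    have hT2 : T = (Cfsg.pCore 3 (G ⧸ U)).comap (QuotientGroup.mk' U) := by
      rw [hT, upperPSeries, if_neg (by decide)]
    have h3 : Cfsg.pPrimeCore 3 (G ⧸ T) = ⊤ := by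
      rw [upperPSeries, if_pos (by decide)] at hl'
      exact Subgroup.comap_injective (QuotientGroup.mk'_surjective T) (hl'.trans (Subgroup.comap_top _).symm)
    have hcop : Nat.Coprime (Nat.card (G ⧸ T)) 3 := by
      have := Fusion.card_pPrimeCore_coprime 3 (G ⧸ T)
      rwa [h3, Subgroup.card_top] at this
    have hT3 : ∀ x : G, x ^ 3 = 1 → x ∈ T := fun x hx => by
      refine (QuotientGroup.eq_one_iff x).1 (orderOf_eq_one_iff.1 ?_)
      exact Nat.eq_one_of_dvd_coprimes hcop (orderOf_dvd_natCard _)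
        (orderOf_dvd_of_pow_eq_one (by rw [← QuotientGroup.mk_pow, hx, QuotientGroup.mk_one]))
    have hU3 : ∀ x ∈ T, x * x = 1 → x ∈ U := fun x hxT hx => by
      rw [hT2] at hxT
      obtain ⟨k, hk⟩ := IsPGroup.iff_orderOf.1 (Fusion.isPGroup_pCore 3 (G ⧸ U)) ⟨_, hxT⟩
      refine (QuotientGroup.eq_one_iff x).1 (orderOf_eq_one_iff.1 ?_)
      refine Nat.eq_one_of_dvd_coprimes ((by norm_num : Nat.Coprime 2 3).pow_right k)
        (orderOf_dvd_of_pow_eq_one (by rw [pow_two, ← QuotientGroup.mk_mul, hx, QuotientGroup.mk_one])) ?_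
      rw [← hk, ← Subgroup.orderOf_coe]
      exact dvd_rfl
    have hcu : Nat.Coprime (Nat.card U) 3 := by
      have hU' : U = (Cfsg.pPrimeCore 3 (G ⧸ (⊥ : Subgroup G))).comap (QuotientGroup.mk' ⊥) := by
        rw [hU, upperPSeries, if_pos Even.zero]; rfl
      let e : U →* ↥(Cfsg.pPrimeCore 3 (G ⧸ (⊥ : Subgroup G))) :=
        ((QuotientGroup.mk' (⊥ : Subgroup G)).comp U.subtype).codRestrict _ fun u => by
          exact (congrArg (fun K : Subgroup G => (u : G) ∈ K) hU').mp u.2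
      have he : Function.Injective e := fun a b h => Subtype.ext
        (QuotientGroup.quotientBot.symm.injective (congrArg Subtype.val h))
      exact Nat.Coprime.coprime_dvd_left (Subgroup.card_dvd_of_injective e he) (Fusion.card_pPrimeCore_coprime 3 _)
    have key : mulC 8 1 = 9 ∧ mulC 144 (mulC 1 (mulC 216 1)) = 216 ∧ powC 8 3 = 0 ∧ powC 216 3 = 0 ∧
        mulC 1 1 = 0 := by decide +kernel
    obtain ⟨k1, k2, k3, k4, k5⟩ := key
    have t2' : A.psi 1 * A.psi 1 = 1 := by rw [← A.psi_mul (by norm_num) (by norm_num), k5, A.psi_zero]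
    have gT := hT3 _ A.g3
    have dT : A.psi 8 ∈ T := hT3 _ (by rw [← (A.pow_psi (by norm_num) 3).2, k3, A.psi_zero])
    have tT : A.psi 1 ∈ T := by
      have h7 : (A.psi 8 * A.psi 1 * A.g) ^ 7 = 1 := by
        rw [← A.psi_mul (by norm_num) (by norm_num), k1]; exact A.seven
      refine (QuotientGroup.eq_one_iff _).1 ?_
      have := congrArg (QuotientGroup.mk' T) h7
      simp only [map_pow, map_mul, map_one, QuotientGroup.mk'_apply, (QuotientGroup.eq_one_iff _).2 dT,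
        (QuotientGroup.eq_one_iff _).2 gT, one_mul, mul_one] at this
      have h2 : (A.psi 1 : G ⧸ T) * A.psi 1 = 1 := by rw [← QuotientGroup.mk_mul, t2', QuotientGroup.mk_one]
      rw [show (7 : ℕ) = 2 * 3 + 1 from rfl, pow_succ, pow_mul, pow_two, h2, one_pow, one_mul] at this
      exact this
    have tU := hU3 _ tT t2'
    have aU : A.psi 216 ∈ U := by
      rw [← k2, A.psi_mul (by norm_num) (mulC_lt (by norm_num) (mulC_lt (by norm_num) (by norm_num))),
        A.psi_mul (by norm_num) (mulC_lt (by norm_num) (by norm_num)), A.psi_mul (by norm_num) (by norm_num),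
        show A.psi 144 * (A.psi 1 * (A.psi 216 * A.psi 1)) = (A.psi 144 * A.psi 1 * A.psi 216) * A.psi 1 by group,
        show A.psi 216 = (A.psi 144)⁻¹ by rw [← A.psi_inv (by norm_num), show invC 144 = 216 by decide +kernel]]
      exact mul_mem (hUn.conj_mem _ tU _) tU
    refine A.psi_ne_one (x := 216) (by norm_num) (by norm_num) (orderOf_eq_one_iff.1 ?_)
    refine Nat.eq_one_of_dvd_coprimes hcu ?_ (orderOf_dvd_of_pow_eq_one (n := 3)
      (by rw [← (A.pow_psi (by norm_num) 3).2, k4, A.psi_zero]))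
    rw [← Subgroup.orderOf_mk _ aU]
    exact orderOf_dvd_natCard _

/-- a new element of order three -/
structure New (A : Amal G) (y : G) : Prop where
  cube : y ^ 3 = 1
  ca : y * A.psi 144 = A.psi 144 * y
  cc : y * A.psi 12 = A.psi 12 * y
  ct : y * A.psi 157 = A.psi 157 * y
  zinv : A.psi 288 * y * (A.psi 288)⁻¹ = y⁻¹
  code : ∃ c ∈ yCodes, y = A.W * A.psi c * A.W⁻¹

include A in
theorem exists_new [Finite G] : ∃ (A' : Amal G) (y : G), New A' y := by
  haveI : Fact (Nat.Prime 2) := ⟨Nat.prime_two⟩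
  set z := A.psi 288 with hz
  have hz2 : z * z = 1 := by
    rw [hz, ← A.psi_mul (by norm_num) (by norm_num), show mulC 288 288 = 0 by decide +kernel, A.psi_zero]
  have zC : z ∈ A.C := by
    have key : mulC 288 144 = mulC 144 288 ∧ mulC 288 12 = mulC 12 288 := by decide +kernel
    exact A.mem_C.2 ⟨by rw [hz, ← A.psi_mul (by norm_num) (by norm_num), key.1, A.psi_mul (by norm_num) (by norm_num)],
      by rw [hz, ← A.psi_mul (by norm_num) (by norm_num), key.2, A.psi_mul (by norm_num) (by norm_num)]⟩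
  set zC' : ↥A.C := ⟨z, zC⟩ with hzC'
  have hz1 : zC' ≠ 1 := fun e => A.psi_ne_one (by norm_num) (by norm_num) (congrArg Subtype.val e)
  have hzp : IsPGroup 2 (Subgroup.zpowers zC') := by
    refine IsPGroup.iff_card.2 ⟨1, ?_⟩
    rw [Nat.card_zpowers, pow_one]
    exact orderOf_eq_prime (Subtype.ext (show z ^ 2 = 1 by rw [pow_two, hz2])) hz1
  obtain ⟨S, hS⟩ := hzp.exists_le_sylow
  have hzS : zC' ∈ (S : Subgroup ↥A.C) := hS (Subgroup.mem_zpowers _)
  have small : ∀ w : ↥A.C, w ∈ (S : Subgroup ↥A.C) → (w : G) * z = z * w → w = 1 ∨ w = zC' := by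
    intro w hw hwz
    obtain ⟨c, hc, ec⟩ := A.C_z w.2 hwz
    obtain ⟨k, hk⟩ := IsPGroup.iff_orderOf.1 S.2 ⟨w, hw⟩
    have hlt := (p_facts.2.2.1 c hc).1
    have h18 : orderOf (w : G) ∣ 2 := by
      have h18' : orderOf (w : G) ∣ 18 := orderOf_dvd_of_pow_eq_one (by
        rw [← ec, ← (A.pow_psi hlt 18).2, (cl_eighteen c hc).1, A.psi_zero])
      rw [Subgroup.orderOf_coe, ← Subgroup.orderOf_mk w hw, hk] at h18' ⊢
      rw [show (18 : ℕ) = 9 * 2 by norm_num] at h18'
      exact (Nat.Coprime.pow_left k (by norm_num : Nat.Coprime 2 9)).dvd_of_dvd_mul_left h18'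
    have h2 := orderOf_dvd_iff_pow_eq_one.1 h18
    rcases cl_two c hc (A.inj _ _ (mulC_lt hlt hlt) (by norm_num)
      (by rw [A.psi_mul hlt hlt, ec, ← pow_two, h2, A.psi_zero])) with rfl | rfl
    · exact Or.inl (Subtype.ext (by rw [← ec, A.psi_zero]; rfl))
    · exact Or.inr (Subtype.ext ec.symm)
  have hScard : ∀ w ∈ (S : Subgroup ↥A.C), w = 1 ∨ w = zC' := by
    have hcz : ∀ w ∈ (S : Subgroup ↥A.C), w * zC' = zC' * w := by
      by_cases hnt : Nontrivial ↥(S : Subgroup ↥A.C)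
      · haveI := hnt
        haveI := IsPGroup.center_nontrivial S.2
        obtain ⟨w, hw⟩ := exists_ne (1 : ↥(Subgroup.center ↥(S : Subgroup ↥A.C)))
        have hwc := Subgroup.mem_center_iff.1 w.2
        have hwz : ((w.1.1 : ↥A.C) : G) * z = z * (w.1.1 : ↥A.C) :=
          congrArg (fun x : ↥(S : Subgroup ↥A.C) => ((x : ↥A.C) : G)) (hwc ⟨zC', hzS⟩).symm
        rcases small _ w.1.2 hwz with e | e
        · exact absurd (Subtype.ext (Subtype.ext e)) hw
        · intro v hv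
          have := congrArg (fun x : ↥(S : Subgroup ↥A.C) => (x : ↥A.C)) (hwc ⟨v, hv⟩)
          simp only [Subgroup.coe_mul, e] at this
          exact this
      · intro w hw
        rw [not_nontrivial_iff_subsingleton] at hnt
        have e1 : (⟨w, hw⟩ : ↥(S : Subgroup ↥A.C)) = 1 := Subsingleton.elim _ _
        rw [show w = 1 from congrArg Subtype.val e1, one_mul, mul_one]
    exact fun w hw => small w hw (congrArg Subtype.val (hcz w hw))
  have hNS : Subgroup.normalizer ((S : Subgroup ↥A.C) : Set ↥A.C) ≤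
      Subgroup.centralizer ((S : Subgroup ↥A.C) : Set ↥A.C) := by
    intro x hx
    refine Subgroup.mem_centralizer_iff.2 fun w hw => ?_
    rcases hScard w hw with rfl | rfl
    · simp
    · rcases hScard _ ((Subgroup.mem_normalizer_iff.1 hx zC').1 hzS) with e | e
      · exact absurd (mul_left_cancel ((mul_inv_eq_one.1 e).trans (mul_one x).symm)) hz1
      · exact (mul_inv_eq_iff_eq_mul.1 e).symm
  have hcompl := MonoidHom.ker_transferSylow_isComplement' S hNS
  set O' := (MonoidHom.transferSylow S hNS).ker with hO'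
  have hScard2 : Nat.card ↥(S : Subgroup ↥A.C) = 2 := by
    have : (((S : Subgroup ↥A.C)) : Set ↥A.C) = {1, zC'} := by
      ext w
      refine ⟨fun h => by rcases hScard w h with e | e <;> simp [e], ?_⟩
      rintro (rfl | rfl)
      · exact one_mem _
      · exact hzS
    rw [← SetLike.coe_sort_coe, this, Nat.card_coe_set_eq, Set.ncard_pair (Ne.symm hz1)]
  have hOodd : Odd (Nat.card O') := by
    have h1 : O'.index = 2 := by rw [← hScard2]; exact hcompl.symm.index_eq_card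
    have h2 := S.not_dvd_index
    have h3 := O'.card_mul_index
    have h4 := (S : Subgroup ↥A.C).card_mul_index
    rw [h1] at h3
    rw [hScard2] at h4
    rw [Nat.odd_iff]
    have : Nat.card O' = (S : Subgroup ↥A.C).index := by omega
    rw [this]
    omega
  have hmemO : ∀ x : ↥A.C, x ∈ O' ↔ Odd (orderOf x) := fun x => by
    constructor
    · intro hx
      exact Odd.of_dvd_nat hOodd (Subgroup.orderOf_dvd_natCard O' hx)
    · intro hx
      have hd : orderOf (MonoidHom.transferSylow S hNS x) ∣ 2 := by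
        have h := orderOf_dvd_natCard (MonoidHom.transferSylow S hNS x)
        rwa [hScard2] at h
      refine MonoidHom.mem_ker.2 (orderOf_eq_one_iff.1 ?_)
      exact Nat.eq_one_of_dvd_coprimes (Nat.Coprime.coprime_dvd_left hd (Nat.coprime_two_left.2 hx)) dvd_rfl
        (orderOf_map_dvd _ x)
  set O : Subgroup G := O'.map A.C.subtype with hO
  have memO : ∀ {x : G}, x ∈ O ↔ x ∈ A.C ∧ Odd (orderOf x) := by
    intro x
    constructor
    · rintro ⟨w, hw, rfl⟩
      exact ⟨w.2, by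
        show Odd (orderOf (w : G))
        rw [Subgroup.orderOf_coe]; exact (hmemO w).1 hw⟩
    · rintro ⟨hx, ho⟩
      exact ⟨⟨x, hx⟩, (hmemO _).2 (by rwa [Subgroup.orderOf_mk]), rfl⟩
  have hPcl : ∀ {x : G}, x ∈ O → x * z = z * x → x ∈ A.P := by
    intro x hx hxz
    obtain ⟨hxC, ho⟩ := memO.1 hx
    obtain ⟨c, hc, ec⟩ := A.C_z hxC hxz
    have hlt := (p_facts.2.2.1 c hc).1
    refine ⟨c, (cl_eighteen c hc).2.1 (A.inj _ _ (A.pow_psi hlt 9).1 (by norm_num) ?_), ec⟩
    rw [(A.pow_psi hlt 9).2, A.psi_zero, ec]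
    have h18' : orderOf x ∣ 2 * 9 := orderOf_dvd_of_pow_eq_one (by
      rw [← ec, show 2 * 9 = 18 from rfl, ← (A.pow_psi hlt 18).2, (cl_eighteen c hc).1, A.psi_zero])
    exact orderOf_dvd_iff_pow_eq_one.1 ((Nat.coprime_two_right.2 ho).dvd_of_dvd_mul_left h18')
  have z_inv_P : ∀ p ∈ A.P, z * p * z⁻¹ = p := by
    intro p hp
    obtain ⟨c, hc, rfl⟩ := hp
    have key : ∀ c ∈ pCodes, mulC 288 c = mulC c 288 := by decide +kernel
    rw [hz, ← A.psi_mul (by norm_num) (p_facts.1 c hc).1, key c hc, A.psi_mul (p_facts.1 c hc).1 (by norm_num),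
      mul_inv_cancel_right]
  set u := A.psi 157 with hu
  have hu2 : u * u = 1 := by rw [hu, ← A.psi_mul (by norm_num) (by norm_num), p_facts.2.2.2.1, A.psi_zero]
  have u_inv_P : ∀ p ∈ A.P, u * p * u⁻¹ = p⁻¹ := by
    rintro _ ⟨c, hc, rfl⟩
    rw [hu, ← A.psi_cj (by norm_num) (p_facts.1 c hc).1, (p_facts.1 c hc).2.2.2.1, A.psi_inv (p_facts.1 c hc).1]
  have huz : u * z = z * u := by
    rw [hu, hz, ← A.psi_mul (by norm_num) (by norm_num), show mulC 157 288 = mulC 288 157 by decide +kernel,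
      A.psi_mul (by norm_num) (by norm_num)]
  have normO : ∀ v : G, (∀ p ∈ A.P, v * p * v⁻¹ ∈ A.P) → (∀ p ∈ A.P, v⁻¹ * p * v ∈ A.P) →
      ∀ x ∈ O, v * x * v⁻¹ ∈ O := fun v h1 h2 x hx => by
    obtain ⟨hxC, ho⟩ := memO.1 hx
    refine memO.2 ⟨A.conj_C h1 h2 hxC, ?_⟩
    rw [show v * x * v⁻¹ = (MulAut.conj v).toMonoidHom x by simp, orderOf_injective _ (MulAut.conj v).injective]
    exact ho
  have hui : u⁻¹ = u := inv_eq_of_mul_eq_one_right hu2
  have hzi : z⁻¹ = z := inv_eq_of_mul_eq_one_right hz2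
  have nu : ∀ x ∈ O, u * x * u⁻¹ ∈ O :=
    normO u (fun p hp => by rw [u_inv_P p hp]; exact inv_mem hp)
      (fun p hp => by rw [hui]; have := u_inv_P p hp; rw [hui] at this; rw [this]; exact inv_mem hp)
  have nz : ∀ x ∈ O, z * x * z⁻¹ ∈ O :=
    normO z (fun p hp => by rw [z_inv_P p hp]; exact hp)
      (fun p hp => by rw [hzi]; have := z_inv_P p hp; rw [hzi] at this; rw [this]; exact hp)
  have nzu : ∀ x ∈ O, (z * u) * x * (z * u)⁻¹ ∈ O := fun x hx => by
    rw [show z * u * x * (z * u)⁻¹ = z * (u * x * u⁻¹) * z⁻¹ by group]; exact nz _ (nu x hx)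
  obtain ⟨v, hv, x, hxO, hx1, hxv⟩ : ∃ v, (v = u ∨ v = z * u) ∧ ∃ x ∈ O, x ≠ 1 ∧ v * x = x * v := by
    by_contra hc
    push Not at hc
    have i1 := inverts O u hu2 nu fun x hx e => by
      by_contra h; exact hc u (Or.inl rfl) x hx h e
    have i2 := inverts O (z * u) (by rw [mul_assoc, ← mul_assoc u, huz, mul_assoc z u, hu2, mul_one, hz2]) nzu
      fun x hx e => by by_contra h; exact hc (z * u) (Or.inr rfl) x hx h e
    have allz : ∀ x ∈ O, x * z = z * x := fun x hx => by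
      have h1 := i2 _ (nu x hx)
      rw [show z * u * (u * x * u⁻¹) * (z * u)⁻¹ = z * (u * u * x * (u * u)⁻¹) * z⁻¹ by group, hu2, one_mul,
        inv_one, mul_one, i1 x hx, inv_inv] at h1
      exact (mul_inv_eq_iff_eq_mul.1 h1).symm
    refine A.not_odd_only fun x hx => ?_
    obtain ⟨⟨⟨o, ho⟩, ⟨s, hs⟩⟩, hos⟩ := hcompl.2 ⟨x, hx⟩
    have e : x = (o : G) * s := congrArg Subtype.val hos.symm
    have c1 := allz o ⟨o, ho, rfl⟩
    rcases hScard s hs with rfl | rfl
    · simpa [e] using c1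
    · rw [e]; show (o : G) * z * z = z * ((o : G) * z)
      rw [← mul_assoc z, ← c1]
  have finish : ∀ B : Amal G, B.psi 288 = z → B.P = A.P → B.psi 157 = v → ∃ y, New B y := by
    intro B hBz hBP hBv
    set K : Subgroup G := O ⊓ Subgroup.centralizer {v} with hK
    have memK : ∀ {w : G}, w ∈ K ↔ w ∈ O ∧ w * v = v * w := by
      intro w; simp [hK, Subgroup.mem_centralizer_iff, eq_comm]
    have hzv : z * v = v * z := by
      rcases hv with rfl | rfl
      · exact huz.symm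
      · rw [mul_assoc z u z, huz]
    have vP : ∀ p ∈ A.P, v * p * v⁻¹ = p⁻¹ := by
      intro p hp
      rcases hv with rfl | rfl
      · exact u_inv_P p hp
      · rw [show z * u * p * (z * u)⁻¹ = z * (u * p * u⁻¹) * z⁻¹ by group, u_inv_P p hp, z_inv_P _ (inv_mem hp)]
    have inv := inverts K z hz2 (fun w hw => by
      obtain ⟨h1, h2⟩ := memK.1 hw
      refine memK.2 ⟨nz w h1, ?_⟩
      calc z * w * z⁻¹ * v = z * w * (z⁻¹ * v) := by group
        _ = z * (w * v) * z⁻¹ := by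
            rw [show z⁻¹ * v = v * z⁻¹ from ((show Commute z v from hzv).inv_left).eq]; group
        _ = z * (v * w) * z⁻¹ := by rw [h2]
        _ = v * (z * w * z⁻¹) := by rw [← mul_assoc z, hzv]; group) fun w hw e => by
      obtain ⟨h1, h2⟩ := memK.1 hw
      have hP := hPcl h1 e.symm
      have h3 : w⁻¹ = w := by rw [← vP w hP, ← h2, mul_inv_cancel_right]
      have h4 : w * w = 1 := by nth_rw 1 [← h3]; exact inv_mul_cancel w
      calc w = w ^ 3 * (w * w)⁻¹ := by group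
        _ = 1 := by rw [A.P_cube hP, h4]; simp
    have hxK : x ∈ K := memK.2 ⟨hxO, hxv.symm⟩
    have hxz := inv x hxK
    have hcz : (B.W⁻¹ * x * B.W) * B.psi 288 = B.psi 288 * (B.W⁻¹ * x * B.W) := by
      have hW := B.W_z
      rw [hBv] at hW
      calc (B.W⁻¹ * x * B.W) * B.psi 288 = B.W⁻¹ * (x * (B.W * B.psi 288 * B.W⁻¹)) * B.W := by group
        _ = B.W⁻¹ * (B.W * B.psi 288 * B.W⁻¹ * x) * B.W := by rw [hW, hxv]
        _ = _ := by group
    obtain ⟨c, hc, ec⟩ := B.cent (B.W⁻¹ * x * B.W) (by rw [← B.psi_288]; exact hcz)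
    have ho : Odd (orderOf (B.psi c)) := by
      rw [ec, show B.W⁻¹ * x * B.W = (MulAut.conj B.W⁻¹).toMonoidHom x by simp,
        orderOf_injective _ (MulAut.conj B.W⁻¹).injective]
      exact (memO.1 hxO).2
    have h9 : powC c 9 = 0 := by
      refine B.inj _ _ (B.pow_psi hc 9).1 (by norm_num) ?_
      rw [(B.pow_psi hc 9).2, B.psi_zero]
      have hd : orderOf (B.psi c) ∣ 8 * 3 := orderOf_dvd_of_pow_eq_one (by
        rw [show 8 * 3 = 24 from rfl, ← (B.pow_psi hc 24).2, pow_exponent ⟨c, hc⟩, B.psi_zero])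
      exact orderOf_dvd_iff_pow_eq_one.1
        ((((show Nat.Coprime (orderOf (B.psi c)) 8 from (Nat.coprime_two_right.2 ho).pow_right 3)).dvd_of_dvd_mul_left
          hd).trans (by norm_num))
    have h3 := nine_to_three ⟨c, hc⟩ h9
    have hx3 : x ^ 3 = 1 := by
      rw [show x = B.W * B.psi c * B.W⁻¹ by rw [ec]; group, conj_pow, ← (B.pow_psi hc 3).2, h3, B.psi_zero]
      group
    have hc0 : c ≠ 0 := fun e => hx1 (by
      rw [e, B.psi_zero] at ec
      rw [show x = B.W * (B.W⁻¹ * x * B.W) * B.W⁻¹ by group, ← ec]; group)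
    have hinvc : cjC 157 c = invC c := by
      refine B.inj _ _ (cjC_lt (by norm_num) hc) (invC_lt ⟨c, hc⟩) ?_
      rw [B.psi_cj (by norm_num) hc, B.psi_inv hc, ← B.W_back, ec, hBz]
      calc B.W⁻¹ * z * B.W * (B.W⁻¹ * x * B.W) * (B.W⁻¹ * z * B.W)⁻¹ = B.W⁻¹ * (z * x * z⁻¹) * B.W := by group
        _ = _ := by rw [hxz]; group
    obtain ⟨hxC, -⟩ := memO.1 hxO
    have hxP : ∀ p ∈ A.P, x * p = p * x := fun p hp => by
      obtain ⟨d, hd, rfl⟩ := hp
      have key : ∀ c ∈ pCodes, ∃ i < 3, ∃ j < 3, c = mulC (powC 144 i) (powC 12 j) := by decide +kernel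
      obtain ⟨i, -, j, -, rfl⟩ := key d hd
      obtain ⟨l1, e1⟩ := A.pow_psi (x := 144) (by norm_num) i
      obtain ⟨l2, e2⟩ := A.pow_psi (x := 12) (by norm_num) j
      rw [A.psi_mul l1 l2, e1, e2]
      exact (((show Commute x (A.psi 144) from (A.mem_C.1 hxC).1).pow_right i).mul_right
        ((show Commute x (A.psi 12) from (A.mem_C.1 hxC).2).pow_right j)).eq
    have hab : ∀ d ∈ pCodes, x * B.psi d = B.psi d * x := fun d hd =>
      hxP _ (hBP ▸ (show B.psi d ∈ B.P from ⟨d, hd, rfl⟩))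
    have hxeq : x = B.W * B.psi c * B.W⁻¹ := by rw [ec]; group
    rcases y_class ⟨c, hc⟩ hc0 h3 hinvc with hy | hy
    · exact ⟨x, hx3, hab 144 (by decide), hab 12 (by decide), by rw [hBv]; exact hxv.symm, by rw [hBz]; exact hxz,
        c, hy, hxeq⟩
    · refine ⟨x⁻¹, by rw [inv_pow, hx3, inv_one], ((show Commute x _ from hab 144 (by decide)).inv_left).eq,
        ((show Commute x _ from hab 12 (by decide)).inv_left).eq, ?_, ?_, invC c, hy, ?_⟩
      · rw [hBv]; exact ((show Commute x v from hxv.symm).inv_left).eq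
      · rw [hBz, ← conj_inv, hxz]
      · rw [B.psi_inv hc, hxeq]; group
  rcases hv with hv | hv
  · exact ⟨A, finish A rfl rfl hv.symm⟩
  · obtain ⟨B, hB⟩ := A.exists_swap
    refine ⟨B, finish B (by rw [hB _ (by norm_num), show swapC 288 = 288 by decide +kernel]) ?_ ?_⟩
    · have key : ∀ c ∈ pCodes, swapC c ∈ pCodes ∧ swapC (swapC c) = c := by decide +kernel
      ext w
      constructor
      · rintro ⟨c, hc, rfl⟩
        exact ⟨_, (key c hc).1, (hB c (p_facts.1 c hc).1).symm⟩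
      · rintro ⟨c, hc, rfl⟩
        exact ⟨_, (key c hc).1, by rw [hB _ (p_facts.1 _ (key c hc).1).1, (key c hc).2]⟩
    · rw [hB _ (by norm_num), show swapC 157 = mulC 288 157 by decide +kernel, A.psi_mul (by norm_num) (by norm_num), hv]

end Amal

end Cfsg.Agent.GTwoTwoLocal
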